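import Cfsg.Agent.Lib.OddOrder.Found.Galois
import Cfsg.Agent.Lib.CharTheory.CoherenceUnion
import Cfsg.Agent.Lib.CharTheory.Signed
import Cfsg.Agent.Lib.OddOrder.S10.Bessel

/-!
Peterfalvi section 5 complements: the shape of a coherent image (5.5), gluing two coherent pieces by one bridge,
change of the support set, and compatibility of coherent extensions with field automorphisms.
-/

set_option autoImplicit false
set_option linter.unusedSectionVars false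

namespace CfsgLib.OddOrder.Found

open Cfsg CfsgLib.CharTheory
open scoped ComplexConjugate

universe u v

variable {L : Type u} [Group L] [Fintype L] {G : Type v} [Group G] [Fintype G]
variable {S : Set (L → ℂ)} {τ : (L → ℂ) → (G → ℂ)} {R : (L → ℂ) → Finset (G → ℂ)}

theorem isometryOn_sub {E : Submodule ℤ (L → ℂ)} {τ₁ : (L → ℂ) → (G → ℂ)}
    (hτ₁ : IsLinearIsometryOn (E : Set (L → ℂ)) τ₁) {a b : L → ℂ} (ha : a ∈ E) (hb : b ∈ E) :
    τ₁ (a - b) = τ₁ a - τ₁ b := by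
  rw [sub_eq_add_neg, ← neg_one_zsmul b, hτ₁.1 a ha _ (E.smul_mem _ hb), hτ₁.2.1 b hb, neg_one_zsmul, ← sub_eq_add_neg]

/-- Restriction of an isometry to a smaller domain. -/
theorem isometryOn_mono {E E' : Set (L → ℂ)} {τ₁ : (L → ℂ) → (G → ℂ)} (hsub : E' ⊆ E)
    (h : IsLinearIsometryOn E τ₁) : IsLinearIsometryOn E' τ₁ :=
  ⟨fun a ha b hb => h.1 a (hsub ha) b (hsub hb), fun a ha k => h.2.1 a (hsub ha) k,
    fun a ha b hb => h.2.2.1 a (hsub ha) b (hsub hb), fun a ha => h.2.2.2 a (hsub ha)⟩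

/-- **(5.5)** In a coherent piece the image of `χ` is a sum of `‖χ‖²` members of `R χ`, and the image of its
conjugate is minus the sum of the others. -/
theorem exists_image_subset [DecidableEq (G → ℂ)] (hS : IsCoherenceSystem S τ R) {S₁ : Set (L → ℂ)} (hS₁ : S₁ ⊆ S)
    {τ₁ : (L → ℂ) → (G → ℂ)} (hτ₁ : IsLinearIsometryOn (zspan S₁) τ₁)
    (hagree : ∀ α ∈ zspanOn S₁ {1}ᶜ, τ₁ α = τ α) {χ : L → ℂ} (hχ : χ ∈ S₁) (hχc : conjFun χ ∈ S₁) :
    ∃ B ⊆ R χ, τ₁ χ = ∑ α ∈ B, α ∧ τ₁ (conjFun χ) = -∑ α ∈ R χ \ B, α ∧ (B.card : ℂ) = classInner χ χ := by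
  classical
  have hχS := hS₁ hχ
  have h1 : χ ∈ zspan S₁ := Submodule.subset_span hχ
  have h1c : conjFun χ ∈ zspan S₁ := Submodule.subset_span hχc
  have hmem : χ - conjFun χ ∈ zspanOn S₁ {1}ᶜ :=
    ⟨Submodule.sub_mem _ h1 h1c, (cs_sub_conj_mem hS hχS).2⟩
  have hD : τ₁ (χ - conjFun χ) = ∑ α ∈ R χ, α := by rw [hagree _ hmem, hS.sum_eq χ hχS]
  obtain ⟨n, hn⟩ := classInner_char_nat (hS.isCharacter χ hχS) (hS.isCharacter χ hχS)
  have hgen := hτ₁.2.2.2 _ h1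
  choose c hc using fun α : R χ => classInner_genChar_int hgen (hS.virtual χ hχS α α.2)
  have hsum : ∑ α : R χ, c α = (n : ℤ) := by
    have h := hτ₁.2.2.1 _ h1 _ hmem.1
    rw [hD, classInner_sum_right, classInner_sub_right, hS.orthogonal χ hχS _ (hS₁ hχc) (Ne.symm (hS.conj_ne χ hχS)),
      sub_zero, hn, ← Finset.sum_coe_sort (R χ)] at h
    simp only [hc] at h
    exact_mod_cast h
  obtain ⟨hle, heq⟩ := Ten.bessel_int (e := fun α : R χ => (α : G → ℂ)) (c := c)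
    (fun a b => by
      rw [hS.orthonormal χ hχS a a.2 b b.2]
      by_cases e : a = b
      · rw [if_pos (by rw [e]), if_pos e]
      · rw [if_neg fun e' => e (Subtype.ext e'), if_neg e]) hc (N := (n : ℤ))
    (by rw [hτ₁.2.2.1 _ h1 _ h1, hn, Int.cast_natCast])
  have hsq : ∑ α : R χ, c α ^ 2 = (n : ℤ) :=
    le_antisymm hle (hsum ▸ Finset.sum_le_sum fun α _ => Int.le_self_sq (c α))
  have h01 : ∀ α, c α = 0 ∨ c α = 1 := fun α => by
    have hz : ∑ β : R χ, (c β ^ 2 - c β) = 0 := by rw [Finset.sum_sub_distrib, hsq, hsum, sub_self]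
    have := (Finset.sum_eq_zero_iff_of_nonneg fun β _ => sub_nonneg.mpr (Int.le_self_sq (c β))).mp hz α (Finset.mem_univ α)
    have h' : c α * (c α - 1) = 0 := by linarith [show c α * (c α - 1) = c α ^ 2 - c α by ring]
    exact (mul_eq_zero.mp h').imp id fun h'' => by linarith
  set B := (R χ).filter fun α => ∃ h : α ∈ R χ, c ⟨α, h⟩ = 1 with hBdef
  have hB : ∀ α : R χ, (c α : ℂ) = if (α : G → ℂ) ∈ B then 1 else 0 := fun α => by
    rcases h01 α with h | h <;> rw [h]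
    · rw [if_neg fun hm => by
        obtain ⟨hh, he⟩ := (Finset.mem_filter.mp hm).2
        exact zero_ne_one (h.symm.trans he)]
      norm_num
    · rw [if_pos (Finset.mem_filter.mpr ⟨α.2, α.2, h⟩)]
      norm_num
  have hBR : B ⊆ R χ := Finset.filter_subset _ _
  have hτχ : τ₁ χ = ∑ α ∈ B, α := by
    rw [heq hsq, Finset.sum_congr rfl fun α _ => by rw [hB α, ite_smul, one_smul, zero_smul],
      Finset.sum_coe_sort (R χ) (fun α => if α ∈ B then α else 0), ← Finset.sum_filter]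
    refine Finset.sum_congr ?_ fun _ _ => rfl
    ext α
    simp only [Finset.mem_filter]
    exact ⟨fun h => h.2, fun h => ⟨hBR h, h⟩⟩
  refine ⟨B, hBR, hτχ, ?_, ?_⟩
  · rw [isometryOn_sub hτ₁ h1 h1c, ← Finset.sum_sdiff hBR, ← hτχ] at hD
    linear_combination -hD
  · rw [hn]
    have h2 : ((∑ α : R χ, c α : ℤ) : ℂ) = (B.card : ℂ) := by
      push_cast
      rw [Finset.sum_congr rfl fun α _ => hB α, Finset.sum_coe_sort (R χ) (fun α => if α ∈ B then (1 : ℂ) else 0),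
        Finset.sum_boole, Finset.filter_mem_eq_inter, Finset.inter_eq_right.mpr hBR]
    rw [← h2, hsum, Int.cast_natCast]

/-- Changing the support set when every member vanishes outside `A ∪ {1}`. -/
theorem zspanOn_eq_compl_one {A : Set L} (h1 : (1 : L) ∉ A) (hvan : ∀ ξ ∈ S, ∀ x, x ∉ A → x ≠ 1 → ξ x = 0) :
    zspanOn S A = zspanOn S {1}ᶜ := by
  ext α
  constructor
  · rintro ⟨hα, h⟩
    exact ⟨hα, fun x hx => h x (by rw [not_not.mp hx]; exact h1)⟩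
  · rintro ⟨hα, h⟩
    refine ⟨hα, fun x hx => ?_⟩
    by_cases hx1 : x = 1
    · exact h x fun hc => hc hx1
    · clear h
      induction hα using Submodule.span_induction with
      | mem y hy => exact hvan y hy x hx hx1
      | zero => rfl
      | add a b _ _ ha hb => rw [Pi.add_apply, ha, hb, add_zero]
      | smul k a _ ha => rw [Pi.smul_apply, ha, smul_zero]

theorem isCoherent_iff_compl_one {A : Set L} (h1 : (1 : L) ∉ A) (hvan : ∀ ξ ∈ S, ∀ x, x ∉ A → x ≠ 1 → ξ x = 0) :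
    IsCoherent S A τ ↔ IsCoherent S {1}ᶜ τ := by
  unfold IsCoherent
  rw [zspanOn_eq_compl_one h1 hvan]

/-- **Bridge**: two orthogonal coherent pieces with orthogonal images glue as soon as `τ` agrees with the two
extensions on one difference `φ - ψ` of nonzero degree. -/
theorem bridge_coherent {X Y : Set (L → ℂ)} {A : Set L} (hτ : IsLinearIsometryOn (zspanOn (X ∪ Y) A) τ)
    (h1 : (1 : L) ∉ A) (hvan : ∀ ξ ∈ X ∪ Y, ∀ x, x ∉ A → x ≠ 1 → ξ x = 0)
    (hdeg : ∀ ξ ∈ X ∪ Y, ∃ n : ℤ, ξ 1 = n) (hXY : ∀ a ∈ X, ∀ b ∈ Y, classInner a b = 0)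
    {σ σ' : (L → ℂ) → (G → ℂ)} (hσ : IsLinearIsometryOn (zspan X) σ) (hσ' : IsLinearIsometryOn (zspan Y) σ')
    (hagree : ∀ α ∈ zspanOn X A, σ α = τ α) (hagree' : ∀ α ∈ zspanOn Y A, σ' α = τ α)
    (horth : ∀ a ∈ X, ∀ b ∈ Y, classInner (σ a) (σ' b) = 0)
    {φ ψ : L → ℂ} (hφ : φ ∈ zspan X) (hψ : ψ ∈ zspan Y) (hdegeq : φ 1 = ψ 1) (hne : φ 1 ≠ 0)
    (hbridge : τ (φ - ψ) = σ φ - σ' ψ) (hnon : ∃ α ∈ zspanOn (X ∪ Y) A, α ≠ 0) :
    ∃ ρ : (L → ℂ) → (G → ℂ), IsLinearIsometryOn (zspan (X ∪ Y)) ρ ∧ (∀ α ∈ zspanOn (X ∪ Y) A, ρ α = τ α) ∧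
      (∀ a ∈ zspan X, ρ a = σ a) ∧ (∀ b ∈ zspan Y, ρ b = σ' b) ∧ IsCoherent (X ∪ Y) A τ := by
  obtain ⟨ρ, hρ, hρab⟩ := exists_glued hXY hσ hσ' horth
  have hσ0 : σ 0 = 0 := by simpa using hσ.2.1 0 (Submodule.zero_mem _) 0
  have hσ'0 : σ' 0 = 0 := by simpa using hσ'.2.1 0 (Submodule.zero_mem _) 0
  have hρX : ∀ a ∈ zspan X, ρ a = σ a := fun a ha => by
    simpa [hσ'0] using hρab a ha 0 (Submodule.zero_mem _)
  have hρY : ∀ b ∈ zspan Y, ρ b = σ' b := fun b hb => by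
    simpa [hσ0] using hρab 0 (Submodule.zero_mem _) b hb
  have hvanZ : ∀ {T : Set (L → ℂ)}, T ⊆ X ∪ Y → ∀ α ∈ zspan T, α 1 = 0 → α ∈ zspanOn T A := fun hT α hα hα1 => by
    have e := zspanOn_eq_compl_one (S := _) h1 (fun ξ hξ => hvan ξ (hT hξ))
    rw [e]
    exact ⟨hα, fun x hx => by rw [not_not.mp hx]; exact hα1⟩
  have hint : ∀ α ∈ zspan (X ∪ Y), ∃ n : ℤ, α 1 = n := fun α hα => by
    induction hα using Submodule.span_induction with
    | mem y hy => exact hdeg y hy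
    | zero => exact ⟨0, by simp⟩
    | add a b _ _ ha hb =>
      obtain ⟨m, hm⟩ := ha
      obtain ⟨n, hn⟩ := hb
      exact ⟨m + n, by simp [hm, hn]⟩
    | smul k a _ ha =>
      obtain ⟨m, hm⟩ := ha
      exact ⟨k * m, by simp [hm]⟩
  have hsubX : zspan X ⊆ zspan (X ∪ Y) := fun a ha => Submodule.span_mono Set.subset_union_left ha
  have hsubY : zspan Y ⊆ zspan (X ∪ Y) := fun a ha => Submodule.span_mono Set.subset_union_right ha
  obtain ⟨d, hd⟩ := hint φ (hsubX hφ)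
  have hfin : ∀ θ ∈ zspanOn (X ∪ Y) A, ρ θ = τ θ := by
    intro θ hθ
    obtain ⟨a, ha, b, hb, hab⟩ : ∃ a ∈ zspan X, ∃ b ∈ zspan Y, θ = a + b := by
      have h := hθ.1
      rw [zspan, SetLike.mem_coe, Submodule.span_union, Submodule.mem_sup] at h
      obtain ⟨a, ha, b, hb, rfl⟩ := h
      exact ⟨a, ha, b, hb, rfl⟩
    obtain ⟨m, hm⟩ := hint a (hsubX ha)
    have hb1 : b 1 = -(m : ℂ) := by
      have := hθ.2 1 h1
      rw [hab, Pi.add_apply, hm] at this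
      linear_combination this
    set u := d • a - m • φ with hu
    set w := d • b + m • ψ with hw
    have hdθ : d • θ = u + w + m • (φ - ψ) := by rw [hab, hu, hw, smul_add, smul_sub]; abel
    have hu' : u ∈ zspanOn X A := hvanZ Set.subset_union_left u
      (Submodule.sub_mem _ (Submodule.smul_mem _ _ ha) (Submodule.smul_mem _ _ hφ))
      (by simp [hu, hm, hd]; ring)
    have hw' : w ∈ zspanOn Y A := hvanZ Set.subset_union_right w
      (Submodule.add_mem _ (Submodule.smul_mem _ _ hb) (Submodule.smul_mem _ _ hψ))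
      (by simp [hw, hb1, ← hdegeq, hd]; ring)
    have hb' : φ - ψ ∈ zspanOn (X ∪ Y) A := hvanZ subset_rfl _
      (Submodule.sub_mem _ (hsubX hφ) (hsubY hψ)) (by simp [hdegeq])
    have hu'' : u ∈ zspanOn (X ∪ Y) A := ⟨hsubX hu'.1, hu'.2⟩
    have hw'' : w ∈ zspanOn (X ∪ Y) A := ⟨hsubY hw'.1, hw'.2⟩
    have hadd : ∀ p ∈ zspanOn (X ∪ Y) A, ∀ q ∈ zspanOn (X ∪ Y) A, p + q ∈ zspanOn (X ∪ Y) A := fun p hp q hq =>
      ⟨Submodule.add_mem _ hp.1 hq.1, fun x hx => by rw [Pi.add_apply, hp.2 x hx, hq.2 x hx, add_zero]⟩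
    have hsmul : ∀ k : ℤ, ∀ p ∈ zspanOn (X ∪ Y) A, k • p ∈ zspanOn (X ∪ Y) A := fun k p hp =>
      ⟨Submodule.smul_mem _ _ hp.1, fun x hx => by rw [Pi.smul_apply, hp.2 x hx, smul_zero]⟩
    have hρb : ρ (φ - ψ) = τ (φ - ψ) := by
      rw [hbridge, isometryOn_sub hρ (hsubX hφ) (hsubY hψ), hρX φ hφ, hρY ψ hψ]
    have e1 : ρ (d • θ) = τ (d • θ) := by
      rw [hdθ, hρ.1 _ (Submodule.add_mem _ hu''.1 hw''.1) _ (Submodule.smul_mem _ _ hb'.1),
        hρ.1 _ hu''.1 _ hw''.1, hρ.2.1 _ hb'.1 m, hτ.1 _ (hadd _ hu'' _ hw'') _ (hsmul m _ hb'),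
        hτ.1 _ hu'' _ hw'', hτ.2.1 _ hb' m, hρX u hu'.1, hρY w hw'.1, hagree u hu', hagree' w hw', hρb]
    rw [hρ.2.1 θ hθ.1 d, hτ.2.1 θ hθ d] at e1
    funext g
    have := congrFun e1 g
    simp only [Pi.smul_apply, zsmul_eq_mul] at this
    exact mul_left_cancel₀ (hd ▸ hne) this
  exact ⟨ρ, hρ, hfin, hρX, hρY, hnon, ρ, hρ, hfin⟩

/-- **Galois compatibility**: if `τ` commutes with a field automorphism then so does a coherent extension to a
stable set of at least three irreducible characters. -/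
theorem coherent_galois (s : ℂ ≃+* ℂ) (hirr : ∀ ξ ∈ S, IsIrrCharacter L ξ)
    (hstab : ∀ ξ ∈ S, (fun x => s (ξ x)) ∈ S) {τ₁ : (L → ℂ) → (G → ℂ)} (hτ₁ : IsLinearIsometryOn (zspan S) τ₁)
    (hagree : ∀ α ∈ zspanOn S {1}ᶜ, τ₁ α = τ α)
    (hcomm : ∀ α ∈ zspanOn S {1}ᶜ, τ (fun x => s (α x)) = fun g => s (τ α g))
    (hthree : ∀ χ : L → ℂ, ∃ ξ ∈ S, ∃ η ∈ S, ξ ≠ χ ∧ η ≠ χ ∧ ξ ≠ η) {χ : L → ℂ} (hχ : χ ∈ S) :
    τ₁ (fun x => s (χ x)) = fun g => s (τ₁ χ g) := by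
  classical
  let a : (L → ℂ) → (G → ℂ) := fun ξ => τ₁ (fun x => s (ξ x))
  let b : (L → ℂ) → (G → ℂ) := fun ξ => fun g => s (τ₁ ξ g)
  have hsI : ∀ ξ ∈ S, ∀ η ∈ S, ((fun x => s (ξ x)) = fun x => s (η x)) → ξ = η := fun ξ _ η _ e =>
    funext fun x => s.injective (congrFun e x)
  have haS : ∀ ξ ∈ S, IsSignedIrr (a ξ) := fun ξ hξ => signed_image hirr hτ₁ (hstab ξ hξ)
  have hbS : ∀ ξ ∈ S, IsSignedIrr (b ξ) := fun ξ hξ => isSignedIrr_galois s (signed_image hirr hτ₁ hξ)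
  have hbb : ∀ ξ ∈ S, ∀ η ∈ S, classInner (b ξ) (b η) = if ξ = η then 1 else 0 := fun ξ hξ η hη => by
    rw [classInner_galois s (hτ₁.2.2.2 _ (Submodule.subset_span hξ)) (hτ₁.2.2.2 _ (Submodule.subset_span hη)),
      hτ₁.2.2.1 _ (Submodule.subset_span hξ) _ (Submodule.subset_span hη), classInner_irr (hirr ξ hξ) (hirr η hη)]
  have haa : ∀ ξ ∈ S, ∀ η ∈ S, classInner (a ξ) (a η) = if ξ = η then 1 else 0 := fun ξ hξ η hη => by
    rw [hτ₁.2.2.1 _ (Submodule.subset_span (hstab ξ hξ)) _ (Submodule.subset_span (hstab η hη)),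
      classInner_irr (hirr _ (hstab ξ hξ)) (hirr _ (hstab η hη))]
    exact if_congr ⟨hsI ξ hξ η hη, fun e => by rw [e]⟩ rfl rfl
  have hrel : ∀ ψ ∈ S, ∃ m k : ℕ, 0 < m ∧ 0 < k ∧
      (m : ℂ) • a χ - (k : ℂ) • a ψ = (m : ℂ) • b χ - (k : ℂ) • b ψ := by
    intro ψ hψ
    obtain ⟨k, hk0, hk⟩ := irr_degree_pos (hirr χ hχ)
    obtain ⟨m, hm0, hm⟩ := irr_degree_pos (hirr ψ hψ)
    refine ⟨m, k, hm0, hk0, ?_⟩
    have hmem := deg_comb_mem hχ hψ hk hm
    have e1 := hagree _ hmem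
    rw [li_comb hτ₁ (Submodule.subset_span hχ) (Submodule.subset_span hψ)] at e1
    have hfun : (fun x => s (((m : ℤ) • χ - (k : ℤ) • ψ) x)) =
        (m : ℤ) • (fun x => s (χ x)) - (k : ℤ) • fun x => s (ψ x) := by
      funext x
      simp [map_sub, map_mul]
    have hmem' := deg_comb_mem (hstab χ hχ) (hstab ψ hψ) (d := k) (e := m) (by simp [hk]) (by simp [hm])
    have e2 := hagree _ hmem'
    rw [li_comb hτ₁ (Submodule.subset_span (hstab χ hχ)) (Submodule.subset_span (hstab ψ hψ)), ← hfun,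
      hcomm _ hmem, ← e1] at e2
    funext g
    have := congrFun e2 g
    simp only [Pi.sub_apply, Pi.smul_apply, Int.cast_natCast, smul_eq_mul, map_sub, map_mul, map_natCast] at this ⊢
    exact this
  by_contra hne
  change a χ ≠ b χ at hne
  have hab : ∀ ψ ∈ S, ψ ≠ χ → classInner (b ψ) (a χ) ≠ 0 := by
    intro ψ hψ hψχ h0
    obtain ⟨m, k, hm, -, e⟩ := hrel ψ hψ
    have e' := congrArg (fun f => classInner f (a χ)) e
    simp only [classInner_sub_left, classInner_smul_left, haa χ hχ χ hχ, haa ψ hψ χ hχ, if_true, if_neg hψχ, h0,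
      mul_zero, sub_zero, mul_one] at e'
    have h1 : classInner (b χ) (a χ) = 1 := mul_left_cancel₀ (Nat.cast_ne_zero.mpr hm.ne') (by rw [← e', mul_one])
    rcases signed_cases (hbS χ hχ) (haS χ hχ) with h | ⟨ε, -, h⟩
    · rw [h] at h1; exact zero_ne_one h1
    · rw [h, classInner_smul_left, haa χ hχ χ hχ, if_pos rfl, mul_one] at h1
      exact hne (by rw [h, h1, one_smul])
  obtain ⟨ξ, hξ, η, hη, hξχ, hηχ, hξη⟩ := hthree χ
  obtain ⟨ε, hε, e1⟩ := (signed_cases (hbS ξ hξ) (haS χ hχ)).resolve_left (hab ξ hξ hξχ)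
  obtain ⟨ε', hε', e2⟩ := (signed_cases (hbS η hη) (haS χ hχ)).resolve_left (hab η hη hηχ)
  have h0 := hbb ξ hξ η hη
  rw [e1, e2, classInner_smul_left, classInner_smul_right, haa χ hχ χ hχ, if_pos rfl, if_neg hξη, mul_one] at h0
  rcases hε with rfl | rfl <;> rcases hε' with rfl | rfl <;> simp at h0

end CfsgLib.OddOrder.Found
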