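import Cfsg.Agent.Lib.CharTheory.PowerMap
import Cfsg.Agent.Lib.CharTheory.Galois
import Cfsg.Prelude.Def_OddOrderChar

/-!
Field automorphisms of `ℂ` act on characters through power maps.
-/

set_option autoImplicit false

namespace CfsgLib.OddOrder.Found

open Cfsg CfsgLib.CharTheory
open scoped ComplexConjugate

universe u

variable {G : Type u} [Group G] [Fintype G]

/-- A field automorphism of `ℂ` acts on all character values as one power map of the group. -/
theorem exists_galois_pow (s : ℂ ≃+* ℂ) : ∃ m : ℕ, m.Coprime (Nat.card G) ∧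
    ∀ χ : G → ℂ, IsCharacter G χ → ∀ g : G, s (χ g) = χ (g ^ m) := by
  have hn : Nat.card G ≠ 0 := Nat.card_pos.ne'
  let σ : rootField (Nat.card G) →ₐ[ℚ] ℂ :=
    { (s.toRingHom.comp (rootField (Nat.card G)).val.toRingHom) with
      commutes' := fun q =>
        (map_ratCast ((s.toRingHom).comp (rootField (Nat.card G)).val.toRingHom) q).trans (eq_ratCast (algebraMap ℚ ℂ) q).symm }
  obtain ⟨m, hm, hσ⟩ := exists_pow_of_galois_hom hn σ
  refine ⟨m, hm, fun χ hχ g => ?_⟩
  have := galois_apply_char hχ g σ hσ
  exact this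

/-- The action on irreducible characters. -/
theorem isIrr_galois (s : ℂ ≃+* ℂ) {χ : G → ℂ} (hχ : IsIrrCharacter G χ) : IsIrrCharacter G (fun g => s (χ g)) := by
  obtain ⟨m, hm, h⟩ := exists_galois_pow (G := G) s
  rw [funext (h χ (isCharacter_of_irr hχ))]
  exact isIrrCharacter_pow hχ hm

/-- The action on generalized characters is the power map as well. -/
theorem galois_pow_genChar (s : ℂ ≃+* ℂ) {m : ℕ} (h : ∀ χ : G → ℂ, IsCharacter G χ → ∀ g : G, s (χ g) = χ (g ^ m))
    {f : G → ℂ} (hf : IsGeneralizedCharacter G f) (g : G) : s (f g) = f (g ^ m) := by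
  obtain ⟨a, b, ha, hb, rfl⟩ := hf
  simp only [Pi.sub_apply, map_sub, h a ha g, h b hb g]

theorem isSignedIrr_galois (s : ℂ ≃+* ℂ) {θ : G → ℂ} (hθ : IsIrrCharacter G θ ∨ IsIrrCharacter G (-θ)) :
    IsIrrCharacter G (fun g => s (θ g)) ∨ IsIrrCharacter G (-fun g => s (θ g)) := by
  refine hθ.imp (isIrr_galois s) fun h => ?_
  convert isIrr_galois s h using 1
  funext g
  simp

/-- Complex conjugation as a field automorphism. -/
noncomputable def conjAut : ℂ ≃+* ℂ := Complex.conjAe.toRingEquiv

theorem conjAut_comp {X : Type*} (f : X → ℂ) : (fun x => conjAut (f x)) = conjFun f := rfl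

/-- The inner product of generalized characters is fixed by field automorphisms. -/
theorem classInner_galois (s : ℂ ≃+* ℂ) {a b : G → ℂ} (ha : IsGeneralizedCharacter G a)
    (hb : IsGeneralizedCharacter G b) : classInner (fun g => s (a g)) (fun g => s (b g)) = classInner a b := by
  obtain ⟨m, hm, h⟩ := exists_galois_pow (G := G) s
  rw [funext (galois_pow_genChar s h ha), funext (galois_pow_genChar s h hb), classInner_pow hm]

end CfsgLib.OddOrder.Found
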