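import Cfsg.Agent.Lib.CharTheory.CyclicTI3
import Cfsg.Agent.Lib.CharTheory.Signed
import Cfsg.Agent.S1503
import Cfsg.Agent.Lib.OddOrder.Found.Galois

/-!
Peterfalvi (3.2), (3.9): the family of a cyclic TI subgroup is unique, commutes with field automorphisms, and
extends to a linear isometry `cycSigma` on class functions of `W = W₁ ⊔ W₂`.
-/

set_option autoImplicit false

namespace CfsgLib.OddOrder.Found

open Cfsg CfsgLib.CharTheory
open scoped ComplexConjugate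

universe u

variable {G : Type u} [Group G] {W₁ W₂ : Subgroup G}

/-- The linear characters of `W₁ ⊔ W₂`. -/
abbrev WLin (W₁ W₂ : Subgroup G) : Type u := ↥(W₁ ⊔ W₂) →* ℂˣ

theorem mul_notMem_of_ne_one (hdisj : W₁ ⊓ W₂ = ⊥) {a b : G} (ha : a ∈ W₁) (ha1 : a ≠ 1) (hb : b ∈ W₂) (hb1 : b ≠ 1) :
    a * b ∉ W₁ ∧ a * b ∉ W₂ := by
  refine ⟨fun h => hb1 ?_, fun h => ha1 ?_⟩
  · have : b ∈ W₁ := by simpa using W₁.mul_mem (W₁.inv_mem ha) h
    exact Subgroup.mem_bot.mp (hdisj ▸ Subgroup.mem_inf.mpr ⟨this, hb⟩)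
  · have : a ∈ W₂ := by simpa using W₂.mul_mem h (W₂.inv_mem hb)
    exact Subgroup.mem_bot.mp (hdisj ▸ Subgroup.mem_inf.mpr ⟨ha, this⟩)

theorem sq_ne_one_of_odd {W : Type*} [Group W] [Finite W] (hodd : Odd (Nat.card W)) {x : W} (hx : x ≠ 1) :
    x ^ 2 ≠ 1 := fun h2 => by
  have h : orderOf x = 2 := orderOf_eq_prime h2 hx
  exact hodd.not_two_dvd_nat (h ▸ orderOf_dvd_natCard x)

/-- Two linear characters that agree up to a scalar on the products `a * b` (`a ∈ W₁#`, `b ∈ W₂#`) are equal. -/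
theorem wLin_eq_of_smul [Finite G] (hne1 : W₁ ≠ ⊥) (hne2 : W₂ ≠ ⊥) (hcomm : ∀ a ∈ W₁, ∀ b ∈ W₂, a * b = b * a)
    (hodd : Odd (Nat.card ↥(W₁ ⊔ W₂))) {ω ω' : WLin W₁ W₂} {ε : ℂ}
    (h : ∀ x y : ↥(W₁ ⊔ W₂), (x : G) ∈ W₁ → x ≠ 1 → (y : G) ∈ W₂ → y ≠ 1 →
      (ω (x * y) : ℂ) = ε * (ω' (x * y) : ℂ)) : ω = ω' ∧ ε = 1 := by
  set ρ : WLin W₁ W₂ := ω * ω'⁻¹ with hρ
  have hr : ∀ x y : ↥(W₁ ⊔ W₂), (x : G) ∈ W₁ → x ≠ 1 → (y : G) ∈ W₂ → y ≠ 1 → (ρ x : ℂ) * (ρ y : ℂ) = ε := by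
    intro x y hx hx1 hy hy1
    rw [← Units.val_mul, ← map_mul, hρ, MonoidHom.mul_apply, MonoidHom.inv_apply, Units.val_mul,
      h x y hx hx1 hy hy1, mul_assoc, ← Units.val_mul, mul_inv_cancel, Units.val_one, mul_one]
  obtain ⟨a, ha, ha1⟩ := (Subgroup.bot_or_exists_ne_one W₁).resolve_left hne1
  obtain ⟨b, hb, hb1⟩ := (Subgroup.bot_or_exists_ne_one W₂).resolve_left hne2
  let aW : ↥(W₁ ⊔ W₂) := ⟨a, Subgroup.mem_sup_left ha⟩
  let bW : ↥(W₁ ⊔ W₂) := ⟨b, Subgroup.mem_sup_right hb⟩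
  have haW : aW ≠ 1 := fun e => ha1 (congrArg Subtype.val e)
  have hbW : bW ≠ 1 := fun e => hb1 (congrArg Subtype.val e)
  have h1 : ∀ x : ↥(W₁ ⊔ W₂), (x : G) ∈ W₁ → ρ x = 1 := fun x hx => by
    by_cases hx1 : x = 1
    · rw [hx1, map_one]
    have e1 := hr x bW hx hx1 hb hbW
    have e2 := hr (x ^ 2) bW (by rw [SubmonoidClass.coe_pow]; exact pow_mem hx 2) (sq_ne_one_of_odd hodd hx1) hb hbW
    rw [← e1, map_pow, Units.val_pow_eq_pow_val, pow_two] at e2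
    exact Units.ext (by simpa using (mul_eq_left₀ (Units.ne_zero _)).mp (mul_right_cancel₀ (Units.ne_zero _) e2))
  have h2 : ∀ y : ↥(W₁ ⊔ W₂), (y : G) ∈ W₂ → ρ y = 1 := fun y hy => by
    by_cases hy1 : y = 1
    · rw [hy1, map_one]
    have e1 := hr aW y ha haW hy hy1
    have e2 := hr aW (y ^ 2) ha haW (by rw [SubmonoidClass.coe_pow]; exact pow_mem hy 2) (sq_ne_one_of_odd hodd hy1)
    rw [← e1, map_pow, Units.val_pow_eq_pow_val, pow_two] at e2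
    exact Units.ext (by simpa using (mul_eq_left₀ (Units.ne_zero _)).mp (mul_left_cancel₀ (Units.ne_zero _) e2))
  have hε : ε = 1 := by
    have := hr aW bW ha haW hb hbW
    rw [h1 aW ha, h2 bW hb] at this
    simpa using this.symm
  refine ⟨cyc_hom_ext hcomm _ _ fun w hw => ?_, hε⟩
  have : ρ w = 1 := hw.elim (h1 w) (h2 w)
  rw [hρ, MonoidHom.mul_apply, MonoidHom.inv_apply, mul_inv_eq_one] at this
  exact this

section Family

variable [Fintype G] {χ : WLin W₁ W₂ → (G → ℂ)}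

/-- **Uniqueness**: a signed irreducible character equal to `ω` on `V` is the member `χ ω`. -/
theorem cycFamily_unique (hW : IsSelfNormalizingCyclic W₁ W₂) (hodd : Odd (Nat.card ↥(W₁ ⊔ W₂)))
    (hχ : IsCyclicTIFamily W₁ W₂ χ) {θ : G → ℂ} (hθ : IsIrrCharacter G θ ∨ IsIrrCharacter G (-θ))
    (ω : WLin W₁ W₂) (h : ∀ w : ↥(W₁ ⊔ W₂), (w : G) ∉ W₁ → (w : G) ∉ W₂ → θ w = (ω w : ℂ)) : θ = χ ω := by
  obtain ⟨hne1, hne2, hdisj, hcomm, hcyc, hnorm⟩ := hW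
  obtain ⟨a, ha, ha1⟩ := (Subgroup.bot_or_exists_ne_one W₁).resolve_left hne1
  obtain ⟨b, hb, hb1⟩ := (Subgroup.bot_or_exists_ne_one W₂).resolve_left hne2
  have hex : ∃ ω', classInner θ (χ ω') ≠ 0 := by
    by_contra hno
    push Not at hno
    obtain ⟨h1, h2⟩ := mul_notMem_of_ne_one hdisj ha ha1 hb hb1
    have hw : a * b ∈ W₁ ⊔ W₂ := (W₁ ⊔ W₂).mul_mem (Subgroup.mem_sup_left ha) (Subgroup.mem_sup_right hb)
    have hne : θ ((⟨_, hw⟩ : ↥(W₁ ⊔ W₂)) : G) ≠ 0 := by rw [h ⟨_, hw⟩ h1 h2]; exact Units.ne_zero _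
    apply hne
    rcases hθ with h' | h'
    · exact Cfsg.Agent.S1503.result W₁ W₂ ⟨hne1, hne2, hdisj, hcomm, hcyc, hnorm⟩ χ hχ θ h' hno ⟨_, hw⟩ h1 h2
    · exact neg_eq_zero.mp (Cfsg.Agent.S1503.result W₁ W₂ ⟨hne1, hne2, hdisj, hcomm, hcyc, hnorm⟩ χ hχ (-θ) h'
        (fun ω' => by rw [classInner_neg_left, hno, neg_zero]) ⟨_, hw⟩ h1 h2)
  obtain ⟨ω', hω'⟩ := hex
  obtain ⟨ε, -, hε⟩ := (signed_cases (a := θ) hθ (hχ.irr_or_neg ω')).resolve_left hω'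
  obtain ⟨e1, e2⟩ := wLin_eq_of_smul hne1 hne2 hcomm hodd (ω := ω) (ω' := ω') (ε := ε) fun x y hx hx1 hy hy1 => by
    obtain ⟨h1, h2⟩ := mul_notMem_of_ne_one hdisj hx (fun e => hx1 (Subtype.ext e)) hy (fun e => hy1 (Subtype.ext e))
    rw [← h (x * y) h1 h2, hε, Pi.smul_apply, smul_eq_mul, hχ.eq_on ω' (x * y) h1 h2]
  rw [hε, e2, one_smul, e1]

/-- Power maps permute the family. -/
theorem cycFamily_pow (hW : IsSelfNormalizingCyclic W₁ W₂) (hodd : Odd (Nat.card ↥(W₁ ⊔ W₂)))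
    (hχ : IsCyclicTIFamily W₁ W₂ χ) {m : ℕ} (hm : m.Coprime (Nat.card G)) (ω : WLin W₁ W₂) :
    (fun g => χ ω (g ^ m)) = χ (ω ^ m) := by
  refine cycFamily_unique hW hodd hχ ?_ _ fun w h1 h2 => ?_
  · exact (hχ.irr_or_neg ω).imp (fun h => isIrrCharacter_pow h hm) fun h => isIrrCharacter_pow h hm
  · have e1 : ((w ^ m : ↥(W₁ ⊔ W₂)) : G) ∉ W₁ := by
      rw [SubmonoidClass.coe_pow, pow_mem_iff_of_coprime hm]; exact h1
    have e2 : ((w ^ m : ↥(W₁ ⊔ W₂)) : G) ∉ W₂ := by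
      rw [SubmonoidClass.coe_pow, pow_mem_iff_of_coprime hm]; exact h2
    have := hχ.eq_on ω (w ^ m) e1 e2
    rw [SubmonoidClass.coe_pow] at this
    show χ ω ((w : G) ^ m) = _
    rw [this, map_pow, MonoidHom.pow_apply]

/-- The image of a linear character under a field automorphism. -/
def wLinMap {W : Type*} [Monoid W] (s : ℂ ≃+* ℂ) (ω : W →* ℂˣ) : W →* ℂˣ := (Units.map (s.toMonoidHom)).comp ω

theorem wLinMap_apply {W : Type*} [Monoid W] (s : ℂ ≃+* ℂ) (ω : W →* ℂˣ) (w : W) :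
    ((wLinMap s ω w : ℂˣ) : ℂ) = s (ω w : ℂ) := rfl

theorem wLinMap_conjAut {W : Type*} [Group W] [Finite W] (ω : W →* ℂˣ) : wLinMap conjAut ω = ω⁻¹ := by
  ext w
  rw [wLinMap_apply]
  show conj (ω w : ℂ) = _
  rw [conj_hom_apply, MonoidHom.inv_apply, ← map_inv]

/-- **(3.9a)** The family commutes with field automorphisms. -/
theorem cycFamily_galois (hW : IsSelfNormalizingCyclic W₁ W₂) (hodd : Odd (Nat.card ↥(W₁ ⊔ W₂)))
    (hχ : IsCyclicTIFamily W₁ W₂ χ) (s : ℂ ≃+* ℂ) (ω : WLin W₁ W₂) :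
    (fun g => s (χ ω g)) = χ (wLinMap s ω) := by
  refine cycFamily_unique hW hodd hχ (isSignedIrr_galois s (hχ.irr_or_neg ω)) _ fun w h1 h2 => ?_
  show s (χ ω w) = _
  rw [hχ.eq_on ω w h1 h2, wLinMap_apply]

theorem cycFamily_conj (hW : IsSelfNormalizingCyclic W₁ W₂) (hodd : Odd (Nat.card ↥(W₁ ⊔ W₂)))
    (hχ : IsCyclicTIFamily W₁ W₂ χ) (ω : WLin W₁ W₂) : conjFun (χ ω) = χ ω⁻¹ := by
  rw [← conjAut_comp, cycFamily_galois hW hodd hχ, wLinMap_conjAut]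

theorem cycFamily_signed (hχ : IsCyclicTIFamily W₁ W₂ χ) (ω : WLin W₁ W₂) : IsGeneralizedCharacter G (χ ω) := by
  rcases hχ.irr_or_neg ω with h | h
  · exact isGenChar_of_char (isCharacter_of_irr h)
  · simpa using isGenChar_neg (isGenChar_of_char (isCharacter_of_irr h))

variable [Fintype ↥(W₁ ⊔ W₂)] [Fintype (WLin W₁ W₂)]

/-- The linear extension of the family to functions on `W₁ ⊔ W₂`. -/
noncomputable def cycSigma (χ : WLin W₁ W₂ → (G → ℂ)) (α : ↥(W₁ ⊔ W₂) → ℂ) : G → ℂ :=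
  ∑ ω : WLin W₁ W₂, classInner α (fun w => (ω w : ℂ)) • χ ω

theorem eq_sum_wLin (hab : ∀ u v : ↥(W₁ ⊔ W₂), u * v = v * u) (α : ↥(W₁ ⊔ W₂) → ℂ) :
    α = ∑ ω : WLin W₁ W₂, classInner α (fun w => (ω w : ℂ)) • fun w => (ω w : ℂ) := by
  classical
  have hcl : IsClassFunction ↥(W₁ ⊔ W₂) α := fun x y => by rw [hab y x, mul_inv_cancel_right]
  conv_lhs => rw [eq_sum_irr hcl]
  refine (Fintype.sum_bijective (fun ω : WLin W₁ W₂ => (⟨_, isIrrCharacter_linear ω⟩ : IrrCharacter ↥(W₁ ⊔ W₂)))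
    ⟨fun a b e => MonoidHom.ext fun w => Units.ext (congrFun (congrArg Subtype.val e) w), fun ψ => ?_⟩ _ _
    fun ω => rfl).symm
  obtain ⟨a, ha⟩ := exists_hom_of_degree_one (isCharacter_of_irr ψ.2) (degree_one_of_commutative hab ψ.2)
  exact ⟨a, Subtype.ext ha.symm⟩

theorem classInner_cycSigma_member (hχ : IsCyclicTIFamily W₁ W₂ χ) (α : ↥(W₁ ⊔ W₂) → ℂ) (ω : WLin W₁ W₂) :
    classInner (cycSigma χ α) (χ ω) = classInner α (fun w => (ω w : ℂ)) := by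
  classical
  simp [cycSigma, classInner_sum_left, classInner_smul_left, hχ.orthonormal]

theorem classInner_cycSigma (hab : ∀ u v : ↥(W₁ ⊔ W₂), u * v = v * u) (hχ : IsCyclicTIFamily W₁ W₂ χ)
    (α β : ↥(W₁ ⊔ W₂) → ℂ) : classInner (cycSigma χ α) (cycSigma χ β) = classInner α β := by
  classical
  rw [cycSigma, classInner_sum_left]
  conv_rhs => rw [eq_sum_wLin hab α, classInner_sum_left]
  refine Finset.sum_congr rfl fun ω _ => ?_
  rw [classInner_smul_left, classInner_smul_left, ← classInner_comm (cycSigma χ β) (χ ω),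
    classInner_cycSigma_member hχ, classInner_comm]

/-- `σ α` agrees with `α` on `V`. -/
theorem cycSigma_apply (hab : ∀ u v : ↥(W₁ ⊔ W₂), u * v = v * u) (hχ : IsCyclicTIFamily W₁ W₂ χ)
    (α : ↥(W₁ ⊔ W₂) → ℂ) (w : ↥(W₁ ⊔ W₂)) (h1 : (w : G) ∉ W₁) (h2 : (w : G) ∉ W₂) : cycSigma χ α w = α w := by
  conv_rhs => rw [eq_sum_wLin hab α]
  simp only [cycSigma, Finset.sum_apply, Pi.smul_apply, hχ.eq_on _ w h1 h2]

theorem isGenChar_cycSigma (hχ : IsCyclicTIFamily W₁ W₂ χ) {α : ↥(W₁ ⊔ W₂) → ℂ}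
    (hα : IsGeneralizedCharacter ↥(W₁ ⊔ W₂) α) : IsGeneralizedCharacter G (cycSigma χ α) := by
  refine isGenChar_sum _ _ fun ω _ => ?_
  obtain ⟨-, hc⟩ := isGenChar_iff_coeff_int.mp hα
  obtain ⟨k, hk⟩ := hc _ (isIrrCharacter_linear ω)
  rw [show classInner α (fun w => (ω w : ℂ)) = (k : ℂ) from hk]
  exact isGenChar_intSmul k (cycFamily_signed hχ ω)

/-- **(3.2)** `σ` is induction on functions vanishing on `W₁ ∪ W₂`. -/
theorem cycSigma_eq_indFun (hW : IsSelfNormalizingCyclic W₁ W₂) (hχ : IsCyclicTIFamily W₁ W₂ χ)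
    {α : ↥(W₁ ⊔ W₂) → ℂ} (hα : ∀ w : ↥(W₁ ⊔ W₂), (w : G) ∈ W₁ ∨ (w : G) ∈ W₂ → α w = 0) :
    cycSigma χ α = indFun (W₁ ⊔ W₂) α := by
  classical
  have hW' := hW
  obtain ⟨-, -, -, -, hcyc, -⟩ := hW
  haveI := hcyc
  have hab : ∀ u v : ↥(W₁ ⊔ W₂), u * v = v * u := fun u v => by
    letI := IsCyclic.commGroup (α := ↥(W₁ ⊔ W₂))
    exact mul_comm u v
  refine classFun_ext (isClassFunction_sum _ _ fun ω _ => isClassFunction_smul _
    (isGenChar_iff_coeff_int.mp (cycFamily_signed hχ ω)).1) (indFun_isClassFunction _ _) fun θ hθ => ?_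
  rw [frobenius_reciprocity (W₁ ⊔ W₂) α (isClassFunction_irr hθ), cycSigma, classInner_sum_left]
  conv_rhs => rw [eq_sum_wLin hab α, classInner_sum_left]
  have hagree : ∀ (f : ↥(W₁ ⊔ W₂) → ℂ), (∀ w : ↥(W₁ ⊔ W₂), (w : G) ∉ W₁ → (w : G) ∉ W₂ → f w = θ w) →
      classInner α f = classInner α (fun w : ↥(W₁ ⊔ W₂) => θ w) := fun f hf => by
    simp only [classInner]
    congr 1
    refine Finset.sum_congr rfl fun w _ => ?_
    by_cases hw : (w : G) ∈ W₁ ∨ (w : G) ∈ W₂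
    · rw [hα w hw, zero_mul, zero_mul]
    · push Not at hw; rw [hf w hw.1 hw.2]
  simp only [classInner_smul_left]
  by_cases hno : ∀ ω', classInner θ (χ ω') = 0
  · have hz : ∀ ω, classInner (χ ω) θ = 0 := fun ω => by rw [← classInner_comm, hno, map_zero]
    simp only [hz, mul_zero, Finset.sum_const_zero]
    have h0 := hagree 0 fun w h1 h2 => (Cfsg.Agent.S1503.result W₁ W₂ hW' χ hχ θ hθ hno w h1 h2).symm
    rw [classInner_zero_right] at h0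
    conv at h0 => rhs; rw [eq_sum_wLin hab α, classInner_sum_left]
    simp only [classInner_smul_left] at h0
    exact h0
  push Not at hno
  obtain ⟨ω₀, hω₀⟩ := hno
  obtain ⟨ε, -, hε⟩ := (signed_cases (a := θ) (Or.inl hθ) (hχ.irr_or_neg ω₀)).resolve_left hω₀
  have h1 := hagree (ε • fun w => (ω₀ w : ℂ)) fun w h1 h2 => by
    rw [hε]; simp only [Pi.smul_apply, hχ.eq_on ω₀ w h1 h2]
  conv at h1 => rhs; rw [eq_sum_wLin hab α, classInner_sum_left]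
  simp only [classInner_smul_left] at h1
  rw [← h1, hε, classInner_smul_right]
  simp only [classInner_smul_right, hχ.orthonormal, mul_ite, mul_one, mul_zero, Finset.sum_ite_eq',
    Finset.mem_univ, if_true]
  ring

end Family

end CfsgLib.OddOrder.Found
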