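import Cfsg.Agent.Lib.CharTheory.DadeVirtual
import Cfsg.Agent.Lib.CharTheory.Induced
import Cfsg.Agent.Lib.CharTheory.CyclicTI

/-!
Peterfalvi section 2 complements: linearity, Galois compatibility, restriction of the Dade set, cyclic TI part.
-/

set_option autoImplicit false

namespace CfsgLib.OddOrder.Found

open Cfsg CfsgLib.CharTheory CfsgLib.Dade
open scoped ComplexConjugate

universe u

variable {G : Type u} [Group G] {A : Set G} {L : Subgroup G} {H : G → Subgroup G}

/-- The support of the Dade map. -/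
def dadeSupp (A : Set G) (H : G → Subgroup G) : Set G :=
  {g | ∃ a ∈ A, ∃ u ∈ H a, ∃ x : G, x * g * x⁻¹ = a * u}

theorem dade_exists_iff_mem_supp (hD : DadeHypothesis A L H) (g : G) :
    (∃ a : ↥L, (a : G) ∈ A ∧ ∃ x : G, ∃ u ∈ H (a : G), x * g * x⁻¹ = (a : G) * u) ↔ g ∈ dadeSupp A H :=
  ⟨fun ⟨a, ha, x, u, hu, hx⟩ => ⟨a, ha, u, hu, x, hx⟩,
    fun ⟨a, ha, u, hu, x, hx⟩ => ⟨⟨a, hD.subset ha⟩, ha, x, u, hu, hx⟩⟩

theorem dade_eq_zero_of_notMem (hD : DadeHypothesis A L H) (α : L → ℂ) {g : G} (hg : g ∉ dadeSupp A H) :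
    dadeIsometry A L H α g = 0 := by
  rw [dadeIsometry, dif_neg (fun h => hg ((dade_exists_iff_mem_supp hD g).mp h))]

theorem dade_add (α β : L → ℂ) : dadeIsometry A L H (α + β) = dadeIsometry A L H α + dadeIsometry A L H β := by
  funext g
  simp only [dadeIsometry, Pi.add_apply]
  split <;> simp

theorem dade_sub (α β : L → ℂ) : dadeIsometry A L H (α - β) = dadeIsometry A L H α - dadeIsometry A L H β := by
  funext g
  simp only [dadeIsometry, Pi.sub_apply]
  split <;> simp

theorem dade_smul (c : ℂ) (α : L → ℂ) : dadeIsometry A L H (c • α) = c • dadeIsometry A L H α := by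
  funext g
  simp only [dadeIsometry, Pi.smul_apply]
  split <;> simp

theorem dade_zsmul (n : ℤ) (α : L → ℂ) : dadeIsometry A L H (n • α) = n • dadeIsometry A L H α := by
  funext g
  simp only [dadeIsometry, Pi.smul_apply]
  split <;> simp

theorem dade_sum {ι : Type*} (s : Finset ι) (f : ι → L → ℂ) :
    dadeIsometry A L H (∑ i ∈ s, f i) = ∑ i ∈ s, dadeIsometry A L H (f i) := by
  classical
  induction s using Finset.induction with
  | empty =>
    funext g
    simp [dadeIsometry]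
  | insert i s hi ih => rw [Finset.sum_insert hi, Finset.sum_insert hi, dade_add, ih]

/-- The Dade map commutes with every map of values fixing `0`. -/
theorem dade_map (s : ℂ → ℂ) (hs : s 0 = 0) (α : L → ℂ) :
    dadeIsometry A L H (fun x => s (α x)) = fun g => s (dadeIsometry A L H α g) := by
  funext g
  simp only [dadeIsometry]
  split <;> simp [hs]

theorem dade_conjFun (α : L → ℂ) : dadeIsometry A L H (conjFun α) = conjFun (dadeIsometry A L H α) :=
  dade_map (fun z => conj z) (map_zero _) α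

theorem one_notMem_dadeSupp (hD : DadeHypothesis A L H) : (1 : G) ∉ dadeSupp A H := by
  rintro ⟨a, ha, u, hu, x, hx⟩
  rw [mul_one, mul_inv_cancel] at hx
  have e : a = u⁻¹ := eq_inv_of_mul_eq_one_left hx.symm
  have : a ∈ H a ⊓ (L ⊓ Subgroup.centralizer ({a} : Set G)) :=
    ⟨e ▸ (H a).inv_mem hu, hD.subset ha, Subgroup.mem_centralizer_singleton_iff.mpr rfl⟩
  rw [hD.inf_eq_bot a ha, Subgroup.mem_bot] at this
  exact hD.one_not_mem (this ▸ ha)

theorem dade_apply_one (hD : DadeHypothesis A L H) (α : L → ℂ) : dadeIsometry A L H α 1 = 0 :=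
  dade_eq_zero_of_notMem hD α (one_notMem_dadeSupp hD)

/-- The Dade set may be shrunk to an invariant subset. -/
theorem dadeHypothesis_subset (hD : DadeHypothesis A L H) {A' : Set G} (hsub : A' ⊆ A)
    (hinv : ∀ x ∈ L, ∀ a ∈ A', x * a * x⁻¹ ∈ A') : DadeHypothesis A' L H where
  one_not_mem h := hD.one_not_mem (hsub h)
  subset := hsub.trans hD.subset
  conj_mem := hinv
  fusion a ha g hg := hD.fusion a (hsub ha) g (hsub hg)
  le_centralizer a ha := hD.le_centralizer a (hsub ha)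
  conj_mem_H a ha := hD.conj_mem_H a (hsub ha)
  inf_eq_bot a ha := hD.inf_eq_bot a (hsub ha)
  sup_eq a ha := hD.sup_eq a (hsub ha)
  coprime a ha b hb := hD.coprime a (hsub ha) b (hsub hb)

/-- On functions supported in the smaller set the two Dade maps agree. -/
theorem dade_subset_eq [Finite G] (hD : DadeHypothesis A L H) {A' : Set G} (hsub : A' ⊆ A)
    (hinv : ∀ x ∈ L, ∀ a ∈ A', x * a * x⁻¹ ∈ A') {α : L → ℂ} (hα : IsClassFunction L α)
    (hαA : ∀ x : L, (x : G) ∉ A' → α x = 0) : dadeIsometry A' L H α = dadeIsometry A L H α := by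
  have hD' := dadeHypothesis_subset hD hsub hinv
  funext g
  by_cases hg : g ∈ dadeSupp A' H
  · obtain ⟨a, ha, x, u, hu, hx⟩ := (dade_exists_iff_mem_supp hD' g).mpr hg
    rw [dade_apply hD' hα ha hu hx, dade_apply hD hα (hsub ha) hu hx]
  · rw [dade_eq_zero_of_notMem hD' α hg]
    by_cases hg' : g ∈ dadeSupp A H
    · obtain ⟨a, ha, x, u, hu, hx⟩ := (dade_exists_iff_mem_supp hD g).mpr hg'
      rw [dade_apply hD hα ha hu hx, hαA a fun ha' => hg ⟨a, ha', u, hu, x, hx⟩]
    · rw [dade_eq_zero_of_notMem hD α hg']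

section Isometry

variable [Fintype G] [Fintype L]

theorem zspan_genChar {S : Set (L → ℂ)} (hS : ∀ φ ∈ S, IsGeneralizedCharacter L φ) {α : L → ℂ} (h : α ∈ zspan S) :
    IsGeneralizedCharacter L α := by
  induction h using Submodule.span_induction with
  | mem y hy => exact hS y hy
  | zero => exact isGenChar_zero
  | add a b _ _ ha hb => exact isGenChar_add ha hb
  | smul k a _ ha =>
    have := isGenChar_intSmul k ha
    simpa [Int.cast_smul_eq_zsmul] using this

theorem zspan_eq_zero {S : Set (L → ℂ)} {x : L} (hS : ∀ φ ∈ S, φ x = 0) {α : L → ℂ} (h : α ∈ zspan S) : α x = 0 := by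
  induction h using Submodule.span_induction with
  | mem y hy => exact hS y hy
  | zero => rfl
  | add a b _ _ ha hb => rw [Pi.add_apply, ha, hb, add_zero]
  | smul k a _ ha => rw [Pi.smul_apply, ha, smul_zero]

/-- The Dade map as an isometry on the combinations supported on the Dade set. -/
theorem dade_isometryOn (hD : DadeHypothesis A L H) {S : Set (L → ℂ)} {B : Set L}
    (hS : ∀ φ ∈ S, IsGeneralizedCharacter L φ)
    (hB : ∀ α ∈ zspanOn S B, ∀ x : L, (x : G) ∉ A → α x = 0) :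
    IsLinearIsometryOn (zspanOn S B) (dadeIsometry A L H) ∧ ∀ α ∈ zspanOn S B, dadeIsometry A L H α 1 = 0 := by
  have hcl : ∀ α ∈ zspanOn S B, IsClassFunction L α := fun α hα =>
    (isGenChar_iff_coeff_int.mp (zspan_genChar hS hα.1)).1
  exact ⟨⟨fun α _ β _ => dade_add α β, fun α _ n => dade_zsmul n α,
    fun α hα β hβ => classInner_dade_dade hD (hcl α hα) (hB α hα) (hcl β hβ),
    fun α hα => isGenChar_dade hD (zspan_genChar hS hα.1) (hB α hα)⟩, fun α _ => dade_apply_one hD α⟩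

end Isometry

section Cyclic

variable {W₁ W₂ : Subgroup G}

theorem centralizer_eq_of_mem_cyclicTI (hW : IsSelfNormalizingCyclic W₁ W₂) {v : G} (hv : v ∈ W₁ ⊔ W₂)
    (h1 : v ∉ W₁) (h2 : v ∉ W₂) : Subgroup.centralizer ({v} : Set G) ≤ W₁ ⊔ W₂ := by
  obtain ⟨-, -, -, -, -, hN⟩ := hW
  rw [← hN {v} (Set.singleton_subset_iff.mpr ⟨hv, fun h => h.elim h1 h2⟩) (Set.singleton_nonempty v)]
  intro x hx
  have hx' := Subgroup.mem_centralizer_singleton_iff.mp hx
  rw [Subgroup.mem_set_normalizer_iff]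
  intro n
  simp only [Set.mem_singleton_iff]
  constructor
  · rintro rfl
    rw [hx', mul_inv_cancel_right]
  · intro h
    calc n = x⁻¹ * (x * n * x⁻¹) * x := by group
      _ = x⁻¹ * (v * x) := by rw [h]; group
      _ = v := by rw [← hx']; group

/-- On `V` the signalizers are trivial. -/
theorem dade_H_eq_bot_of_cyclicTI (hD : DadeHypothesis A L H) (hW : IsSelfNormalizingCyclic W₁ W₂)
    (hWL : W₁ ⊔ W₂ ≤ L) {v : G} (hv : v ∈ W₁ ⊔ W₂) (h1 : v ∉ W₁) (h2 : v ∉ W₂) (hvA : v ∈ A) : H v = ⊥ := by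
  rw [eq_bot_iff, ← hD.inf_eq_bot v hvA]
  exact le_inf le_rfl (le_inf (((hD.le_centralizer v hvA).trans (centralizer_eq_of_mem_cyclicTI hW hv h1 h2)).trans hWL)
    (hD.le_centralizer v hvA))

/-- On class functions carried by the conjugates of `V` the Dade map is induction. -/
theorem dade_eq_indFun [Fintype G] (hD : DadeHypothesis A L H) (hW : IsSelfNormalizingCyclic W₁ W₂)
    (hWL : W₁ ⊔ W₂ ≤ L) (hVA : ∀ v ∈ W₁ ⊔ W₂, v ∉ W₁ → v ∉ W₂ → v ∈ A) {α : L → ℂ} (hα : IsClassFunction L α)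
    (hsupp : ∀ x : L, α x ≠ 0 → ∃ l ∈ L, ∃ v ∈ W₁ ⊔ W₂, v ∉ W₁ ∧ v ∉ W₂ ∧ (x : G) = l * v * l⁻¹) :
    dadeIsometry A L H α = indFun L α := by
  classical
  funext g
  by_cases hg : ∃ v ∈ W₁ ⊔ W₂, v ∉ W₁ ∧ v ∉ W₂ ∧ ∃ x : G, x * g * x⁻¹ = v
  · obtain ⟨v, hv, h1, h2, x, hx⟩ := hg
    rw [dade_apply hD hα (a := ⟨v, hWL hv⟩) (hVA v hv h1 h2) (u := 1) (Subgroup.one_mem _) (x := x) (by simpa using hx)]
    rw [← indFun_isClassFunction L α g x, hx]
    have key : ∀ y : G, extendByZero L α (y⁻¹ * v * y) = if y ∈ L then α ⟨v, hWL hv⟩ else 0 := by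
      intro y
      split
      · rename_i hy
        rw [extendByZero_of_mem _ _ (L.mul_mem (L.mul_mem (L.inv_mem hy) (hWL hv)) hy),
          ← hα ⟨v, hWL hv⟩ ⟨y, hy⟩⁻¹]
        exact congrArg α (Subtype.ext (by simp))
      · rename_i hy
        by_cases hmem : y⁻¹ * v * y ∈ L
        · rw [extendByZero_of_mem _ _ hmem]
          by_contra hne
          obtain ⟨l, hl, v', hv', h1', h2', he⟩ := hsupp ⟨_, hmem⟩ hne
          have hyl : (y * l)⁻¹ * v * (y * l)⁻¹⁻¹ = v' := by
            rw [show v' = l⁻¹ * (l * v' * l⁻¹) * l by group, ← (show y⁻¹ * v * y = l * v' * l⁻¹ from he)]; group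
          have hv1 : v ≠ 1 := fun e => h1 (e ▸ W₁.one_mem)
          refine hy ?_
          by_cases hmemW : (y * l)⁻¹ ∈ W₁ ⊔ W₂
          · have := L.mul_mem (L.inv_mem (hWL hmemW)) (L.inv_mem hl)
            simpa using this
          · exact absurd (cyclicTI_isTI hW _ hmemW v ⟨hv, fun h => h.elim h1 h2⟩
              (by rw [hyl]; exact ⟨hv', fun h => h.elim h1' h2'⟩)) hv1
        · exact extendByZero_of_not_mem _ _ hmem
    simp only [indFun, key]
    rw [← Finset.sum_filter, Finset.sum_const, nsmul_eq_mul, ← Fintype.card_subtype,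
      ← Nat.card_eq_fintype_card, ← mul_assoc,
      inv_mul_cancel₀ (Nat.cast_ne_zero.mpr (Nat.card_pos (α := L)).ne'), one_mul]
  · have hz : ∀ (x : G) (hxL : x * g * x⁻¹ ∈ L), α ⟨_, hxL⟩ = 0 := fun x hxL => by
      by_contra hne
      obtain ⟨l, -, v, hv, h1, h2, he⟩ := hsupp ⟨_, hxL⟩ hne
      exact hg ⟨v, hv, h1, h2, l⁻¹ * x, by
        rw [show v = l⁻¹ * (l * v * l⁻¹) * l by group, ← (show x * g * x⁻¹ = l * v * l⁻¹ from he)]; group⟩
    rw [show indFun L α g = 0 by
      simp only [indFun]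
      rw [Finset.sum_eq_zero fun x _ => ?_, mul_zero]
      by_cases hm : x⁻¹ * g * x ∈ L
      · rw [extendByZero_of_mem _ _ hm]
        have := hz x⁻¹ (by rwa [inv_inv])
        rw [← this]
        exact congrArg α (Subtype.ext (by simp))
      · exact extendByZero_of_not_mem _ _ hm]
    by_cases hgs : g ∈ dadeSupp A H
    · obtain ⟨a, ha, x, u, hu, hx⟩ := (dade_exists_iff_mem_supp hD g).mpr hgs
      rw [dade_apply hD hα ha hu hx]
      by_contra hne
      obtain ⟨l, hl, v, hv, h1, h2, he⟩ := hsupp a hne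
      have hu1 : u = 1 := by
        have h3 := conj_mem_H_of_mem hD ha (L.inv_mem hl) hu
        have e : l⁻¹ * (a : G) * l⁻¹⁻¹ = v := by rw [he]; group
        rw [e, dade_H_eq_bot_of_cyclicTI hD hW hWL hv h1 h2 (hVA v hv h1 h2), Subgroup.mem_bot] at h3
        calc u = l * (l⁻¹ * u * l⁻¹⁻¹) * l⁻¹ := by group
          _ = 1 := by rw [h3]; group
      subst hu1
      exact hne (by
        have := hz x (by rw [hx, mul_one]; exact a.2)
        rw [← this]
        exact congrArg α (Subtype.ext (by simp [hx])))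
    · exact dade_eq_zero_of_notMem hD α hgs

end Cyclic

end CfsgLib.OddOrder.Found
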