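import Cfsg.Agent.Lib.OddOrder.Found.DadeTools
import Cfsg.Agent.Lib.OddOrder.Found.Galois
import Cfsg.Agent.Lib.CharTheory.GaloisBound
import Cfsg.Agent.Lib.CharTheory.CoherenceUnion
import Cfsg.Agent.S1525

/-!
Peterfalvi section 7, the map `ρ` adjoint to the Dade map: support measure (R2), the norm inequality for disjoint
supports (7.5), the coefficients against coherent images (7.7), and the Galois counting bound.
-/

set_option autoImplicit false
set_option linter.unusedSectionVars false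
set_option linter.style.haveILetI false

namespace CfsgLib.OddOrder.Found

open Cfsg CfsgLib.CharTheory CfsgLib.Dade
open scoped ComplexConjugate

universe u

variable {G : Type u} [Group G] {A : Set G} {L : Subgroup G} {H : G → Subgroup G}

open Classical in
/-- The average over the signalizer cosets: the adjoint of the Dade map. -/
noncomputable def dadeRho (A : Set G) (L : Subgroup G) (H : G → Subgroup G) (χ : G → ℂ) : L → ℂ :=
  fun a => if (a : G) ∈ A then (Nat.card (H a) : ℂ)⁻¹ * ∑ᶠ u ∈ (H a : Set G), χ (a * u) else 0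

theorem dadeRho_of_mem {a : L} (ha : (a : G) ∈ A) (χ : G → ℂ) :
    dadeRho A L H χ a = (Nat.card (H a) : ℂ)⁻¹ * ∑ᶠ u ∈ (H a : Set G), χ (a * u) := by
  rw [dadeRho, if_pos ha]

theorem dadeRho_of_notMem {a : L} (ha : (a : G) ∉ A) (χ : G → ℂ) : dadeRho A L H χ a = 0 := by
  rw [dadeRho, if_neg ha]

theorem dadeRho_eq_sum [Finite G] {a : L} [Fintype (H (a : G))] (ha : (a : G) ∈ A) (χ : G → ℂ) :
    dadeRho A L H χ a = (Nat.card (H a) : ℂ)⁻¹ * ∑ u : H (a : G), χ (a * u) := by
  classical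
  rw [dadeRho_of_mem ha, finsum_mem_eq_finite_toFinset_sum _ (Set.toFinite _),
    Finset.sum_subtype _ (p := fun u => u ∈ H (a : G)) (fun u => by simp)]

theorem dadeRho_add [Finite G] (χ χ' : G → ℂ) :
    dadeRho A L H (χ + χ') = dadeRho A L H χ + dadeRho A L H χ' := by
  funext a
  by_cases ha : (a : G) ∈ A
  · haveI := Fintype.ofFinite (H (a : G))
    simp only [Pi.add_apply, dadeRho_eq_sum ha, Finset.sum_add_distrib, mul_add]
  · simp only [Pi.add_apply, dadeRho_of_notMem ha, add_zero]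

theorem dadeRho_smul [Finite G] (c : ℂ) (χ : G → ℂ) : dadeRho A L H (c • χ) = c • dadeRho A L H χ := by
  funext a
  by_cases ha : (a : G) ∈ A
  · haveI := Fintype.ofFinite (H (a : G))
    simp only [Pi.smul_apply, dadeRho_eq_sum ha, smul_eq_mul, ← Finset.mul_sum]
    ring
  · simp only [Pi.smul_apply, dadeRho_of_notMem ha, smul_zero]

theorem dadeRho_map [Finite G] (s : ℂ →+* ℂ) (χ : G → ℂ) :
    dadeRho A L H (fun g => s (χ g)) = fun a => s (dadeRho A L H χ a) := by
  funext a
  by_cases ha : (a : G) ∈ A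
  · haveI := Fintype.ofFinite (H (a : G))
    simp only [dadeRho_eq_sum ha, map_mul, map_inv₀, map_natCast, map_sum]
  · simp only [dadeRho_of_notMem ha, map_zero]

/-- `ρ` of a function constant on the cosets `a H a`. -/
theorem dadeRho_eq_of_const [Finite G] {a : L} (ha : (a : G) ∈ A) {χ : G → ℂ} {c : ℂ}
    (h : ∀ u ∈ H (a : G), χ (a * u) = c) : dadeRho A L H χ a = c := by
  haveI := Fintype.ofFinite (H (a : G))
  rw [dadeRho_eq_sum ha, Finset.sum_congr rfl fun (u : H (a : G)) _ => h u u.2, Finset.sum_const, Finset.card_univ,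
    nsmul_eq_mul, ← Nat.card_eq_fintype_card, ← mul_assoc, inv_mul_cancel₀ (Nat.cast_ne_zero.mpr Nat.card_pos.ne'),
    one_mul]

theorem dadeRho_one [Finite G] {a : L} (ha : (a : G) ∈ A) : dadeRho A L H (fun _ => 1) a = 1 :=
  dadeRho_eq_of_const ha fun _ _ => rfl

theorem isClassFunction_dadeRho [Finite G] (hD : DadeHypothesis A L H) {χ : G → ℂ} (hχ : IsClassFunction G χ) :
    IsClassFunction L (dadeRho A L H χ) := by
  intro k g
  by_cases hk : (k : G) ∈ A
  · have hk' : ((g * k * g⁻¹ : L) : G) ∈ A := by simpa using hD.conj_mem g g.2 k hk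
    haveI := Fintype.ofFinite (H (k : G))
    haveI := Fintype.ofFinite (H ((g * k * g⁻¹ : L) : G))
    rw [dadeRho_eq_sum hk', dadeRho_eq_sum hk]
    have hcard : Nat.card (H ((g * k * g⁻¹ : L) : G)) = Nat.card (H (k : G)) := by
      simpa using card_H_conj hD hk g.2
    rw [hcard]
    congr 1
    let f : H (k : G) → H ((g * k * g⁻¹ : L) : G) := fun u =>
      ⟨(g : G) * u * (g : G)⁻¹, by simpa using conj_mem_H_of_mem hD hk g.2 u.2⟩
    have hf : Function.Injective f := fun p q e => by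
      have e' : (g : G) * p * (g : G)⁻¹ = g * q * (g : G)⁻¹ := congrArg Subtype.val e
      exact Subtype.ext (mul_left_cancel (mul_right_cancel e'))
    refine (Fintype.sum_bijective f ((Fintype.bijective_iff_injective_and_card f).mpr
      ⟨hf, by rw [← Nat.card_eq_fintype_card, ← Nat.card_eq_fintype_card, hcard]⟩) _ _ fun u => ?_).symm
    rw [← hχ ((k : G) * u) g]
    simp [f, mul_assoc]
  · have hk' : ((g * k * g⁻¹ : L) : G) ∉ A := fun h => hk (by
      have := hD.conj_mem (g⁻¹ : L) (L.inv_mem g.2) _ h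
      simpa [mul_assoc] using this)
    rw [dadeRho_of_notMem hk', dadeRho_of_notMem hk]

/-- **Adjointness.** -/
theorem classInner_dade_dadeRho [Fintype G] [Fintype L] (hD : DadeHypothesis A L H) {α : L → ℂ}
    (hα : IsClassFunction L α) (hαA : ∀ x : L, (x : G) ∉ A → α x = 0) {χ : G → ℂ} (hχ : IsClassFunction G χ) :
    classInner (dadeIsometry A L H α) χ = classInner α (dadeRho A L H χ) :=
  classInner_dade hD hα hαA hχ _ fun _ ha => dadeRho_of_mem ha χ

theorem classInner_dadeRho_dade [Fintype G] [Fintype L] (hD : DadeHypothesis A L H) {α : L → ℂ}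
    (hα : IsClassFunction L α) (hαA : ∀ x : L, (x : G) ∉ A → α x = 0) {χ : G → ℂ} (hχ : IsClassFunction G χ) :
    classInner (dadeRho A L H χ) α = classInner χ (dadeIsometry A L H α) := by
  rw [← classInner_comm, ← classInner_dade_dadeRho hD hα hαA hχ, classInner_comm]

theorem card_mem_eq (hD : DadeHypothesis A L H) : Nat.card {a : L // (a : G) ∈ A} = Nat.card A :=
  Nat.card_congr ⟨fun a => ⟨(a.1 : G), a.2⟩, fun a => ⟨⟨a, hD.subset a.2⟩, a.2⟩, fun _ => rfl, fun _ => rfl⟩

/-- **(R2)** The measure of the support of the Dade map. -/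
theorem card_dadeSupp [Fintype G] [Fintype L] (hD : DadeHypothesis A L H) :
    (Nat.card (dadeSupp A H) : ℝ) / Nat.card G = (Nat.card A : ℝ) / Nat.card L := by
  classical
  set one : L → ℂ := fun a => if (a : G) ∈ A then 1 else 0 with hone
  have hcl : IsClassFunction L one := fun k g => by
    have : ((g * k * g⁻¹ : L) : G) ∈ A ↔ (k : G) ∈ A :=
      ⟨fun h => by simpa [mul_assoc] using hD.conj_mem (g⁻¹ : L) (L.inv_mem g.2) _ h,
        fun h => by simpa using hD.conj_mem g g.2 k h⟩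
    simp only [hone]
    exact if_congr this rfl rfl
  have hA : ∀ x : L, (x : G) ∉ A → one x = 0 := fun x hx => if_neg hx
  have hτ : dadeIsometry A L H one = fun g => if g ∈ dadeSupp A H then 1 else 0 := by
    funext g
    by_cases hg : g ∈ dadeSupp A H
    · obtain ⟨a, ha, x, u, hu, hx⟩ := (dade_exists_iff_mem_supp hD g).mpr hg
      rw [dade_apply hD hcl ha hu hx, if_pos hg]
      exact if_pos ha
    · rw [dade_eq_zero_of_notMem hD one hg, if_neg hg]
  have h := classInner_dade_dade hD hcl hA hcl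
  rw [hτ] at h
  simp only [classInner, hone, apply_ite (starRingEnd ℂ), map_one, map_zero, ite_mul, one_mul, zero_mul,
    mul_ite, mul_one, mul_zero] at h
  have h' : (Nat.card G : ℂ)⁻¹ * (Nat.card (dadeSupp A H) : ℂ) = (Nat.card L : ℂ)⁻¹ * (Nat.card A : ℂ) := by
    rw [← card_mem_eq hD, Nat.card_eq_fintype_card (α := dadeSupp A H), Nat.card_eq_fintype_card (α := {a : L // _}),
      Fintype.card_subtype, Fintype.card_subtype]
    convert h using 2 <;>
    · rw [Finset.card_filter, Nat.cast_sum]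
      exact Finset.sum_congr rfl fun x _ => by split_ifs <;> simp
  rw [div_eq_inv_mul, div_eq_inv_mul]
  have := congrArg Complex.re h'
  simpa [← Complex.ofReal_natCast, ← Complex.ofReal_inv, ← Complex.ofReal_mul] using this

/-- The mean square of a function on a finite group. -/
noncomputable def meanSq {X : Type*} [Fintype X] (f : X → ℂ) : ℝ :=
  (Fintype.card X : ℝ)⁻¹ * ∑ x, Complex.normSq (f x)

theorem classInner_self_eq_meanSq {X : Type u} [Group X] [Fintype X] (f : X → ℂ) :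
    classInner f f = (meanSq f : ℂ) := by
  simp [classInner, meanSq, Complex.mul_conj, Nat.card_eq_fintype_card]

theorem meanSq_dadeRho_le [Fintype G] [Fintype L] (hD : DadeHypothesis A L H) {χ : G → ℂ}
    (hχ : IsClassFunction G χ) [DecidablePred (· ∈ dadeSupp A H)] :
    meanSq (dadeRho A L H χ) ≤
      (Nat.card G : ℝ)⁻¹ * ∑ g ∈ Finset.univ.filter (· ∈ dadeSupp A H), Complex.normSq (χ g) := by
  classical
  have h := Cfsg.Agent.S1525.result A L H hD χ hχ (dadeRho A L H χ) fun a ha => dadeRho_of_mem ha χ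
  rw [finsum_mem_eq_finite_toFinset_sum _ (Set.toFinite _), finsum_mem_eq_finite_toFinset_sum _ (Set.toFinite _)] at h
  simp only [← Complex.normSq_eq_norm_sq] at h
  refine le_trans (le_of_eq ?_) (h.trans (le_of_eq ?_))
  · rw [meanSq, Nat.card_eq_fintype_card]
    congr 1
    refine (Finset.sum_subset (Finset.subset_univ _) fun x _ hx => ?_).symm
    rw [dadeRho_of_notMem (fun hm => hx (by simpa using hm)), map_zero]
  · congr 1
    refine Finset.sum_congr ?_ fun _ _ => rfl
    ext g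
    rw [Set.Finite.mem_toFinset, Finset.mem_filter]
    exact ⟨fun h => ⟨Finset.mem_univ _, h⟩, fun h => h.2⟩

/-- **(7.5)** Dade data with pairwise disjoint supports. -/
theorem sum_meanSq_dadeRho_le [Fintype G] {ι : Type*} [Fintype ι] (As : ι → Set G) (Ls : ι → Subgroup G)
    [∀ k, Fintype (Ls k)] (Hs : ι → G → Subgroup G) (hD : ∀ k, DadeHypothesis (As k) (Ls k) (Hs k))
    (hdisj : Pairwise fun i j => Disjoint (dadeSupp (As i) (Hs i)) (dadeSupp (As j) (Hs j)))
    {χ : G → ℂ} (hχ : IsClassFunction G χ) (h1 : classInner χ χ = 1)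
    (G₀ : Finset G) (hG₀ : ∀ g, g ∈ G₀ ↔ ∀ k, g ∉ dadeSupp (As k) (Hs k)) :
    (Nat.card G : ℝ)⁻¹ * ∑ g ∈ G₀, (Complex.normSq (χ g) - 1) +
      ∑ k, (meanSq (dadeRho (As k) (Ls k) (Hs k) χ) - (Nat.card (As k) : ℝ) / Nat.card (Ls k)) ≤ 0 := by
  classical
  set T : ι → Finset G := fun k => Finset.univ.filter (· ∈ dadeSupp (As k) (Hs k)) with hT
  have hTd : Set.PairwiseDisjoint (↑(Finset.univ : Finset ι)) T := fun i _ j _ hij => by
    rw [Function.onFun, Finset.disjoint_left]
    intro g hg hg'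
    exact Set.disjoint_left.mp (hdisj hij) (Finset.mem_filter.mp hg).2 (Finset.mem_filter.mp hg').2
  have hcompl : G₀ = (Finset.univ.biUnion T)ᶜ := by
    ext g
    simp [hT, hG₀]
  have hsum : ∑ g ∈ G₀, (Complex.normSq (χ g) - 1) + ∑ k, ∑ g ∈ T k, (Complex.normSq (χ g) - 1) = 0 := by
    rw [← Finset.sum_biUnion hTd, hcompl, Finset.sum_compl_add_sum, Finset.sum_sub_distrib, Finset.sum_const,
      Finset.card_univ, nsmul_eq_mul, mul_one]
    rw [classInner_self_eq_meanSq, Complex.ofReal_eq_one, meanSq, inv_mul_eq_one₀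
      (Nat.cast_ne_zero.mpr Fintype.card_ne_zero)] at h1
    linarith
  have hle : ∀ k, meanSq (dadeRho (As k) (Ls k) (Hs k) χ) - (Nat.card (As k) : ℝ) / Nat.card (Ls k) ≤
      (Nat.card G : ℝ)⁻¹ * ∑ g ∈ T k, (Complex.normSq (χ g) - 1) := fun k => by
    rw [← card_dadeSupp (hD k), Finset.sum_sub_distrib, Finset.sum_const, nsmul_eq_mul, mul_one, mul_sub,
      ← div_eq_inv_mul (((T k).card : ℕ) : ℝ)]
    refine sub_le_sub (meanSq_dadeRho_le (hD k) hχ) (le_of_eq ?_)
    rw [Nat.card_eq_fintype_card (α := dadeSupp (As k) (Hs k)), Fintype.card_subtype]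
  calc _ ≤ (Nat.card G : ℝ)⁻¹ * ∑ g ∈ G₀, (Complex.normSq (χ g) - 1) +
      ∑ k, (Nat.card G : ℝ)⁻¹ * ∑ g ∈ T k, (Complex.normSq (χ g) - 1) :=
        add_le_add le_rfl (Finset.sum_le_sum fun k _ => hle k)
    _ = 0 := by rw [← Finset.mul_sum, ← mul_add, hsum, mul_zero]

/-- **(7.7)** Against a coherent set the coefficients of `ρ χ` are those of `χ` up to a multiple of the degree. -/
theorem exists_rho_coeff [Fintype G] [Fintype L] (hD : DadeHypothesis A L H) {S : Set (L → ℂ)}
    (hchar : ∀ ξ ∈ S, IsCharacter L ξ) (hdeg : ∀ ξ ∈ S, ξ 1 ≠ 0)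
    (hvan : ∀ ξ ∈ S, ∀ x : L, (x : G) ∉ A → x ≠ 1 → ξ x = 0)
    {τ₁ : (L → ℂ) → (G → ℂ)} (hτ₁ : IsLinearIsometryOn (zspan S) τ₁)
    (hagree : ∀ α ∈ zspanOn S {1}ᶜ, τ₁ α = dadeIsometry A L H α) {χ : G → ℂ} (hχ : IsClassFunction G χ) :
    ∃ k : ℂ, ∀ ξ ∈ S, classInner (dadeRho A L H χ) ξ = classInner χ (τ₁ ξ) + k * ξ 1 := by
  by_cases hne : S.Nonempty
  swap
  · exact ⟨0, fun ξ hξ => absurd ⟨ξ, hξ⟩ hne⟩
  obtain ⟨η, hη⟩ := hne
  obtain ⟨e, he⟩ := char_one_eq_natCast (hchar η hη)
  have he0 : (e : ℂ) ≠ 0 := he ▸ hdeg η hη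
  refine ⟨(classInner (dadeRho A L H χ) η - classInner χ (τ₁ η)) / e, fun ξ hξ => ?_⟩
  obtain ⟨d, hd⟩ := char_one_eq_natCast (hchar ξ hξ)
  have hmem := deg_comb_mem hξ hη hd he
  have hcl : IsClassFunction L ((e : ℤ) • ξ - (d : ℤ) • η) := (isGenChar_iff_coeff_int.mp
    (zspan_genChar (fun φ hφ => isGenChar_of_char (hchar φ hφ)) hmem.1)).1
  have hA : ∀ x : L, (x : G) ∉ A → ((e : ℤ) • ξ - (d : ℤ) • η) x = 0 := fun x hx => by
    by_cases hx1 : x = 1
    · exact hmem.2 x fun hc => hc hx1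
    · rw [Pi.sub_apply, Pi.smul_apply, Pi.smul_apply, hvan ξ hξ x hx hx1, hvan η hη x hx hx1, smul_zero, smul_zero,
        sub_zero]
  have key := classInner_dadeRho_dade hD hcl hA hχ
  rw [← hagree _ hmem, li_comb hτ₁ (Submodule.subset_span hξ) (Submodule.subset_span hη), ← Int.cast_smul_eq_zsmul ℂ,
    ← Int.cast_smul_eq_zsmul ℂ (d : ℤ) η, classInner_sub_right, classInner_sub_right, classInner_smul_right,
    classInner_smul_right, classInner_smul_right, classInner_smul_right, Int.cast_natCast, Int.cast_natCast,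
    Complex.conj_natCast, Complex.conj_natCast] at key
  rw [hd]
  field_simp
  linear_combination key

/-- **(R7)** A nonzero generalized character has mean square at least one on a set closed under coprime powers. -/
theorem card_le_sum_normSq_of_pow_closed [Fintype G] {χ : G → ℂ} (hχ : IsGeneralizedCharacter G χ) (X : Finset G)
    (hX : ∀ m : ℕ, m.Coprime (Nat.card G) → ∀ x ∈ X, x ^ m ∈ X) (hne : ∀ x ∈ X, χ x ≠ 0) :
    (X.card : ℝ) ≤ ∑ x ∈ X, Complex.normSq (χ x) := by
  classical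
  have hn : Nat.card G ≠ 0 := Nat.card_pos.ne'
  haveI : NeZero (Nat.card G) := ⟨hn⟩
  obtain ⟨a, b, ha, hb, hab⟩ := hχ
  set u : G → rootField (Nat.card G) := fun g =>
    (⟨a g, char_mem_rootField ha g⟩ - ⟨b g, char_mem_rootField hb g⟩) with hu
  have huval : ∀ g, (u g : ℂ) = χ g := fun g => by rw [hab]; simp [hu]
  have hint : ∀ g, IsIntegral ℤ (u g : ℂ) := fun g => by
    rw [huval, hab, Pi.sub_apply]
    exact (isIntegral_of_char ha g).sub (isIntegral_of_char hb g)
  have hσ : ∀ σ : rootField (Nat.card G) →ₐ[ℚ] ℂ,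
      ∑ x ∈ X, Complex.normSq (σ (u x)) = ∑ x ∈ X, Complex.normSq (χ x) := fun σ => by
    obtain ⟨m, hm, hmσ⟩ := exists_pow_of_galois_hom hn σ
    have e : ∀ g, σ (u g) = χ (g ^ m) := fun g => by
      simp only [hu, map_sub, galois_apply_char ha g σ hmσ, galois_apply_char hb g σ hmσ, hab, Pi.sub_apply]
    simp only [e]
    have hinj : Set.InjOn (fun x : G => x ^ m) X := fun x _ y _ h => (Nat.Coprime.pow_left_bijective hm.symm).1 h
    have himg : X.image (fun x => x ^ m) = X := Finset.eq_of_subset_of_card_le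
      (Finset.image_subset_iff.mpr fun x hx => hX m hm x hx) (by rw [Finset.card_image_of_injOn hinj])
    calc ∑ x ∈ X, Complex.normSq (χ (x ^ m)) = ∑ y ∈ X.image (fun x => x ^ m), Complex.normSq (χ y) :=
          (Finset.sum_image (f := fun y => Complex.normSq (χ y)) hinj).symm
      _ = _ := by rw [himg]
  have hpos : (0 : ℝ) < Fintype.card (rootField (Nat.card G) →ₐ[ℚ] ℂ) := by
    exact_mod_cast Fintype.card_pos_iff.2 ⟨(rootField (Nat.card G)).val⟩
  refine le_of_mul_le_mul_left ?_ hpos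
  calc (Fintype.card (rootField (Nat.card G) →ₐ[ℚ] ℂ) : ℝ) * X.card
      = ∑ _x ∈ X, (Fintype.card (rootField (Nat.card G) →ₐ[ℚ] ℂ) : ℝ) := by
        rw [Finset.sum_const, nsmul_eq_mul, mul_comm]
    _ ≤ ∑ x ∈ X, ∑ σ : rootField (Nat.card G) →ₐ[ℚ] ℂ, Complex.normSq (σ (u x)) :=
        Finset.sum_le_sum fun x hx => card_le_sum_normSq hn _ (hint x)
          fun e => hne x hx (by rw [← huval, e]; rfl)
    _ = _ := by rw [Finset.sum_comm, Finset.sum_congr rfl fun σ _ => hσ σ, Finset.sum_const, Finset.card_univ, nsmul_eq_mul]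

end CfsgLib.OddOrder.Found
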