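import Cfsg.Agent.Lib.OddOrder.Found.InvDade
import Cfsg.Agent.Lib.OddOrder.Found.CoherenceTools
import Cfsg.Agent.Lib.CharTheory.CoherenceDescend
import Cfsg.Agent.Lib.CharTheory.Clifford
import Cfsg.Agent.S0161

/-!
Peterfalvi (7.7)-(7.9) for a full normal kernel: the values of `ρ` on coherent images, the bridge
`β = τ (Ind 1 - ζ)`, and the parity statement for two kernels with disjoint supports.
-/

set_option autoImplicit false
set_option linter.unusedSectionVars false
set_option linter.style.haveILetI false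

namespace CfsgLib.OddOrder.Found

open Cfsg CfsgLib.CharTheory CfsgLib.Dade
open scoped ComplexConjugate

universe u

section Expansion

variable {X : Type u} [Group X] [Fintype X] (N : Subgroup X) [N.Normal]

theorem indTriv_apply (x : X) [Decidable (x ∈ N)] :
    indFun N (fun _ => (1 : ℂ)) x = if x ∈ N then (N.index : ℂ) else 0 := by
  split
  · rename_i hx
    rw [indFun_normal_apply N (fun _ => (1 : ℂ)) ⟨x, hx⟩, Finset.sum_const, Finset.card_univ, nsmul_eq_mul, mul_one,
      ← Nat.card_eq_fintype_card, ← N.card_mul_index, Nat.cast_mul, ← mul_assoc,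
      inv_mul_cancel₀ (Nat.cast_ne_zero.mpr Nat.card_pos.ne'), one_mul]
  · rename_i hx
    exact indFun_normal_apply_not_mem N _ hx

theorem classInner_indTriv_of_kernel {f : X → ℂ} (hf : ∀ x, x ∉ N → f x = 0) :
    classInner f (indFun N (fun _ => (1 : ℂ))) = (N.index : ℂ) * classInner f (fun _ => 1) := by
  classical
  simp only [classInner, Finset.mul_sum, map_one, mul_one]
  refine Finset.sum_congr rfl fun x _ => ?_
  rw [indTriv_apply]
  split
  · rw [map_natCast]; ring
  · rename_i hx; rw [hf x hx]; ring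

theorem inducedAbove_vanish {ξ : X → ℂ} (hξ : ξ ∈ inducedIrrAbove N ⊥) {x : X} (hx : x ∉ N) : ξ x = 0 := by
  obtain ⟨θ, -, -, -, rfl⟩ := hξ
  exact indFun_normal_apply_not_mem N θ hx

theorem inducedAbove_isCharacter {ξ : X → ℂ} (hξ : ξ ∈ inducedIrrAbove N ⊥) : IsCharacter X ξ := by
  obtain ⟨θ, hθ, -, -, rfl⟩ := hξ
  exact isCharacter_indFun N (isCharacter_of_irr hθ)

theorem inducedAbove_degree {ξ : X → ℂ} (hξ : ξ ∈ inducedIrrAbove N ⊥) :
    ∃ d : ℕ, 0 < d ∧ ξ 1 = (N.index : ℂ) * d := by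
  haveI := Fintype.ofFinite N
  obtain ⟨θ, hθ, -, -, rfl⟩ := hξ
  obtain ⟨d, hd, hd1⟩ := irr_degree_pos hθ
  exact ⟨d, hd, by rw [indFun_apply_one, hd1]⟩

theorem inducedAbove_degree_ne {ξ : X → ℂ} (hξ : ξ ∈ inducedIrrAbove N ⊥) : ξ 1 ≠ 0 := by
  obtain ⟨d, hd, e⟩ := inducedAbove_degree N hξ
  rw [e]
  exact mul_ne_zero (Nat.cast_ne_zero.mpr Subgroup.index_ne_zero_of_finite) (Nat.cast_ne_zero.mpr hd.ne')

theorem inducedAbove_norm_ne {ξ : X → ℂ} (hξ : ξ ∈ inducedIrrAbove N ⊥) : classInner ξ ξ ≠ 0 := fun h => by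
  obtain ⟨r, -, hr, hr0⟩ := classInner_self_nonneg_real ξ
  rw [h] at hr
  exact inducedAbove_degree_ne N hξ (by rw [hr0 (by exact_mod_cast hr.symm)]; rfl)

theorem inducedAbove_orth_triv {ξ : X → ℂ} (hξ : ξ ∈ inducedIrrAbove N ⊥) :
    classInner ξ (indFun N (fun _ => (1 : ℂ))) = 0 := by
  haveI := Fintype.ofFinite N
  obtain ⟨θ, hθ, hθ1, -, rfl⟩ := hξ
  refine indFun_orthogonal_of_not_conj N hθ isIrrCharacter_one ?_
  rintro ⟨g, e⟩
  exact hθ1 e.symm

theorem inducedAbove_orth_one {ξ : X → ℂ} (hξ : ξ ∈ inducedIrrAbove N ⊥) : classInner ξ (fun _ => (1 : ℂ)) = 0 := by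
  have h := inducedAbove_orth_triv N hξ
  rw [classInner_indTriv_of_kernel N fun x hx => inducedAbove_vanish N hξ hx] at h
  exact (mul_eq_zero.mp h).resolve_left (Nat.cast_ne_zero.mpr Subgroup.index_ne_zero_of_finite)

theorem inducedAbove_orthogonal {ξ η : X → ℂ} (hξ : ξ ∈ inducedIrrAbove N ⊥) (hη : η ∈ inducedIrrAbove N ⊥)
    (hne : ξ ≠ η) : classInner ξ η = 0 := by
  haveI := Fintype.ofFinite N
  obtain ⟨θ, hθ, -, -, rfl⟩ := hξ
  obtain ⟨φ, hφ, -, -, rfl⟩ := hη
  refine indFun_orthogonal_of_not_conj N hθ hφ ?_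
  rintro ⟨g, e⟩
  exact hne (by rw [← e, indFun_conjNormFun])

/-- A class function carried by the kernel expands in the induced characters and the trivial one. -/
theorem kernel_expansion (S : Finset (X → ℂ)) (hS : (S : Set (X → ℂ)) = inducedIrrAbove N ⊥) {f : X → ℂ}
    (hf : IsClassFunction X f) (hfN : ∀ x, x ∉ N → f x = 0) {a : X} (ha : a ∈ N) :
    f a = (∑ ξ ∈ S, classInner f ξ / classInner ξ ξ * ξ a) + classInner f (fun _ => 1) * (N.index : ℂ) := by
  classical
  haveI := Fintype.ofFinite N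
  have hmem : ∀ ξ ∈ S, ξ ∈ inducedIrrAbove N ⊥ := fun ξ hξ => by
    rw [← hS]; exact hξ
  set one := indFun N (fun _ => (1 : ℂ)) with hone
  set g : X → ℂ := f - ∑ ξ ∈ S, (classInner f ξ / classInner ξ ξ) • ξ - classInner f (fun _ => 1) • one with hg
  have hgcl : IsClassFunction X g := isClassFunction_sub (isClassFunction_sub hf (isClassFunction_sum _ _ fun ξ hξ =>
    isClassFunction_smul _ (isClassFunction_char (inducedAbove_isCharacter N (hmem ξ hξ)))))
    (isClassFunction_smul _ (indFun_isClassFunction N _))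
  have h11 : classInner one one = (N.index : ℂ) := by
    have e1 : classInner one (fun _ => (1 : ℂ)) = 1 := by
      rw [hone, frobenius_reciprocity N _ isClassFunction_one]
      exact classInner_irr_self isIrrCharacter_one
    rw [hone] at e1 ⊢
    rw [classInner_indTriv_of_kernel N (fun x hx => indFun_normal_apply_not_mem N _ hx), e1, mul_one]
  have hpair : ∀ θ : N → ℂ, IsIrrCharacter N θ → classInner g (indFun N θ) = 0 := by
    intro θ hθ
    by_cases hθ1 : θ = fun _ => 1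
    · rw [hθ1, ← hone, hg, classInner_sub_left, classInner_sub_left, classInner_sum_left, classInner_smul_left, h11,
        classInner_indTriv_of_kernel N hfN, Finset.sum_eq_zero fun ξ hξ => by
          rw [classInner_smul_left, inducedAbove_orth_triv N (hmem ξ hξ), mul_zero]]
      ring
    · have hη : indFun N θ ∈ inducedIrrAbove N ⊥ := ⟨θ, hθ, hθ1, fun x hx => by
        rw [Subgroup.mem_bot] at hx; rw [show x = 1 from Subtype.ext hx], rfl⟩
      have hηS : indFun N θ ∈ S := by rw [← Finset.mem_coe, hS]; exact hη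
      rw [hg, classInner_sub_left, classInner_sub_left, classInner_sum_left, classInner_smul_left, hone,
        ← classInner_comm (indFun N θ) (indFun N fun _ => (1 : ℂ)), inducedAbove_orth_triv N hη, map_zero, mul_zero, sub_zero,
        Finset.sum_eq_single_of_mem (indFun N θ) hηS fun ξ hξ hne => by
          rw [classInner_smul_left, inducedAbove_orthogonal N (hmem ξ hξ) hη hne, mul_zero],
        classInner_smul_left, div_mul_cancel₀ _ (inducedAbove_norm_ne N hη), sub_self]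
  have hres : (fun n : N => g n) = 0 := by
    refine classFun_ext (fun k x => hgcl (k : X) (x : X)) isClassFunction_zero fun θ hθ => ?_
    rw [← frobenius_reciprocity' N θ hgcl, hpair θ hθ, classInner_zero_left]
  have := congrFun hres ⟨a, ha⟩
  simp only [hg, Pi.sub_apply, Finset.sum_apply, Pi.smul_apply, smul_eq_mul, Pi.zero_apply, hone, indTriv_apply,
    if_pos ha] at this
  linear_combination this

/-- The regular character restricted to the kernel. -/
theorem sum_degree_kernel (S : Finset (X → ℂ)) (hS : (S : Set (X → ℂ)) = inducedIrrAbove N ⊥) [DecidableEq X]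
    {a : X} (ha : a ∈ N) :
    (∑ ξ ∈ S, ξ 1 / classInner ξ ξ * ξ a) + (N.index : ℂ) = if a = 1 then (Nat.card X : ℂ) else 0 := by
  set r : X → ℂ := fun x => if x = 1 then (Nat.card X : ℂ) else 0 with hr
  have hcl : IsClassFunction X r := fun k x => by
    simp only [hr]
    exact if_congr conj_eq_one_iff rfl rfl
  have hval : ∀ f : X → ℂ, classInner r f = conj (f 1) := fun f => by
    simp only [classInner, hr, ite_mul, zero_mul, Finset.sum_ite_eq', Finset.mem_univ, if_true]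
    rw [← mul_assoc, inv_mul_cancel₀ (Nat.cast_ne_zero.mpr Nat.card_pos.ne'), one_mul]
  have h := kernel_expansion N S hS hcl (fun x hx => if_neg fun e : x = 1 => hx (e ▸ N.one_mem)) ha
  rw [hval, map_one, one_mul, Finset.sum_congr rfl fun ξ hξ => by
    have hm : ξ ∈ inducedIrrAbove N ⊥ := by rw [← hS]; exact hξ
    obtain ⟨d, hd⟩ := char_one_eq_natCast (inducedAbove_isCharacter N hm)
    rw [hval, show conj (ξ 1) = ξ 1 by rw [hd, map_natCast]]] at h
  exact h.symm

theorem sum_degree_sq_kernel_index (S : Finset (X → ℂ)) (hS : (S : Set (X → ℂ)) = inducedIrrAbove N ⊥) :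
    ∑ ξ ∈ S, ξ 1 * ξ 1 / classInner ξ ξ = (N.index : ℂ) * ((Nat.card N : ℂ) - 1) := by
  classical
  have h := sum_degree_kernel N S hS N.one_mem
  rw [if_pos rfl, ← N.card_mul_index, Nat.cast_mul] at h
  rw [Finset.sum_congr rfl fun ξ _ => (div_mul_eq_mul_div (ξ 1) (classInner ξ ξ) (ξ 1)).symm]
  linear_combination h

end Expansion

variable {G : Type u} [Group G] [Fintype G]

/-- A Dade hypothesis on `N#` for a normal subgroup `N` of `L`, with a coherent extension on all induced characters. -/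
structure IsKernelData (A : Set G) (L : Subgroup G) [Fintype L] (H : G → Subgroup G) (N : Subgroup L)
    (S : Finset (L → ℂ)) (τ₁ : (L → ℂ) → (G → ℂ)) : Prop where
  dade : DadeHypothesis A L H
  normal : N.Normal
  mem_iff : ∀ a : L, (a : G) ∈ A ↔ a ∈ N ∧ a ≠ 1
  set_eq : (S : Set (L → ℂ)) = inducedIrrAbove N ⊥
  iso : IsLinearIsometryOn (zspan (S : Set (L → ℂ))) τ₁
  agree : ∀ α ∈ zspanOn (S : Set (L → ℂ)) {1}ᶜ, τ₁ α = dadeIsometry A L H α

/-- `Ind 1 - ζ`. -/
noncomputable def kernelAlpha {X : Type u} [Group X] [Fintype X] (N : Subgroup X) (ζ : X → ℂ) : X → ℂ :=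
  indFun N (fun _ => (1 : ℂ)) - ζ

/-- The bridge `β = τ (Ind 1 - ζ)`. -/
noncomputable def kernelBeta (A : Set G) (L : Subgroup G) [Fintype L] (H : G → Subgroup G) (N : Subgroup L)
    (ζ : L → ℂ) : G → ℂ :=
  dadeIsometry A L H (kernelAlpha N ζ)

/-- The weighted sum `Σ ξ(1) / (e ‖ξ‖²) τ₁ ξ`. -/
noncomputable def kernelDegSum {L : Subgroup G} [Fintype L] (N : Subgroup L) (S : Finset (L → ℂ))
    (τ₁ : (L → ℂ) → (G → ℂ)) : G → ℂ :=
  ∑ ξ ∈ S, (ξ 1 / ((N.index : ℂ) * classInner ξ ξ)) • τ₁ ξ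

/-- The part of `β` orthogonal to `1` and to the coherent images. -/
noncomputable def kernelGamma (A : Set G) (L : Subgroup G) [Fintype L] (H : G → Subgroup G) (N : Subgroup L)
    (S : Finset (L → ℂ)) (τ₁ : (L → ℂ) → (G → ℂ)) (ζ : L → ℂ) (a : ℤ) : G → ℂ :=
  kernelBeta A L H N ζ - (fun _ => 1) + τ₁ ζ - (a : ℂ) • kernelDegSum N S τ₁

namespace IsKernelData

variable {A : Set G} {L : Subgroup G} [Fintype L] {H : G → Subgroup G} {N : Subgroup L} {S : Finset (L → ℂ)}
  {τ₁ : (L → ℂ) → (G → ℂ)} (D : IsKernelData A L H N S τ₁)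
include D

theorem mem {ξ : L → ℂ} (hξ : ξ ∈ S) : ξ ∈ inducedIrrAbove N ⊥ := by
  rw [← D.set_eq]; exact hξ

theorem mem_span {ξ : L → ℂ} (hξ : ξ ∈ S) : ξ ∈ zspan (S : Set (L → ℂ)) := Submodule.subset_span (Finset.mem_coe.mpr hξ)

theorem vanish {ξ : L → ℂ} (hξ : ξ ∈ S) {x : L} (hx : (x : G) ∉ A) (hx1 : x ≠ 1) : ξ x = 0 := by
  haveI := D.normal
  exact inducedAbove_vanish N (D.mem hξ) fun h => hx ((D.mem_iff x).mpr ⟨h, hx1⟩)

theorem span_vanish {α : L → ℂ} (hα : α ∈ zspanOn (S : Set (L → ℂ)) {1}ᶜ) {x : L} (hx : (x : G) ∉ A) : α x = 0 := by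
  by_cases hx1 : x = 1
  · exact hα.2 x fun hc => hc hx1
  · exact zspan_eq_zero (fun φ hφ => D.vanish hφ hx hx1) hα.1

theorem span_class {α : L → ℂ} (hα : α ∈ zspanOn (S : Set (L → ℂ)) {1}ᶜ) : IsClassFunction L α := by
  haveI := D.normal
  exact (isGenChar_iff_coeff_int.mp (zspan_genChar
    (fun φ hφ => isGenChar_of_char (inducedAbove_isCharacter N (D.mem hφ))) hα.1)).1

/-- **(7.7)** for a full kernel. -/
theorem rho_eq {χ : G → ℂ} (hχ : IsClassFunction G χ) :
    ∃ m : ℂ, ∀ a : L, (a : G) ∈ A →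
      dadeRho A L H χ a = (∑ ξ ∈ S, classInner χ (τ₁ ξ) / classInner ξ ξ * ξ a) + m := by
  classical
  haveI := D.normal
  obtain ⟨k, hk⟩ := exists_rho_coeff D.dade (S := (S : Set (L → ℂ)))
    (fun ξ hξ => inducedAbove_isCharacter N (D.mem hξ)) (fun ξ hξ => inducedAbove_degree_ne N (D.mem hξ))
    (fun ξ hξ x hx hx1 => D.vanish hξ hx hx1) D.iso D.agree hχ
  refine ⟨classInner (dadeRho A L H χ) (fun _ => 1) * (N.index : ℂ) - k * (N.index : ℂ), fun a ha => ?_⟩
  obtain ⟨haN, ha1⟩ := (D.mem_iff a).mp ha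
  rw [kernel_expansion N S D.set_eq (isClassFunction_dadeRho D.dade hχ)
    (fun x hx => dadeRho_of_notMem (fun h => hx ((D.mem_iff x).mp h).1) χ) haN]
  have hreg := sum_degree_kernel N S D.set_eq haN
  rw [if_neg ha1] at hreg
  have e : ∑ ξ ∈ S, classInner (dadeRho A L H χ) ξ / classInner ξ ξ * ξ a =
      (∑ ξ ∈ S, classInner χ (τ₁ ξ) / classInner ξ ξ * ξ a) + k * ∑ ξ ∈ S, ξ 1 / classInner ξ ξ * ξ a := by
    rw [Finset.mul_sum, ← Finset.sum_add_distrib]
    refine Finset.sum_congr rfl fun ξ hξ => ?_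
    rw [hk ξ (Finset.mem_coe.mpr hξ)]
    ring
  rw [e]
  linear_combination k * hreg

theorem rho_const_of_orth {χ : G → ℂ} (hχ : IsClassFunction G χ) (h0 : ∀ ξ ∈ S, classInner χ (τ₁ ξ) = 0) :
    ∃ m : ℂ, ∀ a : L, (a : G) ∈ A → dadeRho A L H χ a = m := by
  obtain ⟨m, hm⟩ := D.rho_eq hχ
  refine ⟨m, fun a ha => ?_⟩
  rw [hm a ha, Finset.sum_eq_zero fun ξ hξ => by rw [h0 ξ hξ, zero_div, zero_mul], zero_add]

theorem classInner_image {ξ η : L → ℂ} (hξ : ξ ∈ S) (hη : η ∈ S) [Decidable (ξ = η)] :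
    classInner (τ₁ ξ) (τ₁ η) = if ξ = η then classInner ξ ξ else 0 := by
  haveI := D.normal
  rw [D.iso.2.2.1 _ (D.mem_span hξ) _ (D.mem_span hη)]
  split
  · rename_i e; rw [e]
  · rename_i e; exact inducedAbove_orthogonal N (D.mem hξ) (D.mem hη) e

theorem isClassFunction_image {ξ : L → ℂ} (hξ : ξ ∈ S) : IsClassFunction G (τ₁ ξ) :=
  (isGenChar_iff_coeff_int.mp (D.iso.2.2.2 _ (D.mem_span hξ))).1

theorem natDeg {ξ : L → ℂ} (hξ : ξ ∈ S) : conj (ξ 1) = ξ 1 ∧ conj (classInner ξ ξ) = classInner ξ ξ := by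
  haveI := D.normal
  obtain ⟨d, hd⟩ := char_one_eq_natCast (inducedAbove_isCharacter N (D.mem hξ))
  exact ⟨by rw [hd, map_natCast], classInner_comm ξ ξ⟩

section Zeta

variable {ζ : L → ℂ} (hζ : ζ ∈ S) (hζi : IsIrrCharacter L ζ) (hζ1 : ζ 1 = (N.index : ℂ))

include hζ in
theorem alpha_vanish (hζ1 : ζ 1 = (N.index : ℂ)) {x : L} (hx : (x : G) ∉ A) : (kernelAlpha N ζ) x = 0 := by
  classical
  haveI := D.normal
  by_cases hx1 : x = 1
  · rw [kernelAlpha, Pi.sub_apply, indTriv_apply, if_pos (hx1 ▸ N.one_mem), hx1, hζ1, sub_self]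
  · rw [kernelAlpha, Pi.sub_apply, indTriv_apply, if_neg (fun h => hx ((D.mem_iff x).mpr ⟨h, hx1⟩)), D.vanish hζ hx hx1,
      sub_zero]

include hζ in
theorem isClassFunction_alpha : IsClassFunction L ((kernelAlpha N ζ)) := by
  haveI := D.normal
  exact isClassFunction_sub (indFun_isClassFunction N _)
    (isClassFunction_char (inducedAbove_isCharacter N (D.mem hζ)))

include hζ in
theorem isGenChar_alpha : IsGeneralizedCharacter L ((kernelAlpha N ζ)) := by
  haveI := D.normal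
  haveI := Fintype.ofFinite N
  exact isGenChar_sub (isGenChar_of_char (isCharacter_indFun N (isCharacter_of_irr isIrrCharacter_one)))
    (isGenChar_of_char (inducedAbove_isCharacter N (D.mem hζ)))

include hζ hζ1 in
theorem isGenChar_beta : IsGeneralizedCharacter G ((kernelBeta A L H N ζ)) :=
  isGenChar_dade D.dade (D.isGenChar_alpha hζ) fun _ hx => D.alpha_vanish hζ hζ1 hx

include hζ in
theorem alpha_orth_one : classInner ((kernelAlpha N ζ)) (fun _ => 1) = 1 := by
  haveI := D.normal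
  haveI := Fintype.ofFinite N
  rw [kernelAlpha, classInner_sub_left, frobenius_reciprocity N _ isClassFunction_one, inducedAbove_orth_one N (D.mem hζ),
    sub_zero]
  exact classInner_irr_self isIrrCharacter_one

include hζ hζ1 in
/-- **(7.8a)** -/
theorem classInner_beta_one : classInner ((kernelBeta A L H N ζ)) (fun _ => 1) = 1 := by
  classical
  rw [kernelBeta, classInner_dade_dadeRho D.dade (D.isClassFunction_alpha hζ) (fun _ hx => D.alpha_vanish hζ hζ1 hx)
    isClassFunction_one]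
  refine Eq.trans ?_ (D.alpha_orth_one hζ)
  simp only [classInner]
  congr 1
  refine Finset.sum_congr rfl fun x _ => ?_
  by_cases hx : (x : G) ∈ A
  · rw [dadeRho_one hx]
  · rw [D.alpha_vanish hζ hζ1 hx, zero_mul, zero_mul]

include hζ hζ1 hζi in
theorem classInner_beta_self : classInner ((kernelBeta A L H N ζ)) ((kernelBeta A L H N ζ)) = (N.index : ℂ) + 1 := by
  classical
  haveI := D.normal
  haveI := Fintype.ofFinite N
  rw [kernelBeta, classInner_dade_dade D.dade (D.isClassFunction_alpha hζ) (fun _ hx => D.alpha_vanish hζ hζ1 hx)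
    (D.isClassFunction_alpha hζ), kernelAlpha, classInner_sub_left, classInner_sub_right, classInner_sub_right,
    classInner_irr_self hζi, ← classInner_comm ζ, inducedAbove_orth_triv N (D.mem hζ), map_zero,
    classInner_indTriv_of_kernel N (fun x hx => indFun_normal_apply_not_mem N _ hx),
    frobenius_reciprocity N _ isClassFunction_one, classInner_irr_self isIrrCharacter_one]
  ring

include hζ hζ1 hζi in
theorem image_orth_one (h2 : 1 < S.card) {ξ : L → ℂ} (hξ : ξ ∈ S) : classInner (τ₁ ξ) (fun _ => 1) = 0 := by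
  classical
  haveI := D.normal
  have hrel : ∀ η ∈ S, (N.index : ℂ) * classInner (τ₁ η) (fun _ => 1) = η 1 * classInner (τ₁ ζ) (fun _ => 1) := by
    intro η hη
    obtain ⟨d, hd⟩ := char_one_eq_natCast (inducedAbove_isCharacter N (D.mem hη))
    have hmem := deg_comb_mem (Finset.mem_coe.mpr hη) (Finset.mem_coe.mpr hζ) hd hζ1
    have e := congrArg (fun f => classInner f (fun _ => (1 : ℂ))) (D.agree _ hmem)
    rw [li_comb D.iso (D.mem_span hη) (D.mem_span hζ)] at e
    simp only [classInner_sub_left, classInner_smul_left, Int.cast_natCast] at e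
    rw [classInner_dade_dadeRho D.dade (D.span_class hmem) (fun _ hx => D.span_vanish hmem hx) isClassFunction_one] at e
    have e0 : classInner ((N.index : ℤ) • η - (d : ℤ) • ζ) (dadeRho A L H fun _ => 1) = 0 := by
      have e1 : classInner ((N.index : ℤ) • η - (d : ℤ) • ζ) (fun _ => 1) = 0 := by
        rw [classInner_sub_left, ← Int.cast_smul_eq_zsmul ℂ, ← Int.cast_smul_eq_zsmul ℂ (d : ℤ) ζ,
          classInner_smul_left, classInner_smul_left, inducedAbove_orth_one N (D.mem hη),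
          inducedAbove_orth_one N (D.mem hζ), mul_zero, mul_zero, sub_zero]
      rw [← e1]
      simp only [classInner]
      congr 1
      refine Finset.sum_congr rfl fun x _ => ?_
      by_cases hx : (x : G) ∈ A
      · rw [dadeRho_one hx]
      · rw [D.span_vanish hmem hx, zero_mul, zero_mul]
    rw [e0] at e
    rw [hd]
    linear_combination e
  have hi : (N.index : ℂ) ≠ 0 := Nat.cast_ne_zero.mpr Subgroup.index_ne_zero_of_finite
  suffices hz : classInner (τ₁ ζ) (fun _ => 1) = 0 by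
    have := hrel ξ hξ
    rw [hz, mul_zero] at this
    exact (mul_eq_zero.mp this).resolve_left hi
  by_contra hz
  have hs : IsSignedIrr (τ₁ ζ) := irr_or_neg_of_norm_one (D.iso.2.2.2 _ (D.mem_span hζ))
    (by rw [D.classInner_image hζ hζ, if_pos rfl, classInner_irr_self hζi])
  obtain ⟨ε, hε, eζ⟩ := (signed_cases hs (Or.inl isIrrCharacter_one)).resolve_left hz
  obtain ⟨η, hη, hne⟩ := Finset.exists_mem_ne h2 ζ
  have h0 := D.classInner_image hη hζ
  rw [if_neg hne, eζ, classInner_smul_right] at h0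
  have h1 : classInner (τ₁ η) (fun _ => 1) = 0 := (mul_eq_zero.mp h0).resolve_left (by rcases hε with rfl | rfl <;> simp)
  have := hrel η hη
  rw [h1, mul_zero] at this
  exact hz ((mul_eq_zero.mp this.symm).resolve_left (inducedAbove_degree_ne N (D.mem hη)))

include hζ hζ1 hζi in
/-- **(7.8a)** The coefficients of `β` at the coherent images. -/
theorem exists_coeff : ∃ a : ℤ, classInner ((kernelBeta A L H N ζ)) (τ₁ ζ) = (a : ℂ) - 1 ∧
    ∀ ξ ∈ S, ξ ≠ ζ → classInner ((kernelBeta A L H N ζ)) (τ₁ ξ) = (a : ℂ) * (ξ 1 / (N.index : ℂ)) := by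
  classical
  haveI := D.normal
  haveI := Fintype.ofFinite N
  obtain ⟨z, hz⟩ := classInner_genChar_int (D.isGenChar_beta hζ hζ1) (D.iso.2.2.2 _ (D.mem_span hζ))
  refine ⟨z + 1, by rw [hz]; push_cast; ring, fun ξ hξ hne => ?_⟩
  obtain ⟨d, hd⟩ := char_one_eq_natCast (inducedAbove_isCharacter N (D.mem hξ))
  have hmem := deg_comb_mem (Finset.mem_coe.mpr hξ) (Finset.mem_coe.mpr hζ) hd hζ1
  have e := classInner_dade_dade D.dade (D.isClassFunction_alpha hζ) (fun _ hx => D.alpha_vanish hζ hζ1 hx)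
    (D.span_class hmem)
  rw [← D.agree _ hmem, li_comb D.iso (D.mem_span hξ) (D.mem_span hζ)] at e
  simp only [classInner_sub_right, classInner_smul_right, Int.cast_natCast, Complex.conj_natCast,
    ← Int.cast_smul_eq_zsmul ℂ] at e
  rw [show dadeIsometry A L H ((kernelAlpha N ζ)) = (kernelBeta A L H N ζ) from rfl, hz, kernelAlpha, classInner_sub_left, classInner_sub_left,
    ← classInner_comm ξ, ← classInner_comm ζ (indFun N _), inducedAbove_orth_triv N (D.mem hξ),
    inducedAbove_orth_triv N (D.mem hζ), inducedAbove_orthogonal N (D.mem hζ) (D.mem hξ) (Ne.symm hne),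
    classInner_irr_self hζi, map_zero] at e
  rw [hd, ← mul_div_assoc, eq_div_iff (Nat.cast_ne_zero.mpr Subgroup.index_ne_zero_of_finite)]
  push_cast
  linear_combination e

theorem classInner_degSum {ξ : L → ℂ} (hξ : ξ ∈ S) : classInner (kernelDegSum N S τ₁) (τ₁ ξ) = ξ 1 / (N.index : ℂ) := by
  classical
  haveI := D.normal
  rw [kernelDegSum, classInner_sum_left, Finset.sum_eq_single_of_mem ξ hξ fun η hη hne => by
      rw [classInner_smul_left, D.classInner_image hη hξ, if_neg hne, mul_zero],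
    classInner_smul_left, D.classInner_image hξ hξ, if_pos rfl]
  field_simp [inducedAbove_norm_ne N (D.mem hξ)]

theorem classInner_degSum_self :
    classInner (kernelDegSum N S τ₁) (kernelDegSum N S τ₁) = ((Nat.card N : ℂ) - 1) / (N.index : ℂ) := by
  haveI := D.normal
  have hi : (N.index : ℂ) ≠ 0 := Nat.cast_ne_zero.mpr Subgroup.index_ne_zero_of_finite
  conv_lhs => arg 2; rw [kernelDegSum]
  rw [classInner_sum_right, Finset.sum_congr rfl fun ξ hξ => show
      classInner (kernelDegSum N S τ₁) ((ξ 1 / ((N.index : ℂ) * classInner ξ ξ)) • τ₁ ξ) =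
        (ξ 1 * ξ 1 / classInner ξ ξ) * ((N.index : ℂ) * (N.index : ℂ))⁻¹ by
      rw [classInner_smul_right, D.classInner_degSum hξ, map_div₀, map_mul, map_natCast, (D.natDeg hξ).1, (D.natDeg hξ).2]
      field_simp,
    ← Finset.sum_mul, sum_degree_sq_kernel_index N S D.set_eq]
  field_simp

include hζ hζ1 hζi in
/-- **(7.8a)** The decomposition of `β`. -/
theorem gamma_facts (h2 : 1 < S.card) {a : ℤ} (ha : classInner ((kernelBeta A L H N ζ)) (τ₁ ζ) = (a : ℂ) - 1)
    (hb : ∀ ξ ∈ S, ξ ≠ ζ → classInner ((kernelBeta A L H N ζ)) (τ₁ ξ) = (a : ℂ) * (ξ 1 / (N.index : ℂ))) :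
    classInner ((kernelGamma A L H N S τ₁ ζ a)) (fun _ => 1) = 0 ∧ (∀ ξ ∈ S, classInner ((kernelGamma A L H N S τ₁ ζ a)) (τ₁ ξ) = 0) ∧
      classInner ((kernelGamma A L H N S τ₁ ζ a)) ((kernelGamma A L H N S τ₁ ζ a)) =
        (N.index : ℂ) - 1 + 2 * a - (a : ℂ) ^ 2 * (((Nat.card N : ℂ) - 1) / (N.index : ℂ)) := by
  classical
  haveI := D.normal
  have hi : (N.index : ℂ) ≠ 0 := Nat.cast_ne_zero.mpr Subgroup.index_ne_zero_of_finite
  have hζζ : classInner (τ₁ ζ) (τ₁ ζ) = 1 := by rw [D.classInner_image hζ hζ, if_pos rfl, classInner_irr_self hζi]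
  have hs1 : classInner (kernelDegSum N S τ₁) (fun _ => 1) = 0 := by
    rw [kernelDegSum, classInner_sum_left]
    exact Finset.sum_eq_zero fun ξ hξ => by rw [classInner_smul_left, D.image_orth_one hζ hζi hζ1 h2 hξ, mul_zero]
  have g1 : classInner ((kernelGamma A L H N S τ₁ ζ a)) (fun _ => 1) = 0 := by
    rw [kernelGamma, classInner_sub_left, classInner_add_left, classInner_sub_left, classInner_smul_left,
      D.classInner_beta_one hζ hζ1, D.image_orth_one hζ hζi hζ1 h2 hζ, hs1, classInner_irr_self isIrrCharacter_one]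
    ring
  have g2 : ∀ ξ ∈ S, classInner ((kernelGamma A L H N S τ₁ ζ a)) (τ₁ ξ) = 0 := fun ξ hξ => by
    rw [kernelGamma, classInner_sub_left, classInner_add_left, classInner_sub_left, classInner_smul_left,
      D.classInner_degSum hξ, D.classInner_image hζ hξ, ← classInner_comm (τ₁ ξ) (fun _ => 1),
      D.image_orth_one hζ hζi hζ1 h2 hξ, map_zero]
    by_cases e : ξ = ζ
    · rw [e, ha, if_pos rfl, classInner_irr_self hζi, hζ1, div_self hi]; ring
    · rw [hb ξ hξ e, if_neg (Ne.symm e)]; ring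
  refine ⟨g1, g2, ?_⟩
  have g3 : classInner ((kernelGamma A L H N S τ₁ ζ a)) (kernelDegSum N S τ₁) = 0 := by
    rw [kernelDegSum, classInner_sum_right]
    exact Finset.sum_eq_zero fun ξ hξ => by rw [classInner_smul_right, g2 ξ hξ, mul_zero]
  have g4 : classInner ((kernelGamma A L H N S τ₁ ζ a)) ((kernelGamma A L H N S τ₁ ζ a)) = classInner ((kernelGamma A L H N S τ₁ ζ a)) ((kernelBeta A L H N ζ)) := by
    conv_lhs => arg 2; rw [kernelGamma]
    rw [classInner_sub_right, classInner_add_right, classInner_sub_right, classInner_smul_right, g1, g2 ζ hζ, g3]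
    ring
  have g5 : classInner (kernelDegSum N S τ₁) ((kernelBeta A L H N ζ)) =
      (a : ℂ) * (((Nat.card N : ℂ) - 1) / (N.index : ℂ)) - 1 := by
    rw [kernelDegSum, classInner_sum_left, Finset.sum_congr rfl fun ξ hξ => show
        classInner ((ξ 1 / ((N.index : ℂ) * classInner ξ ξ)) • τ₁ ξ) ((kernelBeta A L H N ζ)) =
          (a : ℂ) * ((ξ 1 * ξ 1 / classInner ξ ξ) * ((N.index : ℂ) * (N.index : ℂ))⁻¹) -
            (if ξ = ζ then 1 else 0) by
        rw [classInner_smul_left, ← classInner_comm ((kernelBeta A L H N ζ))]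
        by_cases e : ξ = ζ
        · rw [e, ha, if_pos rfl, classInner_irr_self hζi, hζ1, map_sub, map_intCast, map_one]
          field_simp
        · rw [hb ξ hξ e, if_neg e, map_mul, map_div₀, map_intCast, map_natCast, (D.natDeg hξ).1]
          field_simp
          ring,
      Finset.sum_sub_distrib, ← Finset.mul_sum, ← Finset.sum_mul, sum_degree_sq_kernel_index N S D.set_eq,
      Finset.sum_ite_eq' S ζ, if_pos hζ]
    field_simp
  rw [g4, kernelGamma, classInner_sub_left, classInner_add_left, classInner_sub_left, classInner_smul_left, g5,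
    D.classInner_beta_self hζ hζi hζ1, ← classInner_comm ((kernelBeta A L H N ζ)) (fun _ => (1 : ℂ)),
    D.classInner_beta_one hζ hζ1, ← classInner_comm ((kernelBeta A L H N ζ)) (τ₁ ζ), ha, map_one, map_sub, map_intCast, map_one]
  ring

include hζ hζ1 hζi in
/-- **(7.8b)** The values of `ρ (τ₁ ζ)` on the kernel. -/
theorem rho_zeta {a : ℤ} (ha : classInner ((kernelBeta A L H N ζ)) (τ₁ ζ) = (a : ℂ) - 1) {x : L} (hx : (x : G) ∈ A) :
    dadeRho A L H (τ₁ ζ) x = ζ x + a := by
  classical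
  haveI := D.normal
  haveI := Fintype.ofFinite N
  obtain ⟨m, hm⟩ := D.rho_eq (D.isClassFunction_image hζ)
  have hval : ∀ y : L, (y : G) ∈ A → dadeRho A L H (τ₁ ζ) y = ζ y + m := fun y hy => by
    rw [hm y hy, Finset.sum_eq_single_of_mem ζ hζ fun ξ hξ hne => by
      rw [D.classInner_image hζ hξ, if_neg (Ne.symm hne), zero_div, zero_mul],
      D.classInner_image hζ hζ, if_pos rfl, classInner_irr_self hζi, div_one, one_mul]
  have key : classInner ((kernelAlpha N ζ)) (dadeRho A L H (τ₁ ζ)) = (a : ℂ) - 1 := by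
    rw [← classInner_dade_dadeRho D.dade (D.isClassFunction_alpha hζ) (fun _ hy => D.alpha_vanish hζ hζ1 hy)
      (D.isClassFunction_image hζ), ← ha]
    rfl
  have key2 : classInner ((kernelAlpha N ζ)) (dadeRho A L H (τ₁ ζ)) = classInner ((kernelAlpha N ζ)) (ζ + m • fun _ => 1) := by
    simp only [classInner]
    congr 1
    refine Finset.sum_congr rfl fun y _ => ?_
    by_cases hy : (y : G) ∈ A
    · rw [hval y hy]; simp
    · rw [D.alpha_vanish hζ hζ1 hy, zero_mul, zero_mul]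
  have hαζ : classInner ((kernelAlpha N ζ)) ζ = -1 := by
    rw [kernelAlpha, classInner_sub_left, classInner_irr_self hζi, ← classInner_comm ζ, inducedAbove_orth_triv N (D.mem hζ)]
    simp
  rw [key, classInner_add_right, classInner_smul_right, D.alpha_orth_one hζ, hαζ] at key2
  have hma : m = (a : ℂ) := by
    have e : conj m = (a : ℂ) := by linear_combination -key2
    rw [← Complex.conj_conj m, e, map_intCast]
  rw [hval x hx, hma]

include hζ hζ1 hζi in
/-- **(7.8b)** The norm of `ρ (τ₁ ζ)`. -/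
theorem classInner_rho_zeta {a : ℤ} (ha : classInner ((kernelBeta A L H N ζ)) (τ₁ ζ) = (a : ℂ) - 1) :
    classInner (dadeRho A L H (τ₁ ζ)) (dadeRho A L H (τ₁ ζ)) =
      1 + (a : ℂ) ^ 2 / (N.index : ℂ) - ((N.index : ℂ) + a) ^ 2 / ((N.index : ℂ) * (Nat.card N : ℂ)) := by
  classical
  haveI := D.normal
  haveI := Fintype.ofFinite N
  have hi : (N.index : ℂ) ≠ 0 := Nat.cast_ne_zero.mpr Subgroup.index_ne_zero_of_finite
  set one := indFun N (fun _ => (1 : ℂ)) with hone
  set g : L → ℂ := ζ + ((a : ℂ) / (N.index : ℂ)) • one with hg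
  have hgval : ∀ y : L, g y = ζ y + if y ∈ N then (a : ℂ) else 0 := fun y => by
    rw [hg, Pi.add_apply, Pi.smul_apply, hone, indTriv_apply, smul_eq_mul]
    split <;> (try field_simp) <;> ring
  have hgg : classInner g g = 1 + (a : ℂ) ^ 2 / (N.index : ℂ) := by
    have h11 : classInner one one = (N.index : ℂ) := by
      rw [hone, classInner_indTriv_of_kernel N (fun y hy => indFun_normal_apply_not_mem N _ hy),
        frobenius_reciprocity N _ isClassFunction_one, classInner_irr_self isIrrCharacter_one, mul_one]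
    rw [hg, classInner_add_left, classInner_add_right, classInner_add_right, classInner_smul_left,
      classInner_smul_right, classInner_smul_left, classInner_smul_right, classInner_irr_self hζi,
      hone, ← classInner_comm ζ, inducedAbove_orth_triv N (D.mem hζ), map_zero, ← hone, h11, map_div₀, map_intCast,
      map_natCast]
    field_simp
    ring
  have hsum : ∑ y : L, dadeRho A L H (τ₁ ζ) y * conj (dadeRho A L H (τ₁ ζ) y) =
      (∑ y : L, g y * conj (g y)) - ((N.index : ℂ) + a) ^ 2 := by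
    rw [← Finset.add_sum_erase _ _ (Finset.mem_univ (1 : L)),
      ← Finset.add_sum_erase _ (fun y => g y * conj (g y)) (Finset.mem_univ (1 : L)),
      dadeRho_of_notMem (fun h => ((D.mem_iff 1).mp h).2 rfl), hgval, if_pos N.one_mem, hζ1,
      map_add, map_natCast, map_intCast, zero_mul, zero_add]
    rw [add_sub_right_comm, ← sq, sub_self, zero_add]
    refine Finset.sum_congr rfl fun y hy => ?_
    have hy1 : y ≠ 1 := Finset.ne_of_mem_erase hy
    by_cases hyA : (y : G) ∈ A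
    · rw [D.rho_zeta hζ hζi hζ1 ha hyA, hgval, if_pos ((D.mem_iff y).mp hyA).1]
    · rw [dadeRho_of_notMem hyA, hgval, if_neg (fun h => hyA ((D.mem_iff y).mpr ⟨h, hy1⟩)), D.vanish hζ hyA hy1,
        add_zero]
  simp only [classInner] at hgg ⊢
  rw [hsum, mul_sub, hgg, ← N.card_mul_index, Nat.cast_mul]
  ring

include hζ hζ1 hζi in
/-- **(7.8b)** The lower bound. -/
theorem one_sub_le_meanSq (h2e : 2 * N.index + 1 ≤ Nat.card N) :
    1 - (N.index : ℝ) / Nat.card N ≤ meanSq (dadeRho A L H (τ₁ ζ)) := by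
  obtain ⟨a, ha, -⟩ := D.exists_coeff hζ hζi hζ1
  have h := D.classInner_rho_zeta hζ hζi hζ1 ha
  rw [classInner_self_eq_meanSq] at h
  have h' : meanSq (dadeRho A L H (τ₁ ζ)) =
      1 + (a : ℝ) ^ 2 / (N.index : ℝ) - ((N.index : ℝ) + a) ^ 2 / ((N.index : ℝ) * (Nat.card N : ℝ)) :=
    Complex.ofReal_injective (by rw [h]; push_cast; ring)
  have he : (0 : ℝ) < (N.index : ℝ) := by exact_mod_cast Nat.pos_of_ne_zero Subgroup.index_ne_zero_of_finite
  have hh : (2 * (N.index : ℝ) + 1 : ℝ) ≤ (Nat.card N : ℝ) := by exact_mod_cast h2e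
  have hh0 : (0 : ℝ) < (Nat.card N : ℝ) := by linarith
  have haa : (0 : ℝ) ≤ (a : ℝ) ^ 2 - a := by
    have : a ≤ a ^ 2 := Int.le_self_sq a
    have : ((a : ℤ) : ℝ) ≤ ((a ^ 2 : ℤ) : ℝ) := by exact_mod_cast this
    push_cast at this
    linarith
  rw [h', ← sub_nonneg]
  have key : 1 + (a : ℝ) ^ 2 / (N.index : ℝ) - ((N.index : ℝ) + a) ^ 2 / ((N.index : ℝ) * (Nat.card N : ℝ)) -
      (1 - (N.index : ℝ) / (Nat.card N : ℝ)) =
      (((a : ℝ) ^ 2) * ((Nat.card N : ℝ) - 1 - 2 * (N.index : ℝ)) + 2 * (N.index : ℝ) * ((a : ℝ) ^ 2 - a)) /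
        ((N.index : ℝ) * (Nat.card N : ℝ)) := by
    field_simp
    ring
  rw [key]
  exact div_nonneg (add_nonneg (mul_nonneg (sq_nonneg _) (by linarith)) (mul_nonneg (by linarith) haa)) (by positivity)

include hζ hζ1 hζi in
/-- **(7.8c)** A function orthogonal to the images is the constant `⟨χ, β⟩` under `ρ`. -/
theorem rho_of_orth {χ : G → ℂ} (hχ : IsClassFunction G χ) (h0 : ∀ ξ ∈ S, classInner χ (τ₁ ξ) = 0) {x : L}
    (hx : (x : G) ∈ A) : dadeRho A L H χ x = classInner χ ((kernelBeta A L H N ζ)) := by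
  classical
  obtain ⟨m, hm⟩ := D.rho_const_of_orth hχ h0
  have key := classInner_dadeRho_dade D.dade (D.isClassFunction_alpha hζ)
    (fun _ hy => D.alpha_vanish hζ hζ1 hy) hχ
  rw [show dadeIsometry A L H ((kernelAlpha N ζ)) = (kernelBeta A L H N ζ) from rfl] at key
  rw [hm x hx, ← key]
  have : classInner (dadeRho A L H χ) ((kernelAlpha N ζ)) = m * classInner (fun _ => (1 : ℂ)) ((kernelAlpha N ζ)) := by
    simp only [classInner, one_mul]
    rw [mul_left_comm, Finset.mul_sum (a := m)]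
    congr 1
    refine Finset.sum_congr rfl fun y _ => ?_
    by_cases hy : (y : G) ∈ A
    · rw [hm y hy]
    · rw [D.alpha_vanish hζ hζ1 hy, map_zero, mul_zero, mul_zero]
  rw [this, ← classInner_comm ((kernelAlpha N ζ)), D.alpha_orth_one hζ, map_one, mul_one]

include hζ hζ1 hζi in
/-- **(7.8c)** The norm of `ρ χ` for `χ` orthogonal to the images. -/
theorem classInner_rho_of_orth {χ : G → ℂ} (hχ : IsClassFunction G χ) (h0 : ∀ ξ ∈ S, classInner χ (τ₁ ξ) = 0) :
    classInner (dadeRho A L H χ) (dadeRho A L H χ) =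
      classInner χ (kernelBeta A L H N ζ) * conj (classInner χ (kernelBeta A L H N ζ)) *
        (((Nat.card N : ℂ) - 1) / ((N.index : ℂ) * (Nat.card N : ℂ))) := by
  classical
  haveI := D.normal
  set m := classInner χ (kernelBeta A L H N ζ) with hm
  have hsum : ∑ y : L, dadeRho A L H χ y * conj (dadeRho A L H χ y) = ((Nat.card N : ℂ) - 1) * (m * conj m) := by
    rw [← Finset.sum_subset (Finset.subset_univ (Finset.univ.filter fun y : L => (y : G) ∈ A)) fun y _ hy => by
      rw [dadeRho_of_notMem (fun h => hy (Finset.mem_filter.mpr ⟨Finset.mem_univ _, h⟩)), zero_mul],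
      Finset.sum_congr rfl fun y hy => by rw [D.rho_of_orth hζ hζi hζ1 hχ h0 (Finset.mem_filter.mp hy).2],
      Finset.sum_const, nsmul_eq_mul]
    congr 1
    rw [show (Finset.univ.filter fun y : L => (y : G) ∈ A) = (Finset.univ.filter fun y : L => y ∈ N).erase 1 by
      ext y; simp [D.mem_iff, and_comm], Finset.card_erase_of_mem (by simp [N.one_mem]), ← Fintype.card_subtype,
      ← Nat.card_eq_fintype_card, Nat.cast_sub Nat.card_pos, Nat.cast_one]
  simp only [classInner] at hm ⊢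
  rw [hsum, ← N.card_mul_index, Nat.cast_mul]
  ring

end Zeta

end IsKernelData

/-- Two real generalized characters orthogonal to `1` have an even inner product in odd order. -/
theorem even_classInner_of_real (hodd : Odd (Nat.card G)) {f g : G → ℂ} (hf : IsGeneralizedCharacter G f)
    (hg : IsGeneralizedCharacter G g) (hfr : conjFun f = f) (hgr : conjFun g = g)
    (hf1 : classInner f (fun _ => 1) = 0) : ∃ z : ℤ, classInner f g = ((2 * z : ℤ) : ℂ) := by
  classical
  obtain ⟨hfc, hfi⟩ := isGenChar_iff_coeff_int.mp hf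
  obtain ⟨-, hgi⟩ := isGenChar_iff_coeff_int.mp hg
  choose c hc using fun ψ : IrrCharacter G => hfi ψ ψ.2
  choose d hd using fun ψ : IrrCharacter G => hgi ψ ψ.2
  have hsum : classInner f g = ((∑ ψ : IrrCharacter G, c ψ * d ψ : ℤ) : ℂ) := by
    rw [classInner_eq_sum_irr hfc]
    push_cast
    refine Finset.sum_congr rfl fun ψ _ => ?_
    rw [← classInner_comm g, hd, hc, map_intCast]
  let σ : IrrCharacter G → IrrCharacter G := fun ψ => ⟨conjFun (ψ : G → ℂ), isIrrCharacter_conjChar ψ.2⟩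
  have hinv : ∀ ψ, σ (σ ψ) = ψ := fun ψ => Subtype.ext (cs_conj_conj' (ψ : G → ℂ))
  have hreal : ∀ (a : G → ℂ), conjFun a = a → ∀ (ψ : IrrCharacter G) (z : ℤ), classInner a (ψ : G → ℂ) = z →
      classInner a (σ ψ : G → ℂ) = z := fun a har ψ z hz => by
    have e : classInner (conjFun a) (conjFun (ψ : G → ℂ)) = conj (classInner a (ψ : G → ℂ)) := by
      simp [classInner, conjFun, map_sum, map_mul]
    rw [har, hz, map_intCast] at e
    exact e
  have hcσ : ∀ ψ, c (σ ψ) = c ψ := fun ψ => by exact_mod_cast (hc (σ ψ)).symm.trans (hreal f hfr ψ _ (hc ψ))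
  have hdσ : ∀ ψ, d (σ ψ) = d ψ := fun ψ => by exact_mod_cast (hd (σ ψ)).symm.trans (hreal g hgr ψ _ (hd ψ))
  have h2 : (2 : ℤ) ∣ ∑ ψ : IrrCharacter G, c ψ * d ψ := by
    refine (ZMod.intCast_zmod_eq_zero_iff_dvd _ 2).mp ?_
    rw [Int.cast_sum]
    refine Finset.sum_involution (fun ψ _ => σ ψ) (fun ψ _ => ?_) (fun ψ _ hne e => ?_) (fun ψ _ => Finset.mem_univ _)
      fun ψ _ => hinv ψ
    · rw [hcσ, hdσ]
      exact CharTwo.add_self_eq_zero _
    · have hψ := Cfsg.Agent.S0161.result hodd ψ fun x =>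
        Complex.conj_eq_iff_im.mp (congrFun (congrArg Subtype.val e) x)
      have h0 : ((c ψ : ℤ) : ℂ) = 0 := by rw [← hc, hψ]; exact hf1
      rw [Int.cast_eq_zero] at h0
      exact hne (by rw [h0]; simp)
  obtain ⟨z, hz⟩ := h2
  exact ⟨z, by rw [hsum, hz]⟩
where
  cs_conj_conj' (ψ : G → ℂ) : conjFun (conjFun ψ) = ψ := by funext x; simp [conjFun]

section TwoKernels

/-- Dade images for disjoint supports are orthogonal. -/
theorem classInner_dade_disjoint {A A' : Set G} {L L' : Subgroup G} {H H' : G → Subgroup G}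
    (hD : DadeHypothesis A L H) (hD' : DadeHypothesis A' L' H')
    (hdisj : Disjoint (dadeSupp A H) (dadeSupp A' H')) (α : L → ℂ) (β : L' → ℂ) :
    classInner (dadeIsometry A L H α) (dadeIsometry A' L' H' β) = 0 := by
  simp only [classInner]
  rw [Finset.sum_eq_zero fun g _ => ?_, mul_zero]
  by_cases hg : g ∈ dadeSupp A H
  · rw [dade_eq_zero_of_notMem hD' β (Set.disjoint_left.mp hdisj hg), map_zero, mul_zero]
  · rw [dade_eq_zero_of_notMem hD α hg, zero_mul]

variable {A A' : Set G} {L L' : Subgroup G} [Fintype L] [Fintype L'] {H H' : G → Subgroup G} {N : Subgroup L}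
  {N' : Subgroup L'} {S : Finset (L → ℂ)} {S' : Finset (L' → ℂ)} {τ₁ : (L → ℂ) → (G → ℂ)}
  {τ₁' : (L' → ℂ) → (G → ℂ)}

/-- **(7.9)** The coherent images of two kernels with disjoint supports are orthogonal. -/
theorem kernel_images_orth (D : IsKernelData A L H N S τ₁) (D' : IsKernelData A' L' H' N' S' τ₁')
    (hdisj : Disjoint (dadeSupp A H) (dadeSupp A' H'))
    (hirr : ∀ ξ ∈ S, IsIrrCharacter L ξ) (hirr' : ∀ ξ ∈ S', IsIrrCharacter L' ξ)
    (hne : ∀ ξ ∈ S, conjFun ξ ≠ ξ) (hne' : ∀ ξ ∈ S', conjFun ξ ≠ ξ)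
    {ξ : L → ℂ} (hξ : ξ ∈ S) {η : L' → ℂ} (hη : η ∈ S') : classInner (τ₁ ξ) (τ₁' η) = 0 := by
  classical
  haveI := D.normal
  haveI := D'.normal
  have hcm : conjFun ξ ∈ S := by rw [← Finset.mem_coe, D.set_eq]; exact inducedIrrAbove_conj N ⊥ (D.mem hξ)
  have hcm' : conjFun η ∈ S' := by rw [← Finset.mem_coe, D'.set_eq]; exact inducedIrrAbove_conj N' ⊥ (D'.mem hη)
  have hs : IsSignedIrr (τ₁ ξ) := signed_image (fun a ha => hirr a ha) D.iso (Finset.mem_coe.mpr hξ)
  have hs' : IsSignedIrr (τ₁' η) := signed_image (fun a ha => hirr' a ha) D'.iso (Finset.mem_coe.mpr hη)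
  have hsc : IsSignedIrr (τ₁ (conjFun ξ)) := signed_image (fun a ha => hirr a ha) D.iso (Finset.mem_coe.mpr hcm)
  have hsc' : IsSignedIrr (τ₁' (conjFun η)) := signed_image (fun a ha => hirr' a ha) D'.iso (Finset.mem_coe.mpr hcm')
  have o : classInner (τ₁ ξ) (τ₁ (conjFun ξ)) = 0 := by
    rw [D.classInner_image hξ hcm, if_neg (Ne.symm (hne ξ hξ))]
  have o' : classInner (τ₁' η) (τ₁' (conjFun η)) = 0 := by
    rw [D'.classInner_image hη hcm', if_neg (Ne.symm (hne' η hη))]
  have hm : ξ - conjFun ξ ∈ zspanOn (S : Set (L → ℂ)) {1}ᶜ := ⟨Submodule.sub_mem _ (D.mem_span hξ) (D.mem_span hcm),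
    fun x hx => by
      obtain ⟨d, hd⟩ := char_one_eq_natCast (inducedAbove_isCharacter N (D.mem hξ))
      rw [not_not.mp hx, Pi.sub_apply, conjFun, hd, map_natCast, sub_self]⟩
  have hm' : η - conjFun η ∈ zspanOn (S' : Set (L' → ℂ)) {1}ᶜ := ⟨Submodule.sub_mem _ (D'.mem_span hη) (D'.mem_span hcm'),
    fun x hx => by
      obtain ⟨d, hd⟩ := char_one_eq_natCast (inducedAbove_isCharacter N' (D'.mem hη))
      rw [not_not.mp hx, Pi.sub_apply, conjFun, hd, map_natCast, sub_self]⟩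
  have e := classInner_dade_disjoint D.dade D'.dade hdisj (ξ - conjFun ξ) (η - conjFun η)
  rw [← D.agree _ hm, ← D'.agree _ hm'] at e
  have hdeg1 : τ₁ ξ 1 = τ₁ (conjFun ξ) 1 := by
    have h1 : τ₁ (ξ - conjFun ξ) 1 = 0 := by rw [D.agree _ hm]; exact dade_apply_one D.dade _
    rwa [isometryOn_sub D.iso (D.mem_span hξ) (D.mem_span hcm), Pi.sub_apply, sub_eq_zero] at h1
  have hdeg2 : τ₁' η 1 = τ₁' (conjFun η) 1 := by
    have h1 : τ₁' (η - conjFun η) 1 = 0 := by rw [D'.agree _ hm']; exact dade_apply_one D'.dade _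
    rwa [isometryOn_sub D'.iso (D'.mem_span hη) (D'.mem_span hcm'), Pi.sub_apply, sub_eq_zero] at h1
  rw [isometryOn_sub D.iso (D.mem_span hξ) (D.mem_span hcm), isometryOn_sub D'.iso (D'.mem_span hη) (D'.mem_span hcm')] at e
  exact (four_signed hs hsc hs' hsc' one_ne_zero one_ne_zero o o' (by simpa using e) hdeg1 (by simpa using hdeg2)).1

/-- **(7.9)** The coefficients of one bridge on the images of the other kernel are proportional to the degrees. -/
theorem cross_coeff (D : IsKernelData A L H N S τ₁) (D' : IsKernelData A' L' H' N' S' τ₁')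
    (hdisj : Disjoint (dadeSupp A H) (dadeSupp A' H')) {ζ : L → ℂ} (hζ : ζ ∈ S) (hζ1 : ζ 1 = (N.index : ℂ))
    (ζ' : L' → ℂ) {ξ : L → ℂ} (hξ : ξ ∈ S) :
    classInner (kernelBeta A' L' H' N' ζ') (τ₁ ξ) =
      classInner (kernelBeta A' L' H' N' ζ') (τ₁ ζ) * (ξ 1 / (N.index : ℂ)) := by
  haveI := D.normal
  obtain ⟨d, hd⟩ := char_one_eq_natCast (inducedAbove_isCharacter N (D.mem hξ))
  have hmem := deg_comb_mem (Finset.mem_coe.mpr hξ) (Finset.mem_coe.mpr hζ) hd hζ1
  have e := classInner_dade_disjoint D'.dade D.dade hdisj.symm (kernelAlpha N' ζ')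
    ((N.index : ℤ) • ξ - (d : ℤ) • ζ)
  rw [← D.agree _ hmem, li_comb D.iso (D.mem_span hξ) (D.mem_span hζ)] at e
  simp only [classInner_sub_right, classInner_smul_right, Int.cast_natCast, Complex.conj_natCast] at e
  rw [hd, ← mul_div_assoc, eq_div_iff (Nat.cast_ne_zero.mpr Subgroup.index_ne_zero_of_finite)]
  unfold kernelBeta
  linear_combination e

theorem cross_gamma (D : IsKernelData A L H N S τ₁) (D' : IsKernelData A' L' H' N' S' τ₁')
    (hdisj : Disjoint (dadeSupp A H) (dadeSupp A' H'))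
    (horth : ∀ ξ ∈ S, ∀ η ∈ S', classInner (τ₁ ξ) (τ₁' η) = 0)
    {ζ : L → ℂ} (hζ : ζ ∈ S) (hζi : IsIrrCharacter L ζ) (hζ1 : ζ 1 = (N.index : ℂ)) (h2 : 1 < S.card)
    {ζ' : L' → ℂ} (hζ' : ζ' ∈ S') (a' : ℤ) {ξ : L → ℂ} (hξ : ξ ∈ S) :
    classInner (kernelGamma A' L' H' N' S' τ₁' ζ' a') (τ₁ ξ) =
      classInner (kernelBeta A' L' H' N' ζ') (τ₁ ζ) * (ξ 1 / (N.index : ℂ)) := by
  have hz : classInner (kernelDegSum N' S' τ₁') (τ₁ ξ) = 0 := by
    rw [kernelDegSum, classInner_sum_left]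
    exact Finset.sum_eq_zero fun η hη => by
      rw [classInner_smul_left, ← classInner_comm (τ₁ ξ), horth ξ hξ η hη, map_zero, mul_zero]
  rw [kernelGamma, classInner_sub_left, classInner_add_left, classInner_sub_left, classInner_smul_left, hz,
    ← classInner_comm (τ₁ ξ) (fun _ => (1 : ℂ)), D.image_orth_one hζ hζi hζ1 h2 hξ, map_zero,
    ← classInner_comm (τ₁ ξ) (τ₁' ζ'), horth ξ hξ ζ' hζ', map_zero, cross_coeff D D' hdisj hζ hζ1 ζ' hξ]
  ring

/-- A generalized character of the shape of `Γ` is real. -/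
theorem kernelGamma_real (D : IsKernelData A L H N S τ₁) (hirr : ∀ ξ ∈ S, IsIrrCharacter L ξ)
    (hc : ∀ ξ ∈ S, τ₁ (conjFun ξ) = conjFun (τ₁ ξ)) {ζ : L → ℂ} (hζ : ζ ∈ S) (hζ1 : ζ 1 = (N.index : ℂ)) (a : ℤ) :
    conjFun (kernelGamma A L H N S τ₁ ζ a) = kernelGamma A L H N S τ₁ ζ a ∧
      IsGeneralizedCharacter G (kernelGamma A L H N S τ₁ ζ a) := by
  classical
  haveI := D.normal
  haveI := Fintype.ofFinite N
  have hcm : ∀ ξ ∈ S, conjFun ξ ∈ S := fun ξ hξ => by
    rw [← Finset.mem_coe, D.set_eq]; exact inducedIrrAbove_conj N ⊥ (D.mem hξ)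
  constructor
  · have hsum : conjFun (kernelDegSum N S τ₁) = kernelDegSum N S τ₁ := by
      funext g
      simp only [kernelDegSum, conjFun, Finset.sum_apply, map_sum, Pi.smul_apply, smul_eq_mul, map_mul]
      refine Finset.sum_nbij' conjFun conjFun hcm hcm (fun ξ _ => cs_conj_conj ξ) (fun ξ _ => cs_conj_conj ξ)
        fun ξ hξ => ?_
      rw [hc ξ hξ, map_div₀, map_mul, map_natCast, (D.natDeg hξ).1, (D.natDeg hξ).2,
        classInner_irr_self (hirr ξ hξ), classInner_irr_self (hirr _ (hcm ξ hξ)),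
        conjFun_char_one' (inducedAbove_isCharacter N (D.mem hξ))]
      rfl
    have hm : ζ - conjFun ζ ∈ zspanOn (S : Set (L → ℂ)) {1}ᶜ :=
      ⟨Submodule.sub_mem _ (D.mem_span hζ) (D.mem_span (hcm ζ hζ)), fun x hx => by
        rw [not_not.mp hx, Pi.sub_apply, conjFun_char_one' (inducedAbove_isCharacter N (D.mem hζ)), sub_self]⟩
    have hbeta : conjFun (kernelBeta A L H N ζ) + conjFun (τ₁ ζ) = kernelBeta A L H N ζ + τ₁ ζ := by
      have e1 : conjFun (kernelBeta A L H N ζ) = kernelBeta A L H N (conjFun ζ) := by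
        rw [kernelBeta, ← dade_conjFun, kernelBeta]
        congr 1
        funext x
        simp only [kernelAlpha, conjFun, Pi.sub_apply, map_sub, indTriv_apply, apply_ite (starRingEnd ℂ),
          map_natCast, map_zero]
      have e2 : kernelBeta A L H N (conjFun ζ) = kernelBeta A L H N ζ + dadeIsometry A L H (ζ - conjFun ζ) := by
        rw [kernelBeta, kernelBeta, ← dade_add]
        congr 1
        funext x; simp [kernelAlpha]
      rw [e1, e2, ← D.agree _ hm, isometryOn_sub D.iso (D.mem_span hζ) (D.mem_span (hcm ζ hζ)), hc ζ hζ]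
      funext g; simp only [Pi.add_apply, Pi.sub_apply]; ring
    funext g
    have h1 := congrFun hbeta g
    have h2 := congrFun hsum g
    simp only [conjFun, Pi.add_apply] at h1 h2
    simp only [kernelGamma, conjFun, Pi.sub_apply, Pi.add_apply, Pi.smul_apply, smul_eq_mul, map_sub, map_add,
      map_mul, map_one, map_intCast, h2]
    linear_combination h1
  · refine isGenChar_sub (isGenChar_add (isGenChar_sub (D.isGenChar_beta hζ hζ1)
      (isGenChar_of_char (isCharacter_of_irr isIrrCharacter_one))) (D.iso.2.2.2 _ (D.mem_span hζ)))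
      (isGenChar_intSmul a (isGenChar_sum _ _ fun ξ hξ => ?_))
    obtain ⟨d, -, hd⟩ := inducedAbove_degree N (D.mem hξ)
    rw [hd, classInner_irr_self (hirr ξ hξ), mul_one,
      mul_div_cancel_left₀ _ (Nat.cast_ne_zero.mpr Subgroup.index_ne_zero_of_finite)]
    exact_mod_cast isGenChar_intSmul (d : ℤ) (D.iso.2.2.2 _ (D.mem_span hξ))
where
  conjFun_char_one' {φ : L → ℂ} (hφ : IsCharacter L φ) : conjFun φ 1 = φ 1 := by
    obtain ⟨d, hd⟩ := char_one_eq_natCast hφ
    show conj (φ 1) = φ 1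
    rw [hd, map_natCast]

/-- **(7.9)** The cross coefficients have odd sum. -/
theorem cross_parity (D : IsKernelData A L H N S τ₁) (D' : IsKernelData A' L' H' N' S' τ₁')
    (hodd : Odd (Nat.card G)) (hdisj : Disjoint (dadeSupp A H) (dadeSupp A' H'))
    (hirr : ∀ ξ ∈ S, IsIrrCharacter L ξ) (hirr' : ∀ ξ ∈ S', IsIrrCharacter L' ξ)
    (hne : ∀ ξ ∈ S, conjFun ξ ≠ ξ) (hne' : ∀ ξ ∈ S', conjFun ξ ≠ ξ)
    (hc : ∀ ξ ∈ S, τ₁ (conjFun ξ) = conjFun (τ₁ ξ)) (hc' : ∀ ξ ∈ S', τ₁' (conjFun ξ) = conjFun (τ₁' ξ))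
    {ζ : L → ℂ} (hζ : ζ ∈ S) (hζ1 : ζ 1 = (N.index : ℂ)) (h2 : 1 < S.card)
    {ζ' : L' → ℂ} (hζ' : ζ' ∈ S') (hζ1' : ζ' 1 = (N'.index : ℂ)) (h2' : 1 < S'.card)
    (hk : ∃ k : ℕ, Nat.card N = 2 * k * N.index + 1) (hk' : ∃ k : ℕ, Nat.card N' = 2 * k * N'.index + 1)
    {u v : ℤ} (hu : classInner (kernelBeta A' L' H' N' ζ') (τ₁ ζ) = u)
    (hv : classInner (kernelBeta A L H N ζ) (τ₁' ζ') = v) : Odd (u + v) := by
  classical
  have horth : ∀ ξ ∈ S, ∀ η ∈ S', classInner (τ₁ ξ) (τ₁' η) = 0 := fun ξ hξ η hη =>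
    kernel_images_orth D D' hdisj hirr hirr' hne hne' hξ hη
  have horth' : ∀ η ∈ S', ∀ ξ ∈ S, classInner (τ₁' η) (τ₁ ξ) = 0 := fun η hη ξ hξ => by
    rw [← classInner_comm, horth ξ hξ η hη, map_zero]
  obtain ⟨a, ha, hb⟩ := D.exists_coeff hζ (hirr ζ hζ) hζ1
  obtain ⟨a', ha', hb'⟩ := D'.exists_coeff hζ' (hirr' ζ' hζ') hζ1'
  obtain ⟨g1, -, -⟩ := D.gamma_facts hζ (hirr ζ hζ) hζ1 h2 ha hb
  obtain ⟨g1', -, -⟩ := D'.gamma_facts hζ' (hirr' ζ' hζ') hζ1' h2' ha' hb'
  obtain ⟨r, rg⟩ := kernelGamma_real D hirr hc hζ hζ1 a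
  obtain ⟨r', rg'⟩ := kernelGamma_real D' hirr' hc' hζ' hζ1' a'
  obtain ⟨z, hz⟩ := even_classInner_of_real hodd rg rg' r r' g1
  obtain ⟨k, hk⟩ := hk
  obtain ⟨k', hk'⟩ := hk'
  have hi : (N.index : ℂ) ≠ 0 := Nat.cast_ne_zero.mpr Subgroup.index_ne_zero_of_finite
  have hi' : (N'.index : ℂ) ≠ 0 := Nat.cast_ne_zero.mpr Subgroup.index_ne_zero_of_finite
  set β := kernelBeta A L H N ζ with hβ
  set β' := kernelBeta A' L' H' N' ζ' with hβ'
  set Γ := kernelGamma A L H N S τ₁ ζ a with hΓ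
  set Γ' := kernelGamma A' L' H' N' S' τ₁' ζ' a' with hΓ'
  have eβ : β = (fun _ => 1) - τ₁ ζ + (a : ℂ) • kernelDegSum N S τ₁ + Γ := by
    rw [hΓ, kernelGamma, ← hβ]; funext g; simp only [Pi.add_apply, Pi.sub_apply]; ring
  have eβ' : β' = (fun _ => 1) - τ₁' ζ' + (a' : ℂ) • kernelDegSum N' S' τ₁' + Γ' := by
    rw [hΓ', kernelGamma, ← hβ']; funext g; simp only [Pi.add_apply, Pi.sub_apply]; ring
  have h0 : classInner β β' = 0 := classInner_dade_disjoint D.dade D'.dade hdisj _ _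
  have s' : classInner β (kernelDegSum N' S' τ₁') = (v : ℂ) * (2 * k') := by
    haveI := D'.normal
    rw [kernelDegSum, classInner_sum_right, Finset.sum_congr rfl fun η hη => show
        classInner β ((η 1 / ((N'.index : ℂ) * classInner η η)) • τ₁' η) =
          (v : ℂ) * ((η 1 * η 1 / classInner η η) * ((N'.index : ℂ) * (N'.index : ℂ))⁻¹) by
        rw [classInner_smul_right, hβ, cross_coeff D' D hdisj.symm hζ' hζ1' ζ hη, hv, map_div₀, map_mul, map_natCast,
          (D'.natDeg hη).1, (D'.natDeg hη).2]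
        field_simp,
      ← Finset.mul_sum, ← Finset.sum_mul, sum_degree_sq_kernel_index N' S' D'.set_eq, hk']
    push_cast
    field_simp
    ring
  have sΓ : ∀ ξ ∈ S, classInner (τ₁ ξ) Γ' = (u : ℂ) * (ξ 1 / (N.index : ℂ)) := fun ξ hξ => by
    rw [← classInner_comm, hΓ', cross_gamma D D' hdisj horth hζ (hirr ζ hζ) hζ1 h2 hζ' a' hξ, hu, map_mul,
      map_intCast, map_div₀, map_natCast, (D.natDeg hξ).1]
  have sS : classInner (kernelDegSum N S τ₁) Γ' = (u : ℂ) * (2 * k) := by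
    haveI := D.normal
    rw [kernelDegSum, classInner_sum_left, Finset.sum_congr rfl fun ξ hξ => show
        classInner ((ξ 1 / ((N.index : ℂ) * classInner ξ ξ)) • τ₁ ξ) Γ' =
          (u : ℂ) * ((ξ 1 * ξ 1 / classInner ξ ξ) * ((N.index : ℂ) * (N.index : ℂ))⁻¹) by
        rw [classInner_smul_left, sΓ ξ hξ]
        field_simp,
      ← Finset.mul_sum, ← Finset.sum_mul, sum_degree_sq_kernel_index N S D.set_eq, hk]
    push_cast
    field_simp
    ring
  have sβΓ : classInner β Γ' = -(u : ℂ) + (a : ℂ) * ((u : ℂ) * (2 * k)) + ((2 * z : ℤ) : ℂ) := by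
    rw [eβ, classInner_add_left, classInner_add_left, classInner_sub_left, classInner_smul_left,
      ← classInner_comm Γ' (fun _ => (1 : ℂ)), g1', map_zero, sΓ ζ hζ, sS, hz, hζ1, div_self hi]
    ring
  rw [eβ', classInner_add_right, classInner_add_right, classInner_sub_right, classInner_smul_right,
    D.classInner_beta_one hζ hζ1, hv, s', sβΓ, map_intCast] at h0
  have key : (1 : ℤ) - v + a' * (v * (2 * k')) + (-u + a * (u * (2 * k)) + 2 * z) = 0 := by
    have : (((1 : ℤ) - v + a' * (v * (2 * k')) + (-u + a * (u * (2 * k)) + 2 * z) : ℤ) : ℂ) = 0 := by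
      push_cast at h0 ⊢
      linear_combination h0
    exact_mod_cast this
  exact ⟨a' * v * k' + a * u * k + z, by linear_combination -key⟩

/-- **(7.9)** The bound on a cross coefficient. -/
theorem cross_bound (D : IsKernelData A L H N S τ₁) (D' : IsKernelData A' L' H' N' S' τ₁')
    (hdisj : Disjoint (dadeSupp A H) (dadeSupp A' H'))
    (horth : ∀ ξ ∈ S, ∀ η ∈ S', classInner (τ₁ ξ) (τ₁' η) = 0)
    {ζ : L → ℂ} (hζ : ζ ∈ S) (hζi : IsIrrCharacter L ζ) (hζ1 : ζ 1 = (N.index : ℂ)) (h2 : 1 < S.card)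
    {ζ' : L' → ℂ} (hζ' : ζ' ∈ S') (hζi' : IsIrrCharacter L' ζ') (hζ1' : ζ' 1 = (N'.index : ℂ)) (h2' : 1 < S'.card)
    (h2e : 2 * N'.index + 1 ≤ Nat.card N')
    {u : ℤ} (hu : classInner (kernelBeta A' L' H' N' ζ') (τ₁ ζ) = u) :
    (u : ℝ) ^ 2 * (((Nat.card N : ℝ) - 1) / N.index) ≤ (N'.index : ℝ) - 1 := by
  haveI := D.normal
  obtain ⟨a', ha', hb'⟩ := D'.exists_coeff hζ' hζi' hζ1'
  obtain ⟨-, -, g3⟩ := D'.gamma_facts hζ' hζi' hζ1' h2' ha' hb'
  set Γ := kernelGamma A' L' H' N' S' τ₁' ζ' a' with hΓ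
  set P := kernelDegSum N S τ₁ with hP
  have hPP := D.classInner_degSum_self
  rw [← hP] at hPP
  have hΓP : classInner Γ P = (u : ℂ) * (((Nat.card N : ℂ) - 1) / N.index) := by
    rw [hP, kernelDegSum, classInner_sum_right, Finset.sum_congr rfl fun ξ hξ => show
        classInner Γ ((ξ 1 / ((N.index : ℂ) * classInner ξ ξ)) • τ₁ ξ) =
          (u : ℂ) * ((ξ 1 * ξ 1 / classInner ξ ξ) * ((N.index : ℂ) * (N.index : ℂ))⁻¹) by
        rw [classInner_smul_right, hΓ, cross_gamma D D' hdisj horth hζ hζi hζ1 h2 hζ' a' hξ, hu, map_div₀, map_mul,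
          map_natCast, (D.natDeg hξ).1, (D.natDeg hξ).2]
        field_simp,
      ← Finset.mul_sum, ← Finset.sum_mul, sum_degree_sq_kernel_index N S D.set_eq]
    field_simp
  obtain ⟨r, hr0, hr, -⟩ := classInner_self_nonneg_real (Γ - (u : ℂ) • P)
  rw [classInner_sub_left, classInner_sub_right, classInner_sub_right, classInner_smul_left, classInner_smul_right,
    classInner_smul_left, classInner_smul_right, ← classInner_comm Γ P, hΓP, hPP, g3, map_mul, map_intCast, map_div₀,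
    map_sub, map_natCast, map_natCast, map_one] at hr
  have e : r = ((N'.index : ℝ) - 1 + 2 * a' - (a' : ℝ) ^ 2 * (((Nat.card N' : ℝ) - 1) / N'.index)) -
      (u : ℝ) ^ 2 * (((Nat.card N : ℝ) - 1) / N.index) :=
    Complex.ofReal_injective (by rw [← hr]; push_cast; ring)
  have hh : (2 * (N'.index : ℝ) + 1 : ℝ) ≤ (Nat.card N' : ℝ) := by exact_mod_cast h2e
  have he' : (0 : ℝ) < (N'.index : ℝ) := by exact_mod_cast Nat.pos_of_ne_zero Subgroup.index_ne_zero_of_finite
  have hk2 : (2 : ℝ) ≤ ((Nat.card N' : ℝ) - 1) / N'.index := by rw [le_div_iff₀ he']; linarith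
  have haa : (a' : ℝ) ≤ (a' : ℝ) ^ 2 := by
    have : ((a' : ℤ) : ℝ) ≤ ((a' ^ 2 : ℤ) : ℝ) := by exact_mod_cast Int.le_self_sq a'
    push_cast at this
    exact this
  have := mul_le_mul_of_nonneg_left hk2 (sq_nonneg (a' : ℝ))
  linarith

end TwoKernels

end CfsgLib.OddOrder.Found
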