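import Cfsg.Agent.Lib.OddOrder.Found.PrimeTI
import Cfsg.Agent.Lib.OddOrder.Found.DadeTools
import Cfsg.Agent.Lib.OddOrder.S10.Bessel
import Cfsg.Agent.Lib.CharTheory.Monomial
import Cfsg.Agent.Lib.CharTheory.Coherence
import Cfsg.Agent.S1506

/-!
Peterfalvi (4.6)-(4.9): a prime TI group `L` carrying a Dade hypothesis; the Dade images of differences of
exceptional characters in terms of the cyclic TI family of `W = W₁ W₂` in `G`.
-/

set_option autoImplicit false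
set_option linter.unusedSectionVars false
set_option linter.style.haveILetI false

namespace CfsgLib.OddOrder.Found

open Cfsg CfsgLib.CharTheory CfsgLib.Dade
open scoped ComplexConjugate

universe u

/-- An integer table that is a row function plus a column function and has norm at most two is zero. -/
theorem table_eq_zero {I J : Type*} [Fintype I] [Fintype J] (hI : 3 ≤ Fintype.card I) (hJ : 3 ≤ Fintype.card J)
    {c : I → J → ℤ} (hadd : ∀ a a' b b', c a b + c a' b' = c a b' + c a' b)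
    (hn : ∑ a, ∑ b, c a b ^ 2 ≤ 2) : ∀ a b, c a b = 0 := by
  classical
  intro a b
  by_contra hab
  set S : Finset (I × J) := Finset.univ.filter fun p => c p.1 p.2 ≠ 0 with hS
  have hScard : S.card ≤ 2 := by
    have h1 : ∀ p ∈ S, (1 : ℤ) ≤ c p.1 p.2 ^ 2 := fun p hp => by
      have : c p.1 p.2 ≠ 0 := (Finset.mem_filter.mp hp).2
      have : 0 < c p.1 p.2 ^ 2 := by positivity
      omega
    have h2 : (S.card : ℤ) ≤ ∑ p ∈ S, c p.1 p.2 ^ 2 := by
      simpa using Finset.sum_le_sum h1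
    have h3 : ∑ p ∈ S, c p.1 p.2 ^ 2 ≤ ∑ p : I × J, c p.1 p.2 ^ 2 :=
      Finset.sum_le_sum_of_subset_of_nonneg (Finset.subset_univ _) fun p _ _ => sq_nonneg _
    exact_mod_cast le_trans (h2.trans (h3.trans (Fintype.sum_prod_type _).le)) hn
  have hmem : (a, b) ∈ S := Finset.mem_filter.mpr ⟨Finset.mem_univ _, hab⟩
  have hT : (S.erase (a, b)).card ≤ 1 := by rw [Finset.card_erase_of_mem hmem]; omega
  obtain ⟨a₁, ha₁, a₂, ha₂, ha12⟩ := Finset.one_lt_card.mp (show 1 < (Finset.univ.erase a).card by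
    rw [Finset.card_erase_of_mem (Finset.mem_univ a), Finset.card_univ]; omega)
  obtain ⟨b₁, hb₁, b₂, hb₂, hb12⟩ := Finset.one_lt_card.mp (show 1 < (Finset.univ.erase b).card by
    rw [Finset.card_erase_of_mem (Finset.mem_univ b), Finset.card_univ]; omega)
  have key : ∀ a', a' ≠ a → ∀ b', b' ≠ b → ∃ p ∈ S.erase (a, b), (p.1 = a ∨ p.1 = a') ∧ (p.2 = b ∨ p.2 = b') ∧
      (p.1 = a' ∨ p.2 = b') := by
    intro a' ha' b' hb'
    by_contra hno
    push Not at hno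
    have z : ∀ p : I × J, (p.1 = a ∨ p.1 = a') → (p.2 = b ∨ p.2 = b') → (p.1 = a' ∨ p.2 = b') → c p.1 p.2 = 0 := by
      intro p h1 h2 h3
      by_contra hp
      have hne : p ≠ (a, b) := fun e => h3.elim (fun h => ha' (h ▸ congrArg Prod.fst e))
        fun h => hb' (h ▸ congrArg Prod.snd e)
      have := hno p (Finset.mem_erase.mpr ⟨hne, Finset.mem_filter.mpr ⟨Finset.mem_univ _, hp⟩⟩) h1 h2
      exact h3.elim (fun h => this.1 h) fun h => this.2 h
    have e := hadd a a' b b'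
    rw [z (a', b') (Or.inr rfl) (Or.inr rfl) (Or.inl rfl), z (a, b') (Or.inl rfl) (Or.inr rfl) (Or.inr rfl),
      z (a', b) (Or.inr rfl) (Or.inl rfl) (Or.inl rfl)] at e
    exact hab (by simpa using e)
  obtain ⟨p, hp, hp1, hp2, hp3⟩ := key a₁ (Finset.ne_of_mem_erase ha₁) b₁ (Finset.ne_of_mem_erase hb₁)
  obtain ⟨q, hq, hq1, hq2, hq3⟩ := key a₂ (Finset.ne_of_mem_erase ha₂) b₂ (Finset.ne_of_mem_erase hb₂)
  have hpq : p = q := Finset.card_le_one.mp hT p hp q hq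
  subst hpq
  rcases hp3 with h | h <;> rcases hq3 with h' | h'
  · exact ha12 (h.symm.trans h')
  · rcases hq1 with e | e
    · exact Finset.ne_of_mem_erase ha₁ (h.symm.trans e)
    · exact ha12 (h.symm.trans e)
  · rcases hp1 with e | e
    · exact Finset.ne_of_mem_erase ha₂ (h'.symm.trans e)
    · exact ha12 (e.symm.trans h')
  · exact hb12 (h.symm.trans h')

variable {G : Type u} [Group G]

/-- The hypothesis (4.6): a prime TI group `L` inside `G` with a Dade hypothesis on a set containing `V` and the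
elements of `K#` that centralize an element of `H#`. -/
structure IsPrimeDade (L : Subgroup G) (K H : Subgroup L) (W₁ W₂ : Subgroup G) (A₀ : Set G)
    (R : G → Subgroup G) : Prop where
  le₁ : W₁ ≤ L
  le₂ : W₂ ≤ L
  ti : IsPrimeTI K (W₁.subgroupOf L) (W₂.subgroupOf L)
  selfNormG : IsSelfNormalizingCyclic W₁ W₂
  normalH : H.Normal
  W2_le : W₂.subgroupOf L ≤ H
  H_le : H ≤ K
  centralA : ∀ k ∈ K, k ≠ 1 → ∀ x ∈ H, x ≠ 1 → k * x = x * k → (k : G) ∈ A₀
  memV : ∀ v ∈ W₁ ⊔ W₂, v ∉ W₁ → v ∉ W₂ → v ∈ A₀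
  dade : DadeHypothesis A₀ L R

namespace IsPrimeDade

variable [Fintype G] {L : Subgroup G} [Fintype L] {K H : Subgroup L} {W₁ W₂ : Subgroup G} {A₀ : Set G}
  {R : G → Subgroup G} (h : IsPrimeDade L K H W₁ W₂ A₀ R)
include h

theorem sup_eq_subgroupOf : W₁.subgroupOf L ⊔ W₂.subgroupOf L = (W₁ ⊔ W₂).subgroupOf L :=
  (Subgroup.subgroupOf_sup h.le₁ h.le₂).symm

theorem le_sup : W₁ ⊔ W₂ ≤ L := sup_le h.le₁ h.le₂

/-- `W` seen in `L` and in `G`. -/
noncomputable def wEquiv : ↥(W₁.subgroupOf L ⊔ W₂.subgroupOf L) ≃* ↥(W₁ ⊔ W₂) :=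
  (MulEquiv.subgroupCongr h.sup_eq_subgroupOf).trans (Subgroup.subgroupOfEquivOfLe h.le_sup)

theorem coe_wEquiv (w : ↥(W₁.subgroupOf L ⊔ W₂.subgroupOf L)) : (h.wEquiv w : G) = ((w : L) : G) := rfl

theorem coe_wEquiv_symm (w : ↥(W₁ ⊔ W₂)) : (((h.wEquiv.symm w : ↥(W₁.subgroupOf L ⊔ W₂.subgroupOf L)) : L) : G) = w := rfl

theorem oddW : Odd (Nat.card ↥(W₁ ⊔ W₂)) := by
  rw [← Nat.card_congr h.wEquiv.toEquiv]; exact h.ti.odd

theorem card₁ : Nat.card (W₁.subgroupOf L) = Nat.card W₁ :=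
  Nat.card_congr (Subgroup.subgroupOfEquivOfLe h.le₁).toEquiv

theorem card₂ : Nat.card (W₂.subgroupOf L) = Nat.card W₂ :=
  Nat.card_congr (Subgroup.subgroupOfEquivOfLe h.le₂).toEquiv

/-- A linear character of `W` seen in `G`. -/
noncomputable def toG (ω : WLin (W₁.subgroupOf L) (W₂.subgroupOf L)) : WLin W₁ W₂ :=
  ω.comp h.wEquiv.symm.toMonoidHom

theorem toG_apply (ω : WLin (W₁.subgroupOf L) (W₂.subgroupOf L)) (w : ↥(W₁ ⊔ W₂)) :
    h.toG ω w = ω (h.wEquiv.symm w) := rfl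

theorem toG_bijective : Function.Bijective h.toG :=
  ⟨fun ω ω' e => MonoidHom.ext fun w => by simpa [toG_apply] using DFunLike.congr_fun e (h.wEquiv w),
    fun ω => ⟨ω.comp h.wEquiv.toMonoidHom, MonoidHom.ext fun w => by simp [toG_apply]⟩⟩

/-- The index `(a, b)` of the cyclic TI family. -/
noncomputable def idx (a : W₁.subgroupOf L →* ℂˣ) (b : W₂.subgroupOf L →* ℂˣ) : WLin W₁ W₂ :=
  h.toG (h.ti.row a * h.ti.col b)

theorem idx_apply (a : W₁.subgroupOf L →* ℂˣ) (b : W₂.subgroupOf L →* ℂˣ) (w : ↥(W₁ ⊔ W₂)) :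
    h.idx a b w = h.ti.row a (h.wEquiv.symm w) * h.ti.col b (h.wEquiv.symm w) := rfl

theorem idx_split (a : W₁.subgroupOf L →* ℂˣ) (b : W₂.subgroupOf L →* ℂˣ) :
    h.idx a b = h.idx a 1 * h.idx 1 b := by
  ext w
  simp [idx_apply, IsPrimeTI.row_one, IsPrimeTI.col_one]

theorem idx_inv (a : W₁.subgroupOf L →* ℂˣ) (b : W₂.subgroupOf L →* ℂˣ) : h.idx a⁻¹ b⁻¹ = (h.idx a b)⁻¹ := by
  ext w
  simp [idx_apply, IsPrimeTI.row_inv, IsPrimeTI.col_inv, mul_comm]

theorem idx_one : h.idx 1 1 = 1 := by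
  ext w
  simp [idx_apply, IsPrimeTI.row_one, IsPrimeTI.col_one]

theorem idx_apply₂ (a : W₁.subgroupOf L →* ℂˣ) {w : ↥(W₁ ⊔ W₂)} (hw : (w : G) ∈ W₂) : h.idx a 1 w = 1 := by
  rw [idx_apply, h.ti.row_apply₂ a (w := h.wEquiv.symm w) (Subgroup.mem_subgroupOf.mpr (by rw [coe_wEquiv_symm]; exact hw))]
  simp [IsPrimeTI.col_one]

theorem idx_apply₁ (b : W₂.subgroupOf L →* ℂˣ) {w : ↥(W₁ ⊔ W₂)} (hw : (w : G) ∈ W₁) : h.idx 1 b w = 1 := by
  rw [idx_apply, h.ti.col_apply₁ b (w := h.wEquiv.symm w) (Subgroup.mem_subgroupOf.mpr (by rw [coe_wEquiv_symm]; exact hw))]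
  simp [IsPrimeTI.row_one]

theorem idx_bijective :
    Function.Bijective fun p : (W₁.subgroupOf L →* ℂˣ) × (W₂.subgroupOf L →* ℂˣ) => h.idx p.1 p.2 :=
  h.toG_bijective.comp h.ti.row_mul_col_bijective

theorem idx_eq_iff {a a' : W₁.subgroupOf L →* ℂˣ} {b b' : W₂.subgroupOf L →* ℂˣ} :
    h.idx a b = h.idx a' b' ↔ a = a' ∧ b = b' :=
  ⟨fun e => h.ti.row_col_injective (h.toG_bijective.1 e), fun ⟨ea, eb⟩ => by rw [ea, eb]⟩

theorem idx_left_ne_one {a : W₁.subgroupOf L →* ℂˣ} (ha : a ≠ 1) : h.idx a 1 ≠ 1 := fun e =>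
  ha (h.idx_eq_iff.mp (e.trans h.idx_one.symm)).1

theorem idx_right_ne_one {b : W₂.subgroupOf L →* ℂˣ} (hb : b ≠ 1) : h.idx 1 b ≠ 1 := fun e =>
  hb (h.idx_eq_iff.mp (e.trans h.idx_one.symm)).2

/-- The exceptional character `μ (a, b)`. -/
noncomputable def muAt (a : W₁.subgroupOf L →* ℂˣ) (b : W₂.subgroupOf L →* ℂˣ) : L → ℂ :=
  h.ti.mu (h.ti.row a * h.ti.col b)

/-- The sign `δ b`. -/
noncomputable def sgn (b : W₂.subgroupOf L →* ℂˣ) : ℂ := h.ti.delta (h.ti.col b)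

theorem sgn_int (b : W₂.subgroupOf L →* ℂˣ) : ∃ δ : ℤ, δ * δ = 1 ∧ h.sgn b = δ := by
  rcases h.ti.delta_eq_or (h.ti.col b) with e | e
  · exact ⟨1, rfl, by rw [sgn, e]; norm_num⟩
  · exact ⟨-1, rfl, by rw [sgn, e]; norm_num⟩

theorem muAt_apply (a : W₁.subgroupOf L →* ℂˣ) (b : W₂.subgroupOf L →* ℂˣ)
    {w : ↥(W₁.subgroupOf L ⊔ W₂.subgroupOf L)} (hw : (w : L) ∉ W₂.subgroupOf L) :
    h.muAt a b w = h.sgn b * (h.idx a b (h.wEquiv w) : ℂ) := by
  rw [muAt, h.ti.mu_apply _ hw, h.ti.delta_row_mul_col, sgn, idx, toG_apply, MulEquiv.symm_apply_apply]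

theorem isIrr_muAt (a : W₁.subgroupOf L →* ℂˣ) (b : W₂.subgroupOf L →* ℂˣ) : IsIrrCharacter L (h.muAt a b) :=
  h.ti.isIrr_mu _

theorem muAt_eq_iff {a a' : W₁.subgroupOf L →* ℂˣ} {b b' : W₂.subgroupOf L →* ℂˣ} :
    h.muAt a b = h.muAt a' b' ↔ a = a' ∧ b = b' :=
  ⟨fun e => h.ti.row_col_injective (h.ti.mu_injective e), fun ⟨ea, eb⟩ => by rw [ea, eb]⟩

theorem muAt_kernel (a : W₁.subgroupOf L →* ℂˣ) (b : W₂.subgroupOf L →* ℂˣ) (k : K) :
    h.muAt a b k = h.ti.colChar b k := h.ti.mu_restrict a b k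

/-- An element of `K` centralizing nothing in `H#` is a zero of every `θ_b`, `b ≠ 1`, and more generally of
every irreducible character of `K` nontrivial on `H`. -/
theorem kernel_apply_eq_zero {θ : K → ℂ} (hθ : IsIrrCharacter K θ) (hk : ¬∀ x : K, (x : L) ∈ H → θ x = θ 1)
    {k : K} (hc : ∀ x ∈ H, (k : L) * x = x * k → x = 1) : θ k = 0 := by
  haveI := Fintype.ofFinite K
  haveI := h.ti.normal
  haveI := h.normalH
  exact apply_eq_zero_of_centralizer_inf (H.subgroupOf K) hθ (fun h' => hk fun x hx => h' x hx)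
    fun n hn e => Subtype.ext (hc n hn (congrArg Subtype.val e).symm)

theorem colChar_nontrivial {b : W₂.subgroupOf L →* ℂˣ} (hb : b ≠ 1) :
    ¬∀ x : K, (x : L) ∈ H → h.ti.colChar b x = h.ti.colChar b 1 := fun h' =>
  hb (h.ti.eq_one_of_kernel fun k hk => h' k (h.W2_le hk))

/-- **(4.7)** `Ind θ` vanishes at the nontrivial elements centralizing nothing in `H#`. -/
theorem indFun_apply_eq_zero {θ : K → ℂ} (hθ : IsIrrCharacter K θ) (hk : ¬∀ x : K, (x : L) ∈ H → θ x = θ 1)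
    {x : L} (hx : ∀ y ∈ H, x * y = y * x → y = 1) : indFun K θ x = 0 := by
  haveI := h.ti.normal
  by_cases hxK : x ∈ K
  · rw [indFun_normal_apply K θ ⟨x, hxK⟩, Finset.sum_eq_zero fun g _ => ?_, mul_zero]
    refine h.kernel_apply_eq_zero hθ hk fun y hy e => ?_
    have e' : g * x * g⁻¹ * y = y * (g * x * g⁻¹) := e
    have := hx (g⁻¹ * y * g) (by simpa using h.normalH.conj_mem y hy g⁻¹) (by
      calc x * (g⁻¹ * y * g) = g⁻¹ * (g * x * g⁻¹ * y) * g := by group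
        _ = g⁻¹ * (y * (g * x * g⁻¹)) * g := by rw [e']
        _ = g⁻¹ * y * g * x := by group)
    calc y = g * (g⁻¹ * y * g) * g⁻¹ := by group
      _ = 1 := by rw [this]; group
  · exact indFun_normal_apply_not_mem K θ hxK

/-- **(4.7)** A criterion for a class function to be supported in `A₀`. -/
theorem vanish_outside {α : L → ℂ} (hα : IsClassFunction L α) (h1 : α 1 = 0)
    (hK : ∀ k ∈ K, k ≠ 1 → (∀ x ∈ H, k * x = x * k → x = 1) → α k = 0)
    (hW : ∀ w : L, (w : G) ∈ W₁ → w ≠ 1 → α w = 0) {x : L} (hx : (x : G) ∉ A₀) : α x = 0 := by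
  by_cases hxK : x ∈ K
  · by_cases hx1 : x = 1
    · rw [hx1, h1]
    refine hK x hxK hx1 fun y hy e => ?_
    by_contra hy1
    exact hx (h.centralA x hxK hx1 y hy hy1 e)
  obtain ⟨g, hgW, hg2⟩ := h.ti.exists_conj_mem hxK
  rw [← hα x g]
  set w := g * x * g⁻¹ with hw
  have hwG : (w : G) ∈ W₁ ⊔ W₂ := by
    rw [h.sup_eq_subgroupOf] at hgW
    exact Subgroup.mem_subgroupOf.mp hgW
  have hw2 : (w : G) ∉ W₂ := fun e => hg2 (Subgroup.mem_subgroupOf.mpr e)
  by_cases hw1 : (w : G) ∈ W₁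
  · refine hW w hw1 fun e => hw2 ?_
    rw [e]; exact W₂.one_mem
  · refine absurd ?_ hx
    have := h.dade.conj_mem (g⁻¹ : L) (L.inv_mem g.2) _ (h.memV _ hwG hw1 hw2)
    simpa [hw, mul_assoc] using this

section Family

variable {χ : WLin W₁ W₂ → (G → ℂ)}

/-- On `V` the Dade image of a function is the function. -/
theorem dade_apply_V {α : L → ℂ} (hα : IsClassFunction L α) {v : G} (hv : v ∈ W₁ ⊔ W₂) (h1 : v ∉ W₁)
    (h2 : v ∉ W₂) : dadeIsometry A₀ L R α v = α ⟨v, h.le_sup hv⟩ :=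
  dade_apply h.dade hα (a := ⟨v, h.le_sup hv⟩) (h.memV v hv h1 h2) (u := 1) (Subgroup.one_mem _) (x := 1) (by simp)

/-- The coefficient table of a class function vanishing on `V` is additive. -/
theorem table_additive (hχ : IsCyclicTIFamily W₁ W₂ χ) {θ : G → ℂ} (hθ : IsClassFunction G θ)
    (hV : ∀ w : ↥(W₁ ⊔ W₂), (w : G) ∉ W₁ → (w : G) ∉ W₂ → θ w = 0)
    (a a' : W₁.subgroupOf L →* ℂˣ) (b b' : W₂.subgroupOf L →* ℂˣ) :
    classInner θ (χ (h.idx a b)) + classInner θ (χ (h.idx a' b')) =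
      classInner θ (χ (h.idx a b')) + classInner θ (χ (h.idx a' b)) := by
  rw [h.idx_split a b, h.idx_split a' b', h.idx_split a b', h.idx_split a' b]
  exact Cfsg.Agent.S1506.result W₁ W₂ h.selfNormG χ hχ θ hθ hV _ _ _ _
    (fun w hw => ⟨h.idx_apply₂ a hw, h.idx_apply₂ a' hw⟩) fun w hw => ⟨h.idx_apply₁ b hw, h.idx_apply₁ b' hw⟩

/-- A norm-two generalized character vanishing on `V` is orthogonal to the whole family. -/
theorem classInner_family_eq_zero (hχ : IsCyclicTIFamily W₁ W₂ χ) {θ : G → ℂ} (hθ : IsGeneralizedCharacter G θ)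
    {N : ℤ} (hN : classInner θ θ = N) (hN2 : N ≤ 2)
    (hV : ∀ w : ↥(W₁ ⊔ W₂), (w : G) ∉ W₁ → (w : G) ∉ W₂ → θ w = 0) (ω : WLin W₁ W₂) :
    classInner θ (χ ω) = 0 := by
  classical
  haveI := Fintype.ofFinite (W₁.subgroupOf L →* ℂˣ)
  haveI := Fintype.ofFinite (W₂.subgroupOf L →* ℂˣ)
  choose c hc using fun p : (W₁.subgroupOf L →* ℂˣ) × (W₂.subgroupOf L →* ℂˣ) =>
    classInner_genChar_int hθ (cycFamily_signed hχ (h.idx p.1 p.2))
  obtain ⟨hle, -⟩ := Ten.bessel_int (e := fun p : (W₁.subgroupOf L →* ℂˣ) × (W₂.subgroupOf L →* ℂˣ) =>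
      χ (h.idx p.1 p.2)) (fun p q => by
        rw [hχ.orthonormal]
        by_cases e : p = q
        · rw [if_pos (by rw [e]), if_pos e]
        · rw [if_neg fun e' => e (h.idx_bijective.1 e'), if_neg e]) hc hN
  rw [Fintype.sum_prod_type] at hle
  have h1 : 3 ≤ Fintype.card (W₁.subgroupOf L →* ℂˣ) := h.ti.card_hom₁.symm ▸ h.ti.three_le₁
  have h2 : 3 ≤ Fintype.card (W₂.subgroupOf L →* ℂˣ) := by
    have := sum_hom_abelian h.ti.comm₂ 1
    simp at this
    rw [(by rw [Nat.card_eq_fintype_card]; exact_mod_cast this :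
      Fintype.card (W₂.subgroupOf L →* ℂˣ) = Nat.card (W₂.subgroupOf L))]
    exact h.ti.three_le₂
  have hz := table_eq_zero h1 h2 (c := fun a b => c (a, b)) (fun a a' b b' => by
    have := h.table_additive hχ (isGenChar_iff_coeff_int.mp hθ).1 hV a a' b b'
    rw [hc (a, b), hc (a', b'), hc (a, b'), hc (a', b)] at this
    exact_mod_cast this) (hle.trans hN2)
  obtain ⟨⟨a, b⟩, rfl⟩ := h.idx_bijective.2 ω
  rw [hc (a, b)]
  exact_mod_cast hz a b

/-- The difference of two exceptional characters of one row and equal degree is supported in `A₀`. -/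
theorem muAt_sub_vanish {a : W₁.subgroupOf L →* ℂˣ} {b c : W₂.subgroupOf L →* ℂˣ} (hb : b ≠ 1) (hc : c ≠ 1)
    (hdeg : h.ti.colChar b 1 = h.ti.colChar c 1) {x : L} (hx : (x : G) ∉ A₀) :
    (h.muAt a b - h.muAt a c) x = 0 := by
  refine h.vanish_outside (α := h.muAt a b - h.muAt a c)
    (isClassFunction_sub (isClassFunction_irr (h.isIrr_muAt a b)) (isClassFunction_irr (h.isIrr_muAt a c))) ?_ ?_ ?_ hx
  · rw [Pi.sub_apply, show (1 : L) = ((1 : K) : L) from rfl, muAt_kernel, muAt_kernel, hdeg, sub_self]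
  · intro k hk _ hfree
    rw [Pi.sub_apply, h.muAt_kernel a b ⟨k, hk⟩, h.muAt_kernel a c ⟨k, hk⟩,
      h.kernel_apply_eq_zero (h.ti.isIrr_colChar b) (h.colChar_nontrivial hb) hfree,
      h.kernel_apply_eq_zero (h.ti.isIrr_colChar c) (h.colChar_nontrivial hc) hfree, sub_self]
  · intro w hw hw1
    have hw' : w ∈ W₁.subgroupOf L := Subgroup.mem_subgroupOf.mpr hw
    have hn := h.ti.notMem₂ hw' hw1
    let wW : ↥(W₁.subgroupOf L ⊔ W₂.subgroupOf L) := ⟨w, Subgroup.mem_sup_left hw'⟩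
    simp only [Pi.sub_apply, muAt]
    rw [show w = (wW : L) from rfl, h.ti.mu_apply _ (w := wW) hn,
      h.ti.mu_apply _ (w := wW) hn, h.ti.delta_row_mul_col, h.ti.delta_row_mul_col, h.ti.delta_eq_of_degree hdeg,
      h.ti.row_mul_col_apply₁ a b (w := wW) hw', h.ti.row_mul_col_apply₁ a c (w := wW) hw', sub_self]

/-- **(4.8)** The Dade image of a difference in one row. -/
theorem dade_muAt_sub (hχ : IsCyclicTIFamily W₁ W₂ χ) (a : W₁.subgroupOf L →* ℂˣ) {b c : W₂.subgroupOf L →* ℂˣ}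
    (hb : b ≠ 1) (hc : c ≠ 1) (hdeg : h.ti.colChar b 1 = h.ti.colChar c 1) :
    dadeIsometry A₀ L R (h.muAt a b - h.muAt a c) = h.sgn b • (χ (h.idx a b) - χ (h.idx a c)) := by
  classical
  by_cases hbc : b = c
  · subst hbc
    funext g
    simp [dadeIsometry]
  haveI := Fintype.ofFinite (W₁.subgroupOf L →* ℂˣ)
  haveI := Fintype.ofFinite (W₂.subgroupOf L →* ℂˣ)
  set α := h.muAt a b - h.muAt a c with hαdef
  have hvan : ∀ x : L, (x : G) ∉ A₀ → α x = 0 := fun x hx => h.muAt_sub_vanish hb hc hdeg hx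
  have hgen : IsGeneralizedCharacter L α := isGenChar_sub (isGenChar_of_char (isCharacter_of_irr (h.isIrr_muAt a b)))
    (isGenChar_of_char (isCharacter_of_irr (h.isIrr_muAt a c)))
  have hcl := (isGenChar_iff_coeff_int.mp hgen).1
  set X := dadeIsometry A₀ L R α with hXdef
  have hX : IsGeneralizedCharacter G X := isGenChar_dade h.dade hgen hvan
  have hXX : classInner X X = ((2 : ℤ) : ℂ) := by
    rw [hXdef, classInner_dade_dade h.dade hcl hvan hcl, hαdef]
    simp only [classInner_sub_left, classInner_sub_right, classInner_irr (h.isIrr_muAt _ _) (h.isIrr_muAt _ _),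
      h.muAt_eq_iff]
    simp [hbc, Ne.symm hbc]
    norm_num
  choose k hk using fun p : (W₁.subgroupOf L →* ℂˣ) × (W₂.subgroupOf L →* ℂˣ) =>
    classInner_genChar_int hX (cycFamily_signed hχ (h.idx p.1 p.2))
  obtain ⟨δ, hδ, hsgn⟩ := h.sgn_int b
  have hsc : h.sgn c = h.sgn b := (h.ti.delta_eq_of_degree hdeg).symm
  set Y := h.sgn b • (χ (h.idx a b) - χ (h.idx a c)) with hYdef
  have hY : IsClassFunction G (X - Y) := isClassFunction_sub (isGenChar_iff_coeff_int.mp hX).1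
    (isClassFunction_smul _ (isClassFunction_sub (isGenChar_iff_coeff_int.mp (cycFamily_signed hχ _)).1
      (isGenChar_iff_coeff_int.mp (cycFamily_signed hχ _)).1))
  have hV : ∀ w : ↥(W₁ ⊔ W₂), (w : G) ∉ W₁ → (w : G) ∉ W₂ → (X - Y) w = 0 := fun w h1 h2 => by
    rw [Pi.sub_apply, hXdef, h.dade_apply_V hcl w.2 h1 h2, hYdef, Pi.smul_apply, Pi.sub_apply,
      hχ.eq_on _ w h1 h2, hχ.eq_on _ w h1 h2, smul_eq_mul, hαdef, Pi.sub_apply]
    have hn : ((h.wEquiv.symm w : ↥(W₁.subgroupOf L ⊔ W₂.subgroupOf L)) : L) ∉ W₂.subgroupOf L := fun e =>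
      h2 (h.coe_wEquiv_symm w ▸ Subgroup.mem_subgroupOf.mp e)
    have ew : (⟨(w : G), h.le_sup w.2⟩ : L) = ((h.wEquiv.symm w : ↥(W₁.subgroupOf L ⊔ W₂.subgroupOf L)) : L) :=
      Subtype.ext (h.coe_wEquiv_symm w).symm
    rw [ew, h.muAt_apply a b hn, h.muAt_apply a c hn, hsc, MulEquiv.apply_symm_apply]
    ring
  have hinner : ∀ p : (W₁.subgroupOf L →* ℂˣ) × (W₂.subgroupOf L →* ℂˣ), classInner (X - Y) (χ (h.idx p.1 p.2)) =
      ((k p - δ * ((if p = (a, b) then 1 else 0) - (if p = (a, c) then 1 else 0)) : ℤ) : ℂ) := fun p => by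
    rw [classInner_sub_left, hk, hYdef, classInner_smul_left, classInner_sub_left, hχ.orthonormal, hχ.orthonormal,
      hsgn]
    simp only [h.idx_eq_iff, Prod.ext_iff, eq_comm (a := p.1), eq_comm (a := p.2)]
    push_cast
    ring
  obtain ⟨hle, heq⟩ := Ten.bessel_int (e := fun p : (W₁.subgroupOf L →* ℂˣ) × (W₂.subgroupOf L →* ℂˣ) =>
      χ (h.idx p.1 p.2)) (fun p q => by
        rw [hχ.orthonormal]
        by_cases e : p = q
        · rw [if_pos (by rw [e]), if_pos e]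
        · rw [if_neg fun e' => e (h.idx_bijective.1 e'), if_neg e]) hk hXX
  rw [Fintype.sum_prod_type] at hle
  have hcorner : ∀ a', a' ≠ a → k (a, b) - k (a, c) - k (a', b) + k (a', c) = 2 * δ := fun a' ha' => by
    have := h.table_additive hχ hY hV a a' b c
    rw [hinner (a, b), hinner (a', c), hinner (a, c), hinner (a', b), ← Int.cast_add, ← Int.cast_add,
      Int.cast_inj] at this
    simp only [Prod.mk.injEq, true_and, and_true, false_and, if_true, if_false, hbc, Ne.symm hbc, ha'] at this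
    linarith
  have hgrid := Ten.grid_eq (c := fun x y => k (x, y)) (h.ti.card_hom₁.symm ▸ h.ti.three_le₁) hbc hδ hcorner hle
  have hsum : ∀ p, k p = δ * ((if p = (a, b) then 1 else 0) - (if p = (a, c) then 1 else 0)) := by
    rintro ⟨x, y⟩
    rw [hgrid x y]
    by_cases hxa : x = a <;> by_cases hyb : y = b <;> by_cases hyc : y = c <;> simp_all
  have hXY : X = ∑ p, ((k p : ℤ) : ℂ) • χ (h.idx p.1 p.2) := by
    refine heq ?_
    rw [Fintype.sum_prod_type]
    refine le_antisymm hle (Ten.two_le_grid (c := fun x y => k (x, y)) (h.ti.card_hom₁.symm ▸ h.ti.three_le₁)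
      hbc hδ hcorner)
  rw [hXY, hYdef, hsgn]
  simp only [hsum, Int.cast_mul, Int.cast_sub, Int.cast_ite, Int.cast_one, Int.cast_zero, mul_sub, sub_smul,
    Finset.sum_sub_distrib, mul_ite, mul_one, mul_zero, ite_smul, zero_smul, Finset.sum_ite_eq', Finset.mem_univ,
    if_true, smul_sub]

/-- **(4.9)** The Dade image of a difference of two columns of equal degree. -/
theorem dade_muSum_sub [Fintype (W₁.subgroupOf L →* ℂˣ)] (hχ : IsCyclicTIFamily W₁ W₂ χ)
    {b c : W₂.subgroupOf L →* ℂˣ} (hb : b ≠ 1) (hc : c ≠ 1) (hdeg : h.ti.colChar b 1 = h.ti.colChar c 1) :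
    dadeIsometry A₀ L R (h.ti.muSum b - h.ti.muSum c) =
      h.sgn b • ∑ a : W₁.subgroupOf L →* ℂˣ, (χ (h.idx a b) - χ (h.idx a c)) := by
  rw [Finset.smul_sum, IsPrimeTI.muSum, IsPrimeTI.muSum, ← Finset.sum_sub_distrib, dade_sum]
  exact Finset.sum_congr rfl fun a _ => h.dade_muAt_sub hχ a hb hc hdeg

/-- **(4.8)** The Dade image of the four-term combination. -/
theorem dade_muAt_four (hχ : IsCyclicTIFamily W₁ W₂ χ) {a : W₁.subgroupOf L →* ℂˣ}
    {b : W₂.subgroupOf L →* ℂˣ} (ha : a ≠ 1) (hb : b ≠ 1) :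
    dadeIsometry A₀ L R (h.sgn b • (h.muAt a b - h.muAt 1 b) - h.muAt a 1 + fun _ => 1) =
      fun g => 1 - χ (h.idx a 1) g - χ (h.idx 1 b) g + χ (h.idx a b) g := by
  classical
  haveI := Fintype.ofFinite ↥(W₁.subgroupOf L ⊔ W₂.subgroupOf L)
  set β := cycBeta (h.ti.row a) (h.ti.col b) with hβdef
  have hα : h.sgn b • (h.muAt a b - h.muAt 1 b) - h.muAt a 1 + (fun _ => 1) =
      indFun (W₁.subgroupOf L ⊔ W₂.subgroupOf L) β := by
    rw [show β = (fun w => ((1 : WLin (W₁.subgroupOf L) (W₂.subgroupOf L)) w : ℂ) - (h.ti.row a w : ℂ)) +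
        fun w => ((h.ti.row a * h.ti.col b) w : ℂ) - (h.ti.col b w : ℂ) by funext w; simp [hβdef, cycBeta]; ring,
      indFun_add, h.ti.indFun_sub_eq (fun w hw => by rw [MonoidHom.one_apply, h.ti.row_apply₂ a hw]),
      h.ti.indFun_sub_eq (fun w hw => by rw [MonoidHom.mul_apply, h.ti.row_apply₂ a hw, one_mul]),
      h.ti.mu_one.1, h.ti.mu_one.2, h.ti.delta_row_mul_col]
    funext g
    simp [muAt, sgn, IsPrimeTI.row_one, IsPrimeTI.col_one]
    rw [show (1 : WLin (W₁.subgroupOf L) (W₂.subgroupOf L)) * h.ti.col b = h.ti.col b from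
      MonoidHom.ext fun w => one_mul _,
      show h.ti.row a * (1 : WLin (W₁.subgroupOf L) (W₂.subgroupOf L)) = h.ti.row a from
      MonoidHom.ext fun w => mul_one _]
    ring
  rw [hα, dade_eq_indFun h.dade h.selfNormG h.le_sup h.memV (indFun_isClassFunction _ _) ?_]
  · have hmem : ∀ x : (W₁ ⊔ W₂).subgroupOf L, ((x : L) : G) ∈ W₁ ⊔ W₂ := fun x => Subgroup.mem_subgroupOf.mp x.2
    rw [indFun_congr_subgroup h.sup_eq_subgroupOf β,
      show (fun x : (W₁ ⊔ W₂).subgroupOf L => β ⟨(x : L), h.sup_eq_subgroupOf.ge x.2⟩) =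
        fun x : (W₁ ⊔ W₂).subgroupOf L => cycBeta (h.idx a 1) (h.idx 1 b) ⟨((x : L) : G), hmem x⟩ by
        funext x
        simp [hβdef, cycBeta, idx_apply, IsPrimeTI.row_one, IsPrimeTI.col_one]
        rfl,
      indFun_trans (W₁ ⊔ W₂) L h.le_sup (cycBeta (h.idx a 1) (h.idx 1 b))]
    show indFun (W₁ ⊔ W₂) (fun w => 1 - (h.idx a 1 w : ℂ) - (h.idx 1 b w : ℂ) + (h.idx a 1 w : ℂ) * (h.idx 1 b w : ℂ)) = _
    rw [hχ.induced_eq _ _ (h.idx_left_ne_one ha) (h.idx_right_ne_one hb) (fun w hw => h.idx_apply₂ a hw)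
      (fun w hw => h.idx_apply₁ b hw), ← h.idx_split a b]
  · intro x hx
    by_contra hno
    push Not at hno
    refine hx ?_
    simp only [indFun]
    rw [Finset.sum_eq_zero fun y _ => ?_, mul_zero]
    by_cases hm : y⁻¹ * x * y ∈ W₁.subgroupOf L ⊔ W₂.subgroupOf L
    · rw [extendByZero_of_mem _ _ hm]
      refine cycBeta_eq_zero _ _ (fun w hw => h.ti.row_apply₂ a hw) (fun w hw => h.ti.col_apply₁ b hw) _ ?_
      by_contra hor
      push Not at hor
      have hmG : ((y⁻¹ * x * y : L) : G) ∈ W₁ ⊔ W₂ := by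
        rw [h.sup_eq_subgroupOf] at hm
        exact Subgroup.mem_subgroupOf.mp hm
      refine hno y y.2 _ hmG (fun e => hor.1 (Subgroup.mem_subgroupOf.mpr e))
        (fun e => hor.2 (Subgroup.mem_subgroupOf.mpr e)) ?_
      simp [mul_assoc]
    · exact extendByZero_of_not_mem _ _ hm

end Family

end IsPrimeDade

end CfsgLib.OddOrder.Found
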