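import Cfsg.Agent.Lib.OddOrder.Found.CyclicSigma
import Cfsg.Agent.Lib.CharTheory.OddBasics
import Cfsg.Agent.Lib.CharTheory.AbelianInertia
import Cfsg.Agent.Lib.CharTheory.TIKernel
import Cfsg.Agent.S1510
import Cfsg.Agent.S1511
import Cfsg.Agent.S1513

/-!
Peterfalvi section 4, the prime TI hypothesis: the exceptional characters `mu ω` with their signs `delta ω`,
their uniqueness, the restrictions `colChar b` to the kernel, and the classification of the irreducible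
characters of `L`.

The linear characters of `W = W₁ ⊔ W₂` are written `row a * col b` for `a : W₁ →* ℂˣ` and `b : W₂ →* ℂˣ`.
-/

set_option autoImplicit false
set_option linter.unusedSectionVars false
set_option linter.style.haveILetI false

namespace CfsgLib.OddOrder.Found

open Cfsg CfsgLib.CharTheory
open scoped ComplexConjugate

universe u

variable {L : Type u} [Group L]

/-- The hypothesis (4.2): `K` is normal with a cyclic Hall complement `W₁`, and `W₂ = C_K(x)` for `x ∈ W₁#`. -/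
structure IsPrimeTI (K W₁ W₂ : Subgroup L) : Prop where
  normal : K.Normal
  inf_eq_bot : K ⊓ W₁ = ⊥
  sup_eq_top : K ⊔ W₁ = ⊤
  ne_bot₁ : W₁ ≠ ⊥
  cyclic₁ : IsCyclic W₁
  hall : Nat.Coprime (Nat.card W₁) W₁.index
  ne_bot₂ : W₂ ≠ ⊥
  cyclic₂ : IsCyclic W₂
  le_kernel : W₂ ≤ K
  centralizer_eq : ∀ x ∈ W₁, x ≠ 1 → K ⊓ Subgroup.centralizer ({x} : Set L) = W₂
  odd : Odd (Nat.card ↥(W₁ ⊔ W₂))

namespace IsPrimeTI

variable [Fintype L] {K W₁ W₂ : Subgroup L} (h : IsPrimeTI K W₁ W₂)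
include h

theorem selfNorm : IsSelfNormalizingCyclic W₁ W₂ := by
  haveI := h.normal
  exact Cfsg.Agent.S1510.result K W₁ W₂ h.inf_eq_bot h.sup_eq_top h.ne_bot₁ h.cyclic₁ h.hall h.ne_bot₂ h.cyclic₂
    h.le_kernel h.centralizer_eq h.odd

theorem inf₁₂ : W₁ ⊓ W₂ = ⊥ := h.selfNorm.2.2.1

theorem comm : ∀ a ∈ W₁, ∀ b ∈ W₂, a * b = b * a := h.selfNorm.2.2.2.1

theorem commW (u v : ↥(W₁ ⊔ W₂)) : u * v = v * u := by
  haveI := h.selfNorm.2.2.2.2.1
  letI := IsCyclic.commGroup (α := ↥(W₁ ⊔ W₂))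
  exact mul_comm u v

theorem comm₁ (u v : W₁) : u * v = v * u := by
  haveI := h.cyclic₁
  letI := IsCyclic.commGroup (α := W₁)
  exact mul_comm u v

theorem comm₂ (u v : W₂) : u * v = v * u := by
  haveI := h.cyclic₂
  letI := IsCyclic.commGroup (α := W₂)
  exact mul_comm u v

theorem odd₁ : Odd (Nat.card W₁) := h.odd.of_dvd_nat (Subgroup.card_dvd_of_le le_sup_left)

theorem odd₂ : Odd (Nat.card W₂) := h.odd.of_dvd_nat (Subgroup.card_dvd_of_le le_sup_right)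

theorem three_le₁ : 3 ≤ Nat.card W₁ := by
  have := (Subgroup.one_lt_card_iff_ne_bot _).mpr h.ne_bot₁
  obtain ⟨k, hk⟩ := h.odd₁
  omega

theorem three_le₂ : 3 ≤ Nat.card W₂ := by
  have := (Subgroup.one_lt_card_iff_ne_bot _).mpr h.ne_bot₂
  obtain ⟨k, hk⟩ := h.odd₂
  omega

theorem compl : W₁.IsComplement' K := by
  haveI := h.normal
  refine (Subgroup.isComplement'_of_disjoint_and_mul_eq_univ (disjoint_iff.mpr h.inf_eq_bot) ?_).symm
  rw [← Subgroup.normal_mul, h.sup_eq_top]; rfl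

theorem index_eq : K.index = Nat.card W₁ := h.compl.index_eq_card

theorem index₁_eq : W₁.index = Nat.card K := h.compl.symm.index_eq_card

theorem coprime : Nat.Coprime (Nat.card W₁) (Nat.card K) := h.index₁_eq ▸ h.hall

/-- The projection of `L` on `W₁` with kernel `K`. -/
noncomputable def proj : L →* W₁ :=
  haveI := h.normal
  h.compl.QuotientMulEquiv.toMonoidHom.comp (QuotientGroup.mk' K)

theorem proj_of_mem_kernel {k : L} (hk : k ∈ K) : h.proj k = 1 := by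
  haveI := h.normal
  show h.compl.QuotientMulEquiv (QuotientGroup.mk' K k) = 1
  rw [show QuotientGroup.mk' K k = 1 from (QuotientGroup.eq_one_iff k).mpr hk, map_one]

theorem proj_coe (a : W₁) : h.proj a = a := by
  haveI := h.normal
  show h.compl.QuotientMulEquiv (QuotientGroup.mk' K a) = a
  rw [show QuotientGroup.mk' K (a : L) = h.compl.QuotientMulEquiv.symm a from rfl, MulEquiv.apply_symm_apply]

theorem proj_of_mem₁ {a : L} (ha : a ∈ W₁) : h.proj a = ⟨a, ha⟩ := h.proj_coe ⟨a, ha⟩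

theorem mul_proj_inv_mem (g : L) : g * (h.proj g : L)⁻¹ ∈ K := by
  haveI := h.normal
  rw [← QuotientGroup.eq_one_iff, ← QuotientGroup.mk'_apply]
  refine h.compl.QuotientMulEquiv.injective ?_
  show h.proj (g * (h.proj g : L)⁻¹) = _
  rw [map_mul, map_inv, proj_coe, mul_inv_cancel, map_one]

theorem proj_eq_one_iff {g : L} : h.proj g = 1 ↔ g ∈ K :=
  ⟨fun e => by simpa [e] using h.mul_proj_inv_mem g, h.proj_of_mem_kernel⟩

theorem mem₂_of_mem_kernel {w : L} (hw : w ∈ W₁ ⊔ W₂) (hk : w ∈ K) : w ∈ W₂ := by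
  obtain ⟨e, he⟩ := exists_prod_equiv h.inf₁₂ h.comm
  obtain ⟨⟨a, b⟩, hab⟩ := e.surjective ⟨w, hw⟩
  have hw' : (a : L) * b = w := by rw [← he (a, b), hab]
  have : h.proj w = a := by rw [← hw', map_mul, proj_coe, h.proj_of_mem_kernel (h.le_kernel b.2), mul_one]
  rw [h.proj_of_mem_kernel hk] at this
  rw [← hw', ← this, Subgroup.coe_one, one_mul]
  exact b.2

theorem notMem₂ {a : L} (ha : a ∈ W₁) (ha1 : a ≠ 1) : a ∉ W₂ := fun hb =>
  ha1 (Subgroup.mem_bot.mp (h.inf₁₂ ▸ Subgroup.mem_inf.mpr ⟨ha, hb⟩))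

theorem notMem₂_mul {a b : L} (ha : a ∈ W₁) (ha1 : a ≠ 1) (hb : b ∈ W₂) : a * b ∉ W₂ := fun hab =>
  h.notMem₂ ha ha1 (by simpa using W₂.mul_mem hab (W₂.inv_mem hb))

/-- The projection of `W` on `W₂`. -/
noncomputable def proj₂ : ↥(W₁ ⊔ W₂) →* W₂ where
  toFun w := ⟨((h.proj (w : L))⁻¹ : W₁) * (w : L), by
    refine h.mem₂_of_mem_kernel ((W₁ ⊔ W₂).mul_mem (Subgroup.mem_sup_left (SetLike.coe_mem _)) w.2) ?_
    rw [← h.proj_eq_one_iff, map_mul, proj_coe, inv_mul_cancel]⟩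
  map_one' := Subtype.ext (by simp)
  map_mul' u v := Subtype.ext (by
    simp only [Subgroup.coe_mul, map_mul, mul_inv_rev, InvMemClass.coe_inv]
    have e : (⟨((h.proj (v : L) : W₁) : L)⁻¹, inv_mem (Subgroup.mem_sup_left (SetLike.coe_mem _))⟩ : ↥(W₁ ⊔ W₂)) *
        (⟨((h.proj (u : L) : W₁) : L)⁻¹, inv_mem (Subgroup.mem_sup_left (SetLike.coe_mem _))⟩ * u) =
        (⟨((h.proj (u : L) : W₁) : L)⁻¹, inv_mem (Subgroup.mem_sup_left (SetLike.coe_mem _))⟩ * u) *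
        ⟨((h.proj (v : L) : W₁) : L)⁻¹, inv_mem (Subgroup.mem_sup_left (SetLike.coe_mem _))⟩ := h.commW _ _
    have e' := congrArg (fun x : ↥(W₁ ⊔ W₂) => (x : L) * v) e
    simp only [Subgroup.coe_mul] at e'
    simpa [mul_assoc] using e')

theorem proj₂_of_mem₂ {w : ↥(W₁ ⊔ W₂)} (hw : (w : L) ∈ W₂) : h.proj₂ w = ⟨w, hw⟩ := Subtype.ext (by
  show ((h.proj (w : L))⁻¹ : W₁) * (w : L) = w
  rw [h.proj_of_mem_kernel (h.le_kernel hw), inv_one, Subgroup.coe_one, one_mul])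

theorem proj₂_of_mem₁ {w : ↥(W₁ ⊔ W₂)} (hw : (w : L) ∈ W₁) : h.proj₂ w = 1 := Subtype.ext (by
  show ((h.proj (w : L))⁻¹ : W₁) * (w : L) = 1
  rw [h.proj_of_mem₁ hw]; simp)

/-- The linear character of `W` trivial on `W₂` given by `a`. -/
noncomputable def row (a : W₁ →* ℂˣ) : WLin W₁ W₂ := (a.comp h.proj).comp (W₁ ⊔ W₂).subtype

/-- The linear character of `W` trivial on `W₁` given by `b`. -/
noncomputable def col (b : W₂ →* ℂˣ) : WLin W₁ W₂ := b.comp h.proj₂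

theorem row_apply (a : W₁ →* ℂˣ) (w : ↥(W₁ ⊔ W₂)) : h.row a w = a (h.proj (w : L)) := rfl

theorem row_apply₂ (a : W₁ →* ℂˣ) {w : ↥(W₁ ⊔ W₂)} (hw : (w : L) ∈ W₂) : h.row a w = 1 := by
  rw [row_apply, h.proj_of_mem_kernel (h.le_kernel hw), map_one]

theorem row_apply₁ (a : W₁ →* ℂˣ) {w : ↥(W₁ ⊔ W₂)} (hw : (w : L) ∈ W₁) : h.row a w = a ⟨w, hw⟩ := by
  rw [row_apply, h.proj_of_mem₁ hw]

theorem col_apply₁ (b : W₂ →* ℂˣ) {w : ↥(W₁ ⊔ W₂)} (hw : (w : L) ∈ W₁) : h.col b w = 1 := by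
  show b (h.proj₂ w) = 1
  rw [h.proj₂_of_mem₁ hw, map_one]

theorem col_apply₂ (b : W₂ →* ℂˣ) {w : ↥(W₁ ⊔ W₂)} (hw : (w : L) ∈ W₂) : h.col b w = b ⟨w, hw⟩ := by
  show b (h.proj₂ w) = _
  rw [h.proj₂_of_mem₂ hw]

theorem row_one : h.row 1 = 1 := rfl

theorem col_one : h.col 1 = 1 := rfl

theorem row_inv (a : W₁ →* ℂˣ) : h.row a⁻¹ = (h.row a)⁻¹ := rfl

theorem col_inv (b : W₂ →* ℂˣ) : h.col b⁻¹ = (h.col b)⁻¹ := rfl

theorem row_mul (a a' : W₁ →* ℂˣ) : h.row (a * a') = h.row a * h.row a' := rfl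

theorem col_mul (b b' : W₂ →* ℂˣ) : h.col (b * b') = h.col b * h.col b' := rfl

theorem row_mul_col_apply₁ (a : W₁ →* ℂˣ) (b : W₂ →* ℂˣ) {w : ↥(W₁ ⊔ W₂)} (hw : (w : L) ∈ W₁) :
    (h.row a * h.col b) w = a ⟨w, hw⟩ := by
  rw [MonoidHom.mul_apply, h.row_apply₁ a hw, h.col_apply₁ b hw, mul_one]

theorem row_mul_col_apply₂ (a : W₁ →* ℂˣ) (b : W₂ →* ℂˣ) {w : ↥(W₁ ⊔ W₂)} (hw : (w : L) ∈ W₂) :
    (h.row a * h.col b) w = b ⟨w, hw⟩ := by
  rw [MonoidHom.mul_apply, h.row_apply₂ a hw, h.col_apply₂ b hw, one_mul]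

theorem row_col_injective {a a' : W₁ →* ℂˣ} {b b' : W₂ →* ℂˣ}
    (e : h.row a * h.col b = h.row a' * h.col b') : a = a' ∧ b = b' := by
  refine ⟨MonoidHom.ext fun x => ?_, MonoidHom.ext fun x => ?_⟩
  · have := DFunLike.congr_fun e ⟨(x : L), Subgroup.mem_sup_left x.2⟩
    rw [h.row_mul_col_apply₁ a b x.2, h.row_mul_col_apply₁ a' b' x.2] at this
    exact this
  · have := DFunLike.congr_fun e ⟨(x : L), Subgroup.mem_sup_right x.2⟩
    rw [h.row_mul_col_apply₂ a b x.2, h.row_mul_col_apply₂ a' b' x.2] at this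
    exact this

theorem eq_row_mul_col (ω : WLin W₁ W₂) :
    ω = h.row (ω.comp (Subgroup.inclusion le_sup_left)) * h.col (ω.comp (Subgroup.inclusion le_sup_right)) :=
  cyc_hom_ext h.comm _ _ fun w hw => by
    rcases hw with hw | hw
    · rw [h.row_mul_col_apply₁ _ _ hw]; rfl
    · rw [h.row_mul_col_apply₂ _ _ hw]; rfl

theorem exists_row_col (ω : WLin W₁ W₂) : ∃ a b, ω = h.row a * h.col b := ⟨_, _, h.eq_row_mul_col ω⟩

theorem row_mul_col_bijective :
    Function.Bijective fun p : (W₁ →* ℂˣ) × (W₂ →* ℂˣ) => h.row p.1 * h.col p.2 :=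
  ⟨fun _ _ e => Prod.ext (h.row_col_injective e).1 (h.row_col_injective e).2,
    fun ω => ⟨(_, _), (h.eq_row_mul_col ω).symm⟩⟩

/-- The exceptional characters and signs exist. -/
theorem exists_mu : ∃ (μ : WLin W₁ W₂ → (L → ℂ)) (δ : WLin W₁ W₂ → ℂ), Function.Injective μ ∧
    (∀ ω, IsIrrCharacter L (μ ω)) ∧ (∀ ω, δ ω = 1 ∨ δ ω = -1) ∧
    (∀ ω ω' : WLin W₁ W₂, (∀ w : ↥(W₁ ⊔ W₂), (w : L) ∈ W₂ → ω w = ω' w) → δ ω = δ ω' ∧
      indFun (W₁ ⊔ W₂) (fun w => (ω w : ℂ) - (ω' w : ℂ)) = δ ω • (μ ω - μ ω')) ∧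
    (∀ ω, ∀ w : ↥(W₁ ⊔ W₂), (w : L) ∉ W₂ → μ ω w = δ ω * (ω w : ℂ)) ∧
    (∀ θ : L → ℂ, IsIrrCharacter L θ → (∀ ω, θ ≠ μ ω) → ∀ w : ↥(W₁ ⊔ W₂), (w : L) ∉ W₂ → θ w = 0) ∧
    (∀ ω, ∃ n : ℤ, μ ω 1 - δ ω = n * (Nat.card W₁ : ℂ)) := by
  haveI := h.normal
  exact Cfsg.Agent.S1511.result K W₁ W₂ h.inf_eq_bot h.sup_eq_top h.ne_bot₁ h.cyclic₁ h.hall h.ne_bot₂ h.cyclic₂
    h.le_kernel h.centralizer_eq h.odd

/-- The exceptional character `μ ω`. -/
noncomputable def mu : WLin W₁ W₂ → (L → ℂ) := h.exists_mu.choose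

/-- The sign of `μ ω`. -/
noncomputable def delta : WLin W₁ W₂ → ℂ := h.exists_mu.choose_spec.choose

theorem mu_injective : Function.Injective h.mu := h.exists_mu.choose_spec.choose_spec.1

theorem isIrr_mu (ω : WLin W₁ W₂) : IsIrrCharacter L (h.mu ω) := h.exists_mu.choose_spec.choose_spec.2.1 ω

theorem delta_eq_or (ω : WLin W₁ W₂) : h.delta ω = 1 ∨ h.delta ω = -1 :=
  h.exists_mu.choose_spec.choose_spec.2.2.1 ω

theorem delta_ne_zero (ω : WLin W₁ W₂) : h.delta ω ≠ 0 := by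
  rcases h.delta_eq_or ω with e | e <;> rw [e] <;> norm_num

theorem delta_mul_self (ω : WLin W₁ W₂) : h.delta ω * h.delta ω = 1 := by
  rcases h.delta_eq_or ω with e | e <;> rw [e] <;> norm_num

theorem delta_congr {ω ω' : WLin W₁ W₂} (e : ∀ w : ↥(W₁ ⊔ W₂), (w : L) ∈ W₂ → ω w = ω' w) :
    h.delta ω = h.delta ω' :=
  (h.exists_mu.choose_spec.choose_spec.2.2.2.1 ω ω' e).1

theorem indFun_sub_eq {ω ω' : WLin W₁ W₂} (e : ∀ w : ↥(W₁ ⊔ W₂), (w : L) ∈ W₂ → ω w = ω' w) :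
    indFun (W₁ ⊔ W₂) (fun w => (ω w : ℂ) - (ω' w : ℂ)) = h.delta ω • (h.mu ω - h.mu ω') :=
  (h.exists_mu.choose_spec.choose_spec.2.2.2.1 ω ω' e).2

theorem mu_apply (ω : WLin W₁ W₂) {w : ↥(W₁ ⊔ W₂)} (hw : (w : L) ∉ W₂) :
    h.mu ω w = h.delta ω * (ω w : ℂ) :=
  h.exists_mu.choose_spec.choose_spec.2.2.2.2.1 ω w hw

theorem apply_eq_zero_of_ne_mu {θ : L → ℂ} (hθ : IsIrrCharacter L θ) (hne : ∀ ω, θ ≠ h.mu ω)
    {w : ↥(W₁ ⊔ W₂)} (hw : (w : L) ∉ W₂) : θ w = 0 :=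
  h.exists_mu.choose_spec.choose_spec.2.2.2.2.2.1 θ hθ hne w hw

theorem degree_congr (ω : WLin W₁ W₂) : ∃ n : ℤ, h.mu ω 1 - h.delta ω = n * (Nat.card W₁ : ℂ) :=
  h.exists_mu.choose_spec.choose_spec.2.2.2.2.2.2 ω

theorem mu_isClassFunction (ω : WLin W₁ W₂) : IsClassFunction L (h.mu ω) := isClassFunction_irr (h.isIrr_mu ω)

/-- **Uniqueness**: an irreducible character equal to a multiple of `ω` on `W \ W₂` is `μ ω`. -/
theorem mu_unique {θ : L → ℂ} (hθ : IsIrrCharacter L θ) {ε : ℂ} (hε : ε ≠ 0) (ω : WLin W₁ W₂)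
    (e : ∀ w : ↥(W₁ ⊔ W₂), (w : L) ∉ W₂ → θ w = ε * (ω w : ℂ)) : θ = h.mu ω ∧ ε = h.delta ω := by
  obtain ⟨a, ha, ha1⟩ := (Subgroup.bot_or_exists_ne_one W₁).resolve_left h.ne_bot₁
  have hex : ∃ ω', θ = h.mu ω' := by
    by_contra hno
    push Not at hno
    have h0 := h.apply_eq_zero_of_ne_mu hθ hno (w := ⟨a, Subgroup.mem_sup_left ha⟩) (h.notMem₂ ha ha1)
    rw [e ⟨a, Subgroup.mem_sup_left ha⟩ (h.notMem₂ ha ha1)] at h0
    exact mul_ne_zero hε (Units.ne_zero _) h0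
  obtain ⟨ω', hω'⟩ := hex
  obtain ⟨e1, e2⟩ := wLin_eq_of_smul h.ne_bot₁ h.ne_bot₂ h.comm h.odd (ω := ω) (ω' := ω')
    (ε := ε⁻¹ * h.delta ω') fun x y hx hx1 hy hy1 => by
      have hn : ((x * y : ↥(W₁ ⊔ W₂)) : L) ∉ W₂ := h.notMem₂_mul hx (fun e => hx1 (Subtype.ext e)) hy
      have := e (x * y) hn
      rw [hω', h.mu_apply ω' hn] at this
      rw [mul_assoc, this, ← mul_assoc, inv_mul_cancel₀ hε, one_mul]
  refine ⟨by rw [hω', e1], ?_⟩
  rw [e1]
  field_simp at e2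
  exact e2.symm

/-- The linear character of `L` inflated from `a`. -/
noncomputable def rowInfl (a : W₁ →* ℂˣ) : L → ℂ := fun g => (a (h.proj g) : ℂ)

theorem isIrr_rowInfl (a : W₁ →* ℂˣ) : IsIrrCharacter L (h.rowInfl a) := isIrrCharacter_linear (a.comp h.proj)

theorem rowInfl_one_apply (a : W₁ →* ℂˣ) : h.rowInfl a 1 = 1 := by simp [rowInfl]

theorem mu_row_mul (a : W₁ →* ℂˣ) (ω : WLin W₁ W₂) :
    h.mu (h.row a * ω) = h.rowInfl a * h.mu ω ∧ h.delta (h.row a * ω) = h.delta ω := by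
  obtain ⟨e1, e2⟩ := h.mu_unique (θ := h.mu ω * h.rowInfl a)
    (isIrrCharacter_mul_linear (h.isIrr_mu ω) (h.isIrr_rowInfl a) (h.rowInfl_one_apply a))
    (h.delta_ne_zero ω) (h.row a * ω) fun w hw => by
      rw [Pi.mul_apply, h.mu_apply ω hw, MonoidHom.mul_apply, Units.val_mul, row_apply, rowInfl]
      ring
  exact ⟨by rw [← e1, mul_comm], e2.symm⟩

theorem mu_one : h.mu 1 = (fun _ => 1) ∧ h.delta 1 = 1 := by
  obtain ⟨e1, e2⟩ := h.mu_unique (θ := fun _ => (1 : ℂ)) isIrrCharacter_one one_ne_zero (1 : WLin W₁ W₂)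
    fun w _ => by simp
  exact ⟨e1.symm, e2.symm⟩

theorem mu_row (a : W₁ →* ℂˣ) : h.mu (h.row a) = h.rowInfl a ∧ h.delta (h.row a) = 1 := by
  obtain ⟨e1, e2⟩ := h.mu_row_mul a 1
  rw [show h.row a * (1 : WLin W₁ W₂) = h.row a from MonoidHom.ext fun w => mul_one _] at e1 e2
  refine ⟨?_, e2.trans h.mu_one.2⟩
  rw [e1, h.mu_one.1]
  funext g; simp

theorem delta_row_mul_col (a : W₁ →* ℂˣ) (b : W₂ →* ℂˣ) : h.delta (h.row a * h.col b) = h.delta (h.col b) :=
  (h.mu_row_mul a _).2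

/-- **Galois**: field automorphisms permute the exceptional characters. -/
theorem mu_galois (s : ℂ ≃+* ℂ) (ω : WLin W₁ W₂) :
    (fun g => s (h.mu ω g)) = h.mu (wLinMap s ω) ∧ h.delta (wLinMap s ω) = h.delta ω := by
  have hs : s (h.delta ω) = h.delta ω := by
    rcases h.delta_eq_or ω with e | e <;> simp [e]
  obtain ⟨e1, e2⟩ := h.mu_unique (isIrr_galois s (h.isIrr_mu ω)) (h.delta_ne_zero ω) (wLinMap s ω) fun w hw => by
    show s (h.mu ω w) = _
    rw [h.mu_apply ω hw, map_mul, hs, wLinMap_apply]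
  exact ⟨e1, e2.symm⟩

theorem mu_conj (ω : WLin W₁ W₂) : conjFun (h.mu ω) = h.mu ω⁻¹ ∧ h.delta ω⁻¹ = h.delta ω := by
  have := h.mu_galois conjAut ω
  rw [wLinMap_conjAut] at this
  exact ⟨by rw [← conjAut_comp]; exact this.1, this.2⟩

/-- The restriction `θ_b` of `μ (col b)` to `K`. -/
noncomputable def colChar (b : W₂ →* ℂˣ) : K → ℂ := fun k => h.mu (h.col b) k

theorem mu_restrict (a : W₁ →* ℂˣ) (b : W₂ →* ℂˣ) (k : K) :
    h.mu (h.row a * h.col b) k = h.colChar b k := by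
  rw [(h.mu_row_mul a _).1, Pi.mul_apply, rowInfl, h.proj_of_mem_kernel k.2, map_one, Units.val_one, one_mul]
  rfl

theorem colChar_invariant (b : W₂ →* ℂˣ) (x : L) (k : K) :
    h.colChar b ⟨x * k * x⁻¹, h.normal.conj_mem (k : L) k.2 x⟩ = h.colChar b k :=
  h.mu_isClassFunction _ (k : L) x

theorem colChar_one : h.colChar 1 = fun _ => 1 := by
  funext k
  show h.mu (h.col 1) k = 1
  rw [col_one, h.mu_one.1]

theorem colChar_conj (b : W₂ →* ℂˣ) : conjFun (h.colChar b) = h.colChar b⁻¹ := by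
  funext k
  show conj (h.mu (h.col b) k) = h.mu (h.col b⁻¹) k
  rw [col_inv, ← (h.mu_conj _).1]
  rfl

section Sums

variable [Fintype (W₁ →* ℂˣ)]

/-- The sum of a column of exceptional characters. -/
noncomputable def muSum (b : W₂ →* ℂˣ) : L → ℂ := ∑ a : W₁ →* ℂˣ, h.mu (h.row a * h.col b)

theorem card_hom₁ : Fintype.card (W₁ →* ℂˣ) = Nat.card W₁ := by
  have := sum_hom_abelian h.comm₁ 1
  simp at this
  exact_mod_cast this

theorem indFun_one_kernel : indFun K (fun _ => (1 : ℂ)) = ∑ a : W₁ →* ℂˣ, h.rowInfl a := by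
  haveI := h.normal
  funext g
  rw [Finset.sum_apply]
  simp only [rowInfl]
  rw [sum_hom_abelian h.comm₁]
  by_cases hg : g ∈ K
  · rw [if_pos (h.proj_of_mem_kernel hg)]
    have := indFun_normal_apply K (fun _ => (1 : ℂ)) ⟨g, hg⟩
    rw [this]
    simp only [Finset.sum_const, Finset.card_univ, nsmul_eq_mul, mul_one]
    have hc : Nat.card L = Nat.card W₁ * Nat.card K := h.compl.card_mul_card.symm
    rw [← Nat.card_eq_fintype_card, hc, Nat.cast_mul, mul_comm (Nat.card W₁ : ℂ), ← mul_assoc,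
      inv_mul_cancel₀ (Nat.cast_ne_zero.mpr Nat.card_pos.ne'), one_mul]
  · rw [if_neg fun e => hg (h.proj_eq_one_iff.mp e), indFun_normal_apply_not_mem K _ hg]

/-- **(4.4)** `θ_b` induces to the column sum. -/
theorem indFun_colChar (b : W₂ →* ℂˣ) : indFun K (h.colChar b) = h.muSum b := by
  have e : h.colChar b = (fun _ : K => (1 : ℂ)) * fun k : K => h.mu (h.col b) k := by
    funext k; simp [colChar]
  rw [e, indFun_mul K _ (h.mu_isClassFunction _), h.indFun_one_kernel, Finset.sum_mul]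
  exact Finset.sum_congr rfl fun a _ => (h.mu_row_mul a _).1.symm

theorem classInner_muSum_mu (b : W₂ →* ℂˣ) (a' : W₁ →* ℂˣ) (b' : W₂ →* ℂˣ) [DecidableEq (W₂ →* ℂˣ)] :
    classInner (h.muSum b) (h.mu (h.row a' * h.col b')) = if b = b' then 1 else 0 := by
  classical
  rw [muSum, classInner_sum_left]
  simp only [classInner_irr (h.isIrr_mu _) (h.isIrr_mu _), h.mu_injective.eq_iff]
  by_cases hb : b = b'
  · subst hb
    rw [if_pos rfl, Finset.sum_eq_single a']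
    · simp
    · exact fun a _ hne => if_neg fun e => hne (h.row_col_injective e).1
    · simp
  · rw [if_neg hb]
    exact Finset.sum_eq_zero fun a _ => if_neg fun e => hb (h.row_col_injective e).2

theorem classInner_muSum (b b' : W₂ →* ℂˣ) [DecidableEq (W₂ →* ℂˣ)] :
    classInner (h.muSum b) (h.muSum b') = if b = b' then (Nat.card W₁ : ℂ) else 0 := by
  conv_lhs => arg 2; rw [muSum]
  rw [classInner_sum_right]
  simp only [classInner_muSum_mu]
  split <;> simp [h.card_hom₁]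

end Sums

theorem isIrr_colChar (b : W₂ →* ℂˣ) : IsIrrCharacter K (h.colChar b) := by
  classical
  haveI := Fintype.ofFinite K
  haveI := Fintype.ofFinite (W₁ →* ℂˣ)
  refine irr_of_char_norm_one (isCharacter_restrict (isCharacter_of_irr (h.isIrr_mu _)) K) ?_
  show classInner (h.colChar b) (fun k : K => h.mu (h.col b) k) = 1
  rw [← frobenius_reciprocity K _ (h.mu_isClassFunction _), h.indFun_colChar]
  have := h.classInner_muSum_mu b 1 b
  rwa [row_one, show (1 : WLin W₁ W₂) * h.col b = h.col b from MonoidHom.ext fun w => one_mul _, if_pos rfl] at this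

theorem colChar_injective : Function.Injective h.colChar := by
  classical
  haveI := Fintype.ofFinite (W₁ →* ℂˣ)
  intro b b' e
  have h1 := h.classInner_muSum_mu b 1 b
  rw [if_pos rfl, ← h.indFun_colChar, e, h.indFun_colChar, h.classInner_muSum_mu] at h1
  by_contra hne
  rw [if_neg (Ne.symm hne)] at h1
  exact zero_ne_one h1

theorem colChar_ne_one {b : W₂ →* ℂˣ} (hb : b ≠ 1) : h.colChar b ≠ fun _ => 1 := fun e =>
  hb (h.colChar_injective (e.trans h.colChar_one.symm))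

/-- **(4.4)** The `W₁`-invariant irreducible characters of `K` are the `θ_b`. -/
theorem exists_colChar_of_invariant {θ : K → ℂ} (hθ : IsIrrCharacter K θ)
    (hinv : ∀ x ∈ W₁, ∀ k : K, θ ⟨x * k * x⁻¹, h.normal.conj_mem (k : L) k.2 x⟩ = θ k) :
    ∃ b, θ = h.colChar b := by
  haveI := h.normal
  haveI := Fintype.ofFinite K
  let F : (W₂ →* ℂˣ) → {θ : IrrCharacter K // ∀ x ∈ W₁,
      (fun k : K => (θ : K → ℂ) ⟨x * k * x⁻¹, h.normal.conj_mem (k : L) k.2 x⟩) = θ} := fun b =>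
    ⟨⟨h.colChar b, h.isIrr_colChar b⟩, fun x _ => funext fun k => h.colChar_invariant b x k⟩
  have hF : Function.Injective F := fun b b' e =>
    h.colChar_injective (congrArg (fun z => (z.1.1 : K → ℂ)) e)
  have hcard := (Cfsg.Agent.S1513.result K W₁ W₂ h.inf_eq_bot h.sup_eq_top h.ne_bot₁ h.cyclic₁ h.hall h.ne_bot₂
    h.cyclic₂ h.le_kernel h.centralizer_eq h.odd).2.1
  have hb := hF.bijective_of_nat_card_le (by
    rw [hcard]
    haveI := Fintype.ofFinite (W₂ →* ℂˣ)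
    have := sum_hom_abelian h.comm₂ 1
    simp at this
    rw [Nat.card_eq_fintype_card (α := W₂ →* ℂˣ), (by exact_mod_cast this : Fintype.card (W₂ →* ℂˣ) = Nat.card W₂)])
  obtain ⟨b, e⟩ := hb.2 ⟨⟨θ, hθ⟩, fun x hx => funext (hinv x hx)⟩
  exact ⟨b, (congrArg (fun z => (z.1.1 : K → ℂ)) e).symm⟩

/-- **(4.4)** Every other irreducible character of `K` induces irreducibly. -/
theorem isIrr_indFun_of_ne {θ : K → ℂ} (hθ : IsIrrCharacter K θ) (hne : ∀ b, θ ≠ h.colChar b) :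
    IsIrrCharacter L (indFun K θ) := by
  haveI := h.normal
  refine (Cfsg.Agent.S1513.result K W₁ W₂ h.inf_eq_bot h.sup_eq_top h.ne_bot₁ h.cyclic₁ h.hall h.ne_bot₂
    h.cyclic₂ h.le_kernel h.centralizer_eq h.odd).1 θ hθ ?_
  by_contra hno
  push Not at hno
  obtain ⟨b, hb⟩ := h.exists_colChar_of_invariant hθ fun x hx k => congrFun (hno x hx) k
  exact hne b hb

theorem indFun_ne_mu {θ : K → ℂ} (hθ : IsIrrCharacter K θ) (hne : ∀ b, θ ≠ h.colChar b) (ω : WLin W₁ W₂) :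
    indFun K θ ≠ h.mu ω := by
  haveI := Fintype.ofFinite K
  obtain ⟨a, b, rfl⟩ := h.exists_row_col ω
  intro e
  have h1 := classInner_irr_self (h.isIrr_mu (h.row a * h.col b))
  nth_rw 1 [← e] at h1
  rw [frobenius_reciprocity K _ (h.mu_isClassFunction _)] at h1
  rw [show (fun k : K => h.mu (h.row a * h.col b) k) = h.colChar b from funext (h.mu_restrict a b),
    classInner_irr_ne hθ (h.isIrr_colChar b) (hne b)] at h1
  exact zero_ne_one h1

/-- **(4.4)** The irreducible characters of `L`. -/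
theorem irr_cases {χ : L → ℂ} (hχ : IsIrrCharacter L χ) : (∃ ω, χ = h.mu ω) ∨
    ∃ θ, IsIrrCharacter K θ ∧ (∀ b, θ ≠ h.colChar b) ∧ χ = indFun K θ := by
  classical
  haveI := h.normal
  haveI := Fintype.ofFinite K
  haveI := Fintype.ofFinite (W₁ →* ℂˣ)
  have hne : (fun k : K => χ k) ≠ 0 := fun e => irr_ne_zero hχ (congrFun e 1)
  obtain ⟨θ, hθ, hθ0⟩ := exists_constituent (isCharacter_restrict (isCharacter_of_irr hχ) K) hne
  have hind : classInner (indFun K θ) χ ≠ 0 := by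
    rw [frobenius_reciprocity K θ (isClassFunction_irr hχ), ← classInner_comm]
    simpa using hθ0
  by_cases hcol : ∃ b, θ = h.colChar b
  · obtain ⟨b, rfl⟩ := hcol
    rw [h.indFun_colChar, muSum, classInner_sum_left] at hind
    obtain ⟨a, -, ha⟩ := Finset.exists_ne_zero_of_sum_ne_zero hind
    refine Or.inl ⟨h.row a * h.col b, ?_⟩
    by_contra e
    exact ha (classInner_irr_ne (h.isIrr_mu _) hχ (Ne.symm e))
  · push Not at hcol
    refine Or.inr ⟨θ, hθ, hcol, ?_⟩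
    by_contra e
    exact hind (classInner_irr_ne (h.isIrr_indFun_of_ne hθ hcol) hχ (Ne.symm e))

/-- **(4.4)** Nontrivial columns are not real. -/
theorem inv_ne_self₂ {b : W₂ →* ℂˣ} (hb : b ≠ 1) : b⁻¹ ≠ b := fun e => hb (MonoidHom.ext fun x => by
  have h2 : b x ^ 2 = 1 := by
    rw [sq]; nth_rw 1 [← e]
    rw [MonoidHom.inv_apply, inv_mul_cancel]
  have h3 : b x ^ Nat.card W₂ = 1 := by rw [← map_pow, pow_card_eq_one', map_one]
  have := pow_gcd_eq_one.mpr ⟨h2, h3⟩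
  rw [Nat.coprime_two_left.mpr h.odd₂, pow_one] at this
  exact this)

theorem colChar_conj_ne {b : W₂ →* ℂˣ} (hb : b ≠ 1) : conjFun (h.colChar b) ≠ h.colChar b := by
  rw [h.colChar_conj]
  exact fun e => h.inv_ne_self₂ hb (h.colChar_injective e)

/-- No non-principal irreducible character of `K` induces to a real character when `|L|` is odd. -/
theorem indFun_conj_ne (hodd : Odd (Nat.card L)) {θ : K → ℂ} (hθ : IsIrrCharacter K θ) (h1 : θ ≠ fun _ => 1) :
    conjFun (indFun K θ) ≠ indFun K θ := by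
  classical
  haveI := h.normal
  haveI := Fintype.ofFinite (W₁ →* ℂˣ)
  intro hreal
  by_cases hcol : ∃ b, θ = h.colChar b
  · obtain ⟨b, rfl⟩ := hcol
    have hb : b ≠ 1 := fun e => h1 (e ▸ h.colChar_one)
    rw [h.indFun_colChar] at hreal
    have hc : conjFun (h.muSum b) = h.muSum b⁻¹ := by
      funext g
      simp only [muSum, conjFun, Finset.sum_apply, map_sum]
      refine Fintype.sum_equiv (Equiv.inv _) _ _ fun a => ?_
      rw [Equiv.inv_apply, row_inv, col_inv, show (h.row a)⁻¹ * (h.col b)⁻¹ = (h.row a * h.col b)⁻¹ from MonoidHom.ext fun w => (mul_inv _ _).symm, ← (h.mu_conj _).1]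
      rfl
    rw [hc] at hreal
    have := h.classInner_muSum b⁻¹ b
    rw [hreal, h.classInner_muSum, if_pos rfl, if_neg (h.inv_ne_self₂ hb)] at this
    exact Nat.cast_ne_zero.mpr Nat.card_pos.ne' this
  · push Not at hcol
    have hirr := h.isIrr_indFun_of_ne hθ hcol
    have hone := Cfsg.Agent.S0161.result hodd ⟨_, hirr⟩
      fun g => Complex.conj_eq_iff_im.mp (congrFun hreal g)
    obtain ⟨x, hx, hx1⟩ := (Subgroup.bot_or_exists_ne_one W₁).resolve_left h.ne_bot₁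
    have hxK : x ∉ K := fun hk => hx1 (Subgroup.mem_bot.mp (h.inf_eq_bot ▸ Subgroup.mem_inf.mpr ⟨hk, hx⟩))
    have := congrFun hone x
    simp only [indFun_normal_apply_not_mem K θ hxK] at this
    exact zero_ne_one this

/-- **(4.4)** `θ_b` congruent to its sign, so equal degrees force equal signs. -/
theorem delta_eq_of_degree {b c : W₂ →* ℂˣ} (e : h.colChar b 1 = h.colChar c 1) :
    h.delta (h.col b) = h.delta (h.col c) := by
  obtain ⟨n, hn⟩ := h.degree_congr (h.col b)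
  obtain ⟨m, hm⟩ := h.degree_congr (h.col c)
  have e' : h.mu (h.col b) 1 = h.mu (h.col c) 1 := e
  have key : h.delta (h.col c) - h.delta (h.col b) = ((n - m : ℤ) : ℂ) * (Nat.card W₁ : ℂ) := by
    push_cast; linear_combination hn - hm - e'
  have hw := h.three_le₁
  have no : ∀ k : ℤ, (k = 2 ∨ k = -2) → k ≠ (n - m) * (Nat.card W₁ : ℤ) := by
    intro k hk hkeq
    have hdvd : (Nat.card W₁ : ℤ) ∣ k := ⟨n - m, by rw [hkeq]; ring⟩
    have : (Nat.card W₁ : ℤ).natAbs ∣ k.natAbs := Int.natAbs_dvd_natAbs.mpr hdvd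
    rcases hk with rfl | rfl <;> simp at this <;> have := Nat.le_of_dvd (by norm_num) this <;> omega
  rcases h.delta_eq_or (h.col b) with hb | hb <;> rcases h.delta_eq_or (h.col c) with hc | hc <;>
    rw [hb, hc] at key ⊢
  · exfalso; exact no (-2) (Or.inr rfl) (Int.cast_injective (α := ℂ) (by push_cast at key ⊢; linear_combination key))
  · exfalso; exact no 2 (Or.inl rfl) (Int.cast_injective (α := ℂ) (by push_cast at key ⊢; linear_combination key))

/-- **(4.4)** Every element outside `K` is conjugate into `W \ W₂`. -/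
theorem exists_conj_mem {x : L} (hx : x ∉ K) :
    ∃ g : L, g * x * g⁻¹ ∈ W₁ ⊔ W₂ ∧ g * x * g⁻¹ ∉ W₂ := by
  haveI := h.normal
  set a : W₁ := h.proj x with ha
  have ha1 : (a : L) ≠ 1 := fun e => hx (h.proj_eq_one_iff.mp (Subtype.ext e))
  obtain ⟨u, hu, c, hc, hca, he⟩ := conj_coset_coprime K (g := (a : L)) (by rw [Subgroup.normalizer_eq_top]; trivial)
    (h.coprime.coprime_dvd_left (W₁.orderOf_dvd_natCard a.2)) (h.mul_proj_inv_mem x)
  rw [inv_mul_cancel_right] at he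
  have hcW : c ∈ W₂ := by
    rw [← h.centralizer_eq a a.2 ha1]
    exact ⟨hc, Subgroup.mem_centralizer_singleton_iff.mpr hca⟩
  refine ⟨u, ?_, ?_⟩
  · rw [he]; exact (W₁ ⊔ W₂).mul_mem (Subgroup.mem_sup_right hcW) (Subgroup.mem_sup_left a.2)
  · rw [he, hca]; exact h.notMem₂_mul a.2 ha1 hcW

/-- **(4.4)** Only the principal `θ_b` has `W₂` in its kernel. -/
theorem eq_one_of_kernel {b : W₂ →* ℂˣ} (hk : ∀ k : K, (k : L) ∈ W₂ → h.colChar b k = h.colChar b 1) : b = 1 := by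
  obtain ⟨a, ha, ha1⟩ := (Subgroup.bot_or_exists_ne_one W₁).resolve_left h.ne_bot₁
  ext y
  have hy := hk ⟨(y : L), h.le_kernel y.2⟩ y.2
  obtain ⟨n, ρ, -, hρ⟩ := h.isIrr_mu (h.col b)
  have hy1 : h.mu (h.col b) (y : L) = h.mu (h.col b) 1 := hy
  have hρy : ρ (y : L) = 1 := rep_apply_eq_one_of_char_eq ρ (by rw [hρ]; exact hy1)
  have hprod : h.mu (h.col b) (a * y) = h.mu (h.col b) a := by
    rw [← hρ]; simp only [Representation.character, map_mul, hρy, mul_one]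
  let aW : ↥(W₁ ⊔ W₂) := ⟨a, Subgroup.mem_sup_left ha⟩
  let yW : ↥(W₁ ⊔ W₂) := ⟨(y : L), Subgroup.mem_sup_right y.2⟩
  have e1 := h.mu_apply (h.col b) (w := aW * yW) (h.notMem₂_mul ha ha1 y.2)
  have e2 := h.mu_apply (h.col b) (w := aW) (h.notMem₂ ha ha1)
  rw [show ((aW * yW : ↥(W₁ ⊔ W₂)) : L) = a * y from rfl, hprod, map_mul, h.col_apply₁ b (w := aW) ha, one_mul,
    h.col_apply₂ b (w := yW) y.2] at e1
  rw [show ((aW : ↥(W₁ ⊔ W₂)) : L) = a from rfl, h.col_apply₁ b (w := aW) ha, e1] at e2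
  have := mul_left_cancel₀ (h.delta_ne_zero _) e2
  simpa using this

end IsPrimeTI

/-- An irreducible character whose kernel misses `N` vanishes on the elements centralizing nothing in `N#`. -/
theorem apply_eq_zero_of_centralizer_inf {X : Type u} [Group X] [Fintype X] (N : Subgroup X) [N.Normal] {θ : X → ℂ}
    (hθ : IsIrrCharacter X θ) (hk : ¬∀ n ∈ N, θ n = θ 1) {x : X}
    (hx : ∀ n ∈ N, n * x = x * n → n = 1) : θ x = 0 := by
  classical
  have hX := sum_irr_mul_conj x x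
  have hQ := sum_irr_mul_conj (x : X ⧸ N) (x : X ⧸ N)
  rw [if_pos (IsConj.refl _)] at hX hQ
  simp only [Complex.mul_conj] at hX hQ
  have hX' : ∑ χ : IrrCharacter X, Complex.normSq ((χ : X → ℂ) x) =
      (Nat.card (Subgroup.centralizer ({x} : Set X)) : ℝ) := by exact_mod_cast hX
  have hQ' : ∑ χ : IrrCharacter (X ⧸ N), Complex.normSq ((χ : X ⧸ N → ℂ) (x : X ⧸ N)) =
      (Nat.card (Subgroup.centralizer ({(x : X ⧸ N)} : Set (X ⧸ N))) : ℝ) := by exact_mod_cast hQ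
  have hle : Nat.card (Subgroup.centralizer ({x} : Set X)) ≤
      Nat.card (Subgroup.centralizer ({(x : X ⧸ N)} : Set (X ⧸ N))) := by
    let f : Subgroup.centralizer ({x} : Set X) →* Subgroup.centralizer ({(x : X ⧸ N)} : Set (X ⧸ N)) :=
      { toFun := fun c => ⟨((c : X) : X ⧸ N), Subgroup.mem_centralizer_singleton_iff.mpr (by
          rw [← QuotientGroup.mk_mul, ← QuotientGroup.mk_mul, Subgroup.mem_centralizer_singleton_iff.mp c.2])⟩
        map_one' := rfl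
        map_mul' := fun _ _ => rfl }
    refine Nat.card_le_card_of_injective f ((injective_iff_map_eq_one f).mpr fun c hc => Subtype.ext ?_)
    exact hx c ((QuotientGroup.eq_one_iff _).mp (congrArg Subtype.val hc))
      (Subgroup.mem_centralizer_singleton_iff.mp c.2)
  have hsplit := Fintype.sum_subtype_add_sum_subtype
    (fun χ : IrrCharacter X => ∀ n ∈ N, (χ : X → ℂ) n = (χ : X → ℂ) 1)
    (fun χ : IrrCharacter X => Complex.normSq ((χ : X → ℂ) x))
  rw [← Fintype.sum_equiv (quotientIrrEquiv N)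
    (fun ψ => Complex.normSq ((ψ : X ⧸ N → ℂ) (x : X ⧸ N))) _ (fun ψ => rfl), hQ', hX'] at hsplit
  have hsingle : Complex.normSq (θ x) ≤
      ∑ χ : {χ : IrrCharacter X // ¬∀ n ∈ N, (χ : X → ℂ) n = (χ : X → ℂ) 1},
        Complex.normSq (((χ : IrrCharacter X) : X → ℂ) x) :=
    Finset.single_le_sum (f := fun χ : {χ : IrrCharacter X // ¬∀ n ∈ N, (χ : X → ℂ) n = (χ : X → ℂ) 1} =>
      Complex.normSq (((χ : IrrCharacter X) : X → ℂ) x)) (fun χ _ => Complex.normSq_nonneg _)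
      (Finset.mem_univ ⟨⟨θ, hθ⟩, hk⟩)
  have hle' : (Nat.card (Subgroup.centralizer ({x} : Set X)) : ℝ) ≤
      Nat.card (Subgroup.centralizer ({(x : X ⧸ N)} : Set (X ⧸ N))) := by exact_mod_cast hle
  exact Complex.normSq_eq_zero.mp (le_antisymm (by linarith) (Complex.normSq_nonneg _))

end CfsgLib.OddOrder.Found
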