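import Cfsg.Agent.Lib.OddOrder.Found.PrimeDade
import Cfsg.Agent.Lib.OddOrder.Found.CoherenceTools
import Cfsg.Agent.Lib.CharTheory.CoherenceDescend

/-!
Peterfalvi (5.8), (5.9): the characters induced from characters of `K` nontrivial on `H` form a coherence system
for the Dade map of a prime Dade hypothesis; the coherent image of a column sum.
-/

set_option autoImplicit false
set_option linter.unusedSectionVars false
set_option linter.style.haveILetI false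

namespace CfsgLib.OddOrder.Found

open Cfsg CfsgLib.CharTheory CfsgLib.Dade
open scoped ComplexConjugate

universe u

theorem conjFun_char_one {X : Type u} [Group X] [Fintype X] {φ : X → ℂ} (hφ : IsCharacter X φ) : conjFun φ 1 = φ 1 := by
  obtain ⟨d, hd⟩ := char_one_eq_natCast hφ
  show conj (φ 1) = φ 1
  rw [hd, map_natCast]

/-- The characters induced from the irreducible characters of `K` that are nontrivial on `H`. -/
def indSet {X : Type u} [Group X] [Fintype X] (K H : Subgroup X) : Set (X → ℂ) :=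
  {φ | ∃ θ : K → ℂ, IsIrrCharacter K θ ∧ ¬(∀ x : K, (x : X) ∈ H → θ x = θ 1) ∧ φ = indFun K θ}

namespace IsPrimeDade

variable {G : Type u} [Group G] [Fintype G] {L : Subgroup G} [Fintype L] {K H : Subgroup L} {W₁ W₂ : Subgroup G}
  {A₀ : Set G} {R : G → Subgroup G} (h : IsPrimeDade L K H W₁ W₂ A₀ R)
include h

theorem inducedIrrAbove_subset_indSet (hHK : H = K) (X : Subgroup L) : inducedIrrAbove K X ⊆ indSet K H := by
  rintro φ ⟨θ, hθ, hθ1, -, rfl⟩
  haveI := Fintype.ofFinite K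
  exact ⟨θ, hθ, fun hk => hθ1 (irr_eq_one_of_kernel_top hθ fun k => hk k (hHK ▸ k.2)), rfl⟩

theorem inv_ne_one₂ {b : W₂.subgroupOf L →* ℂˣ} (hb : b ≠ 1) : b⁻¹ ≠ 1 := fun e =>
  hb (MonoidHom.ext fun x => by simpa using DFunLike.congr_fun e x)

theorem inv_inv₂ (b : W₂.subgroupOf L →* ℂˣ) : b⁻¹⁻¹ = b := MonoidHom.ext fun x => by simp

theorem colChar_inv_one (b : W₂.subgroupOf L →* ℂˣ) : h.ti.colChar b⁻¹ 1 = h.ti.colChar b 1 := by
  haveI := Fintype.ofFinite K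
  rw [← h.ti.colChar_conj, conjFun_char_one (isCharacter_of_irr (h.ti.isIrr_colChar b))]

theorem sgn_inv (b : W₂.subgroupOf L →* ℂˣ) : h.sgn b⁻¹ = h.sgn b := by
  rw [sgn, sgn, h.ti.col_inv, (h.ti.mu_conj _).2]

theorem conjFun_muSum [Fintype (W₁.subgroupOf L →* ℂˣ)] (b : W₂.subgroupOf L →* ℂˣ) :
    conjFun (h.ti.muSum b) = h.ti.muSum b⁻¹ := by
  rw [← h.ti.indFun_colChar, ← h.ti.indFun_colChar, ← indFun_conjFun, h.ti.colChar_conj]

/-- A member of `indSet` is a column sum or a further irreducible character. -/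
theorem indSet_cases [Fintype (W₁.subgroupOf L →* ℂˣ)] {φ : L → ℂ} (hφ : φ ∈ indSet K H) :
    (∃ b, b ≠ 1 ∧ φ = h.ti.muSum b) ∨ (IsIrrCharacter L φ ∧ ∀ ω, φ ≠ h.ti.mu ω) := by
  obtain ⟨θ, hθ, hk, rfl⟩ := hφ
  by_cases hc : ∃ b, θ = h.ti.colChar b
  · obtain ⟨b, rfl⟩ := hc
    refine Or.inl ⟨b, fun e => hk fun x _ => ?_, h.ti.indFun_colChar b⟩
    rw [e, h.ti.colChar_one]
  · push Not at hc
    exact Or.inr ⟨h.ti.isIrr_indFun_of_ne hθ hc, h.ti.indFun_ne_mu hθ hc⟩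

theorem muSum_mem_indSet [Fintype (W₁.subgroupOf L →* ℂˣ)] {b : W₂.subgroupOf L →* ℂˣ} (hb : b ≠ 1) :
    h.ti.muSum b ∈ indSet K H :=
  ⟨_, h.ti.isIrr_colChar b, h.colChar_nontrivial hb, (h.ti.indFun_colChar b).symm⟩

theorem muSum_inj [Fintype (W₁.subgroupOf L →* ℂˣ)] {b c : W₂.subgroupOf L →* ℂˣ}
    (e : h.ti.muSum b = h.ti.muSum c) : b = c := by
  classical
  have h1 := h.ti.classInner_muSum b c
  rw [e, h.ti.classInner_muSum, if_pos rfl] at h1
  by_contra hne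
  rw [if_neg hne] at h1
  exact Nat.cast_ne_zero.mpr Nat.card_pos.ne' h1

theorem isCharacter_of_mem {φ : L → ℂ} (hφ : φ ∈ indSet K H) : IsCharacter L φ := by
  obtain ⟨θ, hθ, -, rfl⟩ := hφ
  exact isCharacter_indFun K (isCharacter_of_irr hθ)

theorem apply_notMem_kernel {φ : L → ℂ} (hφ : φ ∈ indSet K H) {x : L} (hx : x ∉ K) : φ x = 0 := by
  obtain ⟨θ, -, -, rfl⟩ := hφ
  haveI := h.ti.normal
  exact indFun_normal_apply_not_mem K θ hx

/-- **(4.7)** Integer combinations of `indSet` vanishing at `1` are supported in `A₀`. -/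
theorem zspan_vanish {S : Set (L → ℂ)} (hS : S ⊆ indSet K H) {α : L → ℂ} (hα : α ∈ zspanOn S {1}ᶜ) {x : L}
    (hx : (x : G) ∉ A₀) : α x = 0 := by
  refine h.vanish_outside (isGenChar_iff_coeff_int.mp (zspan_genChar (fun φ hφ =>
    isGenChar_of_char (h.isCharacter_of_mem (hS hφ))) hα.1)).1 (hα.2 1 fun e => e rfl) ?_ ?_ hx
  · intro k _ _ hfree
    refine zspan_eq_zero (fun φ hφ => ?_) hα.1
    obtain ⟨θ, hθ, hk, rfl⟩ := hS hφ
    exact h.indFun_apply_eq_zero hθ hk hfree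
  · intro w hw hw1
    refine zspan_eq_zero (fun φ hφ => h.apply_notMem_kernel (hS hφ) fun hk => ?_) hα.1
    exact hw1 (Subgroup.mem_bot.mp (h.ti.inf_eq_bot ▸ Subgroup.mem_inf.mpr ⟨hk, Subgroup.mem_subgroupOf.mpr hw⟩))

theorem dade_isometry_indSet {S : Set (L → ℂ)} (hS : S ⊆ indSet K H) :
    IsLinearIsometryOn (zspanOn S {1}ᶜ) (dadeIsometry A₀ L R) ∧
      ∀ α ∈ zspanOn S {1}ᶜ, dadeIsometry A₀ L R α 1 = 0 :=
  dade_isometryOn h.dade (fun φ hφ => isGenChar_of_char (h.isCharacter_of_mem (hS hφ)))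
    fun _ hα _ hx => h.zspan_vanish hS hα hx

theorem indSet_conj_ne (hodd : Odd (Nat.card L)) {φ : L → ℂ} (hφ : φ ∈ indSet K H) : conjFun φ ≠ φ := by
  obtain ⟨θ, hθ, hk, rfl⟩ := hφ
  exact h.ti.indFun_conj_ne hodd hθ fun e => hk fun x _ => by rw [e]

theorem indSet_orthogonal {φ ψ : L → ℂ} (hφ : φ ∈ indSet K H) (hψ : ψ ∈ indSet K H) (hne : φ ≠ ψ) :
    classInner φ ψ = 0 := by
  classical
  haveI := Fintype.ofFinite (W₁.subgroupOf L →* ℂˣ)
  have key : ∀ b (ξ : L → ℂ), IsIrrCharacter L ξ → (∀ ω, ξ ≠ h.ti.mu ω) → classInner (h.ti.muSum b) ξ = 0 :=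
    fun b ξ hξ hn => by
      rw [IsPrimeTI.muSum, classInner_sum_left]
      exact Finset.sum_eq_zero fun a _ => classInner_irr_ne (h.ti.isIrr_mu _) hξ (Ne.symm (hn _))
  rcases h.indSet_cases hφ with ⟨b, -, rfl⟩ | ⟨hi, hn⟩ <;> rcases h.indSet_cases hψ with ⟨c, -, rfl⟩ | ⟨hi', hn'⟩
  · rw [h.ti.classInner_muSum, if_neg fun e : b = c => hne (by rw [e])]
  · exact key b ψ hi' hn'
  · rw [← classInner_comm, key c φ hi hn, map_zero]
  · exact classInner_irr_ne hi hi' hne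

section Family

variable {χ : WLin W₁ W₂ → (G → ℂ)}

/-- The signed members of the family attached to the column sums of `b` and `b⁻¹`. -/
noncomputable def colElt (χ : WLin W₁ W₂ → (G → ℂ)) (b : W₂.subgroupOf L →* ℂˣ)
    (p : (W₁.subgroupOf L →* ℂˣ) × Bool) : G → ℂ :=
  if p.2 then h.sgn b • χ (h.idx p.1 b) else -(h.sgn b • χ (h.idx p.1 b⁻¹))

open Classical in
/-- The set `R` of a column sum. -/
noncomputable def colSystem [Fintype (W₁.subgroupOf L →* ℂˣ)] (χ : WLin W₁ W₂ → (G → ℂ))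
    (b : W₂.subgroupOf L →* ℂˣ) : Finset (G → ℂ) :=
  Finset.univ.image (h.colElt χ b)

theorem colElt_eq (b : W₂.subgroupOf L →* ℂˣ) (p : (W₁.subgroupOf L →* ℂˣ) × Bool) :
    ∃ c : ℂ, (c = 1 ∨ c = -1) ∧ h.colElt χ b p = c • χ (h.idx p.1 (if p.2 then b else b⁻¹)) := by
  rcases p with ⟨a, _ | _⟩
  · refine ⟨-h.sgn b, ?_, by simp [colElt, neg_smul]⟩
    rcases h.ti.delta_eq_or (h.ti.col b) with e | e <;> simp [sgn, e]
  · exact ⟨h.sgn b, h.ti.delta_eq_or _, by simp [colElt]⟩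

theorem classInner_colElt (hχ : IsCyclicTIFamily W₁ W₂ χ) {b c : W₂.subgroupOf L →* ℂˣ}
    (hbc : ∀ s t : Bool, (if s then b else b⁻¹) = (if t then c else c⁻¹) → b = c ∧ s = t)
    (p q : (W₁.subgroupOf L →* ℂˣ) × Bool) [Decidable (b = c ∧ p = q)] :
    classInner (h.colElt χ b p) (h.colElt χ c q) = if b = c ∧ p = q then 1 else 0 := by
  obtain ⟨x, hx, ex⟩ := h.colElt_eq (χ := χ) b p
  obtain ⟨y, hy, ey⟩ := h.colElt_eq (χ := χ) c q
  by_cases hpq : b = c ∧ p = q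
  · rw [if_pos hpq]
    obtain ⟨rfl, rfl⟩ := hpq
    rw [ex, classInner_smul_left, classInner_smul_right, hχ.orthonormal, if_pos rfl]
    rcases hx with rfl | rfl <;> simp
  · rw [if_neg hpq, ex, ey, classInner_smul_left, classInner_smul_right, hχ.orthonormal, if_neg ?_, mul_zero, mul_zero]
    intro e
    obtain ⟨e1, e2⟩ := h.idx_eq_iff.mp e
    obtain ⟨rfl, e3⟩ := hbc _ _ e2
    exact hpq ⟨rfl, Prod.ext e1 e3⟩

theorem col_sep {b : W₂.subgroupOf L →* ℂˣ} (hb : b ≠ 1) (s t : Bool)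
    (e : (if s then b else b⁻¹) = (if t then b else b⁻¹)) : b = b ∧ s = t := by
  have hne := h.ti.inv_ne_self₂ hb
  rcases s with _ | _ <;> rcases t with _ | _
  · exact ⟨rfl, rfl⟩
  · exact absurd (by simpa using e) hne
  · exact absurd (show b = b⁻¹ by simpa using e).symm hne
  · exact ⟨rfl, rfl⟩

theorem colElt_injective (hχ : IsCyclicTIFamily W₁ W₂ χ) {b : W₂.subgroupOf L →* ℂˣ} (hb : b ≠ 1) :
    Function.Injective (h.colElt χ b) := fun p q e => by
  classical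
  have h1 := h.classInner_colElt hχ (h.col_sep hb) p q
  rw [e, h.classInner_colElt hχ (h.col_sep hb) q q, if_pos ⟨rfl, rfl⟩] at h1
  by_contra hne
  rw [if_neg fun e' => hne e'.2] at h1
  exact one_ne_zero h1

theorem isGenChar_colElt (hχ : IsCyclicTIFamily W₁ W₂ χ) (b : W₂.subgroupOf L →* ℂˣ)
    (p : (W₁.subgroupOf L →* ℂˣ) × Bool) : IsGeneralizedCharacter G (h.colElt χ b p) := by
  obtain ⟨c, hc, e⟩ := h.colElt_eq (χ := χ) b p
  rw [e]
  rcases hc with rfl | rfl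
  · rw [one_smul]; exact cycFamily_signed hχ _
  · rw [neg_one_smul]; exact isGenChar_neg (cycFamily_signed hχ _)

theorem classInner_colElt_idx (hχ : IsCyclicTIFamily W₁ W₂ χ) (b : W₂.subgroupOf L →* ℂˣ)
    (p : (W₁.subgroupOf L →* ℂˣ) × Bool) {a : W₁.subgroupOf L →* ℂˣ} {y : W₂.subgroupOf L →* ℂˣ}
    (hy : ¬(p.1 = a ∧ (if p.2 then b else b⁻¹) = y)) : classInner (h.colElt χ b p) (χ (h.idx a y)) = 0 := by
  obtain ⟨c, -, e⟩ := h.colElt_eq (χ := χ) b p
  rw [e, classInner_smul_left, hχ.orthonormal, if_neg (fun e' => hy (h.idx_eq_iff.mp e')), mul_zero]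

theorem sum_colSystem [Fintype (W₁.subgroupOf L →* ℂˣ)] (hχ : IsCyclicTIFamily W₁ W₂ χ)
    {b : W₂.subgroupOf L →* ℂˣ} (hb : b ≠ 1) :
    ∑ α ∈ h.colSystem χ b, α = h.sgn b • ∑ a : W₁.subgroupOf L →* ℂˣ, (χ (h.idx a b) - χ (h.idx a b⁻¹)) := by
  classical
  rw [colSystem, Finset.sum_image fun p _ q _ e => h.colElt_injective hχ hb e, Fintype.sum_prod_type,
    Finset.smul_sum]
  refine Finset.sum_congr rfl fun a _ => ?_
  simp [colElt, smul_sub, sub_eq_add_neg]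

/-- **(5.9)** The coherence system of a prime Dade hypothesis. -/
theorem exists_system [Fintype (W₁.subgroupOf L →* ℂˣ)] (hodd : Odd (Nat.card L))
    (hχ : IsCyclicTIFamily W₁ W₂ χ) {S : Set (L → ℂ)} (hS : S ⊆ indSet K H) (hne : S.Nonempty)
    (hconj : ∀ φ ∈ S, conjFun φ ∈ S) :
    ∃ RS : (L → ℂ) → Finset (G → ℂ), IsCoherenceSystem S (dadeIsometry A₀ L R) RS ∧
      (∀ b, b ≠ 1 → RS (h.ti.muSum b) = h.colSystem χ b) ∧
      (∀ φ ∈ S, IsIrrCharacter L φ → ∀ α ∈ RS φ, ∀ ω, classInner α (χ ω) = 0) := by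
  classical
  set τ := dadeIsometry A₀ L R with hτdef
  obtain ⟨hiso, hτ1⟩ := h.dade_isometry_indSet hS
  set S' : Set (L → ℂ) := {φ | φ ∈ S ∧ IsIrrCharacter L φ} with hS'
  have hsub : S' ⊆ S := fun φ hφ => hφ.1
  have hsub' : zspanOn S' {1}ᶜ ⊆ zspanOn S {1}ᶜ := fun α hα => ⟨Submodule.span_mono hsub hα.1, hα.2⟩
  have hR₀ : ∃ R₀ : (L → ℂ) → Finset (G → ℂ), S'.Nonempty → IsCoherenceSystem S' τ R₀ := by
    by_cases hne' : S'.Nonempty
    · obtain ⟨R₀, hR₀⟩ := exists_coherenceSystem S' hne' (fun φ hφ => hφ.2)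
        (fun φ hφ => ⟨⟨hconj φ hφ.1, isIrrCharacter_conjChar hφ.2⟩, h.indSet_conj_ne hodd (hS hφ.1)⟩) τ
        (isometryOn_mono hsub' hiso) fun α hα => hτ1 α (hsub' hα)
      exact ⟨R₀, fun _ => hR₀⟩
    · exact ⟨fun _ => ∅, fun e => absurd e hne'⟩
  obtain ⟨R₀, hR₀⟩ := hR₀
  set RS : (L → ℂ) → Finset (G → ℂ) := fun φ =>
    if hb : ∃ b, b ≠ 1 ∧ φ = h.ti.muSum b then h.colSystem χ hb.choose else R₀ φ with hRS
  have hcol : ∀ b, b ≠ 1 → RS (h.ti.muSum b) = h.colSystem χ b := fun b hb => by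
    have hex : ∃ c, c ≠ 1 ∧ h.ti.muSum b = h.ti.muSum c := ⟨b, hb, rfl⟩
    simp only [hRS, dif_pos hex]
    rw [← h.muSum_inj hex.choose_spec.2]
  have hnot : ∀ φ, IsIrrCharacter L φ → ¬∃ b, b ≠ 1 ∧ φ = h.ti.muSum b := by
    rintro φ hφ ⟨b, -, rfl⟩
    have h1 := classInner_irr_self hφ
    rw [h.ti.classInner_muSum, if_pos rfl, Nat.cast_eq_one] at h1
    have := h.ti.three_le₁
    omega
  have hirrR : ∀ φ ∈ S, IsIrrCharacter L φ → RS φ = R₀ φ ∧ φ ∈ S' := fun φ hφS hφ =>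
    ⟨by simp only [hRS, dif_neg (hnot φ hφ)], hφS, hφ⟩
  have horth : ∀ φ ∈ S, IsIrrCharacter L φ → ∀ α ∈ RS φ, ∀ ω, classInner α (χ ω) = 0 := by
    intro φ hφS hφ α hα ω
    obtain ⟨e, hφ'⟩ := hirrR φ hφS hφ
    have hR := hR₀ ⟨φ, hφ'⟩
    rw [e] at hα
    have hmem : φ - conjFun φ ∈ zspanOn S {1}ᶜ := hsub' (cs_sub_conj_mem hR hφ')
    have hN : classInner (τ (φ - conjFun φ)) (τ (φ - conjFun φ)) = ((2 : ℤ) : ℂ) := by
      have h2 : IsIrrCharacter L (conjFun φ) := isIrrCharacter_conjChar hφ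
      have hne2 : φ ≠ conjFun φ := Ne.symm (h.indSet_conj_ne hodd (hS hφS))
      rw [hiso.2.2.1 _ hmem _ hmem, classInner_sub_left, classInner_sub_right, classInner_sub_right,
        classInner_irr_self hφ, classInner_irr_self h2, classInner_irr_ne hφ h2 hne2,
        classInner_irr_ne h2 hφ hne2.symm]
      norm_num
    have h0 : classInner (τ (φ - conjFun φ)) (χ ω) = 0 := by
      refine h.classInner_family_eq_zero hχ (hiso.2.2.2 _ hmem) hN le_rfl (fun w h1 h2 => ?_) ω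
      rw [h.dade_apply_V (isGenChar_iff_coeff_int.mp (zspan_genChar (fun ψ hψ =>
        isGenChar_of_char (h.isCharacter_of_mem (hS hψ))) hmem.1)).1 w.2 h1 h2]
      have hnK : (⟨(w : G), h.le_sup w.2⟩ : L) ∉ K := fun hk => h2 <| Subgroup.mem_subgroupOf.mp <|
        h.ti.mem₂_of_mem_kernel (w := (⟨(w : G), h.le_sup w.2⟩ : L))
          (by rw [h.sup_eq_subgroupOf]; exact Subgroup.mem_subgroupOf.mpr w.2) hk
      rw [Pi.sub_apply, h.apply_notMem_kernel (hS hφS) hnK, h.apply_notMem_kernel (hS (hconj φ hφS)) hnK, sub_self]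
    by_contra hne0
    have hα1 := hR.orthonormal φ hφ' α hα α hα
    rw [if_pos rfl] at hα1
    obtain ⟨ε, hε, eα⟩ := (signed_cases (irr_or_neg_of_norm_one (hR.virtual φ hφ' α hα) hα1)
      (hχ.irr_or_neg ω)).resolve_left hne0
    rw [hR.sum_eq φ hφ', classInner_sum_left, Finset.sum_eq_single α] at h0
    · exact hne0 h0
    · intro β hβ hβα
      have := hR.orthonormal φ hφ' β hβ α hα
      rw [if_neg hβα, eα, classInner_smul_right] at this
      refine (mul_eq_zero.mp this).resolve_left ?_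
      rcases hε with rfl | rfl <;> simp
    · exact fun hn => absurd hα hn
  refine ⟨RS, ⟨hne, fun φ hφ => h.isCharacter_of_mem (hS hφ), hconj, fun φ hφ => h.indSet_conj_ne hodd (hS hφ),
    hiso, hτ1, fun φ hφ ψ hψ hne' => h.indSet_orthogonal (hS hφ) (hS hψ) hne', ?_, ?_, ?_, ?_⟩, hcol, horth⟩
  · intro φ hφ α hα β hβ
    rcases h.indSet_cases (hS hφ) with ⟨b, hb, rfl⟩ | ⟨hi, -⟩
    · rw [hcol b hb, colSystem, Finset.mem_image] at hα hβ
      obtain ⟨p, -, rfl⟩ := hα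
      obtain ⟨q, -, rfl⟩ := hβ
      rw [h.classInner_colElt hχ (h.col_sep hb)]
      exact if_congr ⟨fun e => by rw [e.2], fun e => ⟨rfl, h.colElt_injective hχ hb e⟩⟩ rfl rfl
    · obtain ⟨e, hφ'⟩ := hirrR φ hφ hi
      rw [e] at hα hβ
      exact (hR₀ ⟨φ, hφ'⟩).orthonormal φ hφ' α hα β hβ
  · intro φ hφ α hα
    rcases h.indSet_cases (hS hφ) with ⟨b, hb, rfl⟩ | ⟨hi, -⟩
    · rw [hcol b hb, colSystem, Finset.mem_image] at hα
      obtain ⟨p, -, rfl⟩ := hα
      exact h.isGenChar_colElt hχ b p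
    · obtain ⟨e, hφ'⟩ := hirrR φ hφ hi
      rw [e] at hα
      exact (hR₀ ⟨φ, hφ'⟩).virtual φ hφ' α hα
  · intro φ hφ
    rcases h.indSet_cases (hS hφ) with ⟨b, hb, rfl⟩ | ⟨hi, -⟩
    · rw [hcol b hb, h.sum_colSystem hχ hb, h.conjFun_muSum, hτdef,
        h.dade_muSum_sub hχ hb (h.inv_ne_one₂ hb) (h.colChar_inv_one b).symm]
    · obtain ⟨e, hφ'⟩ := hirrR φ hφ hi
      rw [e]
      exact (hR₀ ⟨φ, hφ'⟩).sum_eq φ hφ'
  · intro φ hφ ψ hψ h1 h2 α hα β hβ
    rcases h.indSet_cases (hS hφ) with ⟨b, hb, rfl⟩ | ⟨hi, -⟩ <;>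
      rcases h.indSet_cases (hS hψ) with ⟨c, hc, rfl⟩ | ⟨hi', -⟩
    · rw [hcol b hb, colSystem, Finset.mem_image] at hβ
      rw [hcol c hc, colSystem, Finset.mem_image] at hα
      obtain ⟨p, -, rfl⟩ := hα
      obtain ⟨q, -, rfl⟩ := hβ
      rw [h.ti.classInner_muSum] at h1
      rw [h.conjFun_muSum, h.ti.classInner_muSum] at h2
      have hcb : c ≠ b := fun e => by
        rw [if_pos e] at h1
        exact Nat.cast_ne_zero.mpr Nat.card_pos.ne' h1
      have hcb' : c ≠ b⁻¹ := fun e => by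
        rw [if_pos e] at h2
        exact Nat.cast_ne_zero.mpr Nat.card_pos.ne' h2
      rw [h.classInner_colElt hχ (b := c) (c := b) ?_ p q, if_neg fun e => hcb e.1]
      intro s t e
      rcases s with _ | _ <;> rcases t with _ | _ <;> simp at e
      · exact absurd (by rw [← h.inv_inv₂ c, e, h.inv_inv₂]) hcb
      · exact absurd (by rw [← h.inv_inv₂ c, e]) hcb'
      · exact absurd e hcb'
      · exact absurd e hcb
    · rw [hcol b hb, colSystem, Finset.mem_image] at hβ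
      obtain ⟨q, -, rfl⟩ := hβ
      obtain ⟨x, -, ex⟩ := h.colElt_eq (χ := χ) b q
      rw [ex, classInner_smul_right, horth ψ hψ hi' α hα, mul_zero]
    · rw [hcol c hc, colSystem, Finset.mem_image] at hα
      obtain ⟨q, -, rfl⟩ := hα
      obtain ⟨x, -, ex⟩ := h.colElt_eq (χ := χ) c q
      rw [ex, classInner_smul_left, ← classInner_comm, horth φ hφ hi β hβ, map_zero, mul_zero]
    · obtain ⟨e, hφ'⟩ := hirrR φ hφ hi
      obtain ⟨e', hψ'⟩ := hirrR ψ hψ hi'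
      rw [e] at hβ
      rw [e'] at hα
      exact (hR₀ ⟨φ, hφ'⟩).disjoint φ hφ' ψ hψ' h1 h2 α hα β hβ

/-- **(5.8)** In a coherent set with a further member the image of a column sum is a signed column. -/
theorem coherent_muSum [Fintype (W₁.subgroupOf L →* ℂˣ)] (hχ : IsCyclicTIFamily W₁ W₂ χ)
    {S : Set (L → ℂ)} (hS : S ⊆ indSet K H) {RS : (L → ℂ) → Finset (G → ℂ)}
    (hsys : IsCoherenceSystem S (dadeIsometry A₀ L R) RS)
    (hcol : ∀ b, b ≠ 1 → RS (h.ti.muSum b) = h.colSystem χ b)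
    (hirrorth : ∀ φ ∈ S, IsIrrCharacter L φ → ∀ α ∈ RS φ, ∀ ω, classInner α (χ ω) = 0)
    {S₁ : Set (L → ℂ)} (hS₁ : S₁ ⊆ S) (hconj₁ : ∀ φ ∈ S₁, conjFun φ ∈ S₁)
    {τ₁ : (L → ℂ) → (G → ℂ)} (hτ₁ : IsLinearIsometryOn (zspan S₁) τ₁)
    (hagree : ∀ α ∈ zspanOn S₁ {1}ᶜ, τ₁ α = dadeIsometry A₀ L R α)
    {b : W₂.subgroupOf L →* ℂˣ} (hb : b ≠ 1) (hbS : h.ti.muSum b ∈ S₁)
    (hmore : ∃ ξ ∈ S₁, ξ ≠ h.ti.muSum b ∧ ξ ≠ h.ti.muSum b⁻¹) :
    τ₁ (h.ti.muSum b) = h.sgn b • ∑ a : W₁.subgroupOf L →* ℂˣ, χ (h.idx a b) ∨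
      τ₁ (h.ti.muSum b) = -(h.sgn b • ∑ a : W₁.subgroupOf L →* ℂˣ, χ (h.idx a b⁻¹)) := by
  classical
  obtain ⟨ξ, hξ, hξb, hξb'⟩ := hmore
  have hξ1 : ξ ∈ zspan S₁ := Submodule.subset_span hξ
  have hμ1 : h.ti.muSum b ∈ zspan S₁ := Submodule.subset_span hbS
  obtain ⟨B, hB, hBsum, -, hBcard⟩ := exists_image_subset hsys hS₁ hτ₁ hagree hbS (hconj₁ _ hbS)
  obtain ⟨B', hB', hB'sum, -, -⟩ := exists_image_subset hsys hS₁ hτ₁ hagree hξ (hconj₁ _ hξ)
  rw [hcol b hb] at hB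
  set P := Finset.univ.filter fun p => h.colElt χ b p ∈ B with hP
  have hBP : B = P.image (h.colElt χ b) := by
    ext α
    constructor
    · intro hα
      obtain ⟨p, -, rfl⟩ := Finset.mem_image.mp (hB hα)
      exact Finset.mem_image_of_mem _ (Finset.mem_filter.mpr ⟨Finset.mem_univ _, hα⟩)
    · intro hα
      obtain ⟨p, hp, rfl⟩ := Finset.mem_image.mp hα
      exact (Finset.mem_filter.mp hp).2
  have hinj := h.colElt_injective hχ hb
  have hτμ : τ₁ (h.ti.muSum b) = ∑ p ∈ P, h.colElt χ b p := by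
    rw [hBsum, hBP, Finset.sum_image fun p _ q _ e => hinj e]
  have hPcard : P.card = Nat.card (W₁.subgroupOf L) := by
    rw [hBP, Finset.card_image_of_injective _ hinj, h.ti.classInner_muSum, if_pos rfl] at hBcard
    exact_mod_cast hBcard
  -- tables
  have hTμ : ∀ a y, classInner (τ₁ (h.ti.muSum b)) (χ (h.idx a y)) =
      if y = b ∧ (a, true) ∈ P then h.sgn b else if y = b⁻¹ ∧ (a, false) ∈ P then -h.sgn b else 0 := by
    intro a y
    rw [hτμ, classInner_sum_left]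
    by_cases h1 : y = b ∧ (a, true) ∈ P
    · obtain ⟨rfl, hp⟩ := h1
      rw [if_pos ⟨rfl, hp⟩, Finset.sum_eq_single (a, true) (fun q _ hq => h.classInner_colElt_idx hχ _ q
        fun e => hq (Prod.ext e.1 (h.col_sep hb q.2 true (by simpa using e.2)).2)) (fun hn => absurd hp hn)]
      simp [colElt, classInner_smul_left, hχ.orthonormal]
    rw [if_neg h1]
    by_cases h2 : y = b⁻¹ ∧ (a, false) ∈ P
    · obtain ⟨rfl, hp⟩ := h2
      rw [if_pos ⟨rfl, hp⟩, Finset.sum_eq_single (a, false) (fun q _ hq => h.classInner_colElt_idx hχ _ q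
        fun e => hq (Prod.ext e.1 (h.col_sep hb q.2 false (by simpa using e.2)).2)) (fun hn => absurd hp hn)]
      simp [colElt, classInner_smul_left, classInner_neg_left, hχ.orthonormal]
    rw [if_neg h2]
    refine Finset.sum_eq_zero fun q hq => h.classInner_colElt_idx hχ _ q fun e => ?_
    rcases q with ⟨a', _ | _⟩ <;> simp at e <;> obtain ⟨rfl, rfl⟩ := e
    · exact h2 ⟨rfl, hq⟩
    · exact h1 ⟨rfl, hq⟩
  have hξ_one : ∀ a, classInner (τ₁ ξ) (χ (h.idx a 1)) = 0 := fun a => by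
    rw [hB'sum, classInner_sum_left]
    refine Finset.sum_eq_zero fun α hα => ?_
    have hαR := hB' hα
    rcases h.indSet_cases (hS (hS₁ hξ)) with ⟨c, hc, rfl⟩ | ⟨hi, -⟩
    · rw [hcol c hc, colSystem, Finset.mem_image] at hαR
      obtain ⟨q, -, rfl⟩ := hαR
      refine h.classInner_colElt_idx hχ _ q fun e => ?_
      rcases q with ⟨a', _ | _⟩ <;> simp at e <;> first | exact hc e.2 | exact h.inv_ne_one₂ hc e.2
    · exact hirrorth ξ (hS₁ hξ) hi α hαR _
  have hξ_col : ∀ a (s : Bool), classInner (τ₁ ξ) (χ (h.idx a (if s then b else b⁻¹))) = 0 := fun a s => by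
    have hz := cs_image_orth hsys hS₁ hτ₁ hagree hξ (hconj₁ _ hξ) (hS₁ hbS) hξb
      (by rw [h.conjFun_muSum]; exact hξb') (h.colElt χ b (a, s))
      (by rw [hcol b hb]; exact Finset.mem_image_of_mem _ (Finset.mem_univ _))
    obtain ⟨x, hx, ex⟩ := h.colElt_eq (χ := χ) b (a, s)
    rw [ex, classInner_smul_right] at hz
    refine (mul_eq_zero.mp hz).resolve_left ?_
    rcases hx with rfl | rfl <;> simp
  -- the difference supported in the Dade set
  obtain ⟨k, hk⟩ := char_one_eq_natCast (hsys.isCharacter _ (hS₁ hbS))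
  obtain ⟨m, hm⟩ := char_one_eq_natCast (hsys.isCharacter _ (hS₁ hξ))
  have hm0 : (m : ℂ) ≠ 0 := fun e => by
    refine hsys.conj_ne ξ (hS₁ hξ) ?_
    rw [char_eq_zero_of_deg_zero (hsys.isCharacter _ (hS₁ hξ)) (hm.trans e)]
    funext x; simp [conjFun]
  have hmem := deg_comb_mem hbS hξ hk hm
  have hmemS : (m : ℤ) • h.ti.muSum b - (k : ℤ) • ξ ∈ zspanOn S {1}ᶜ := ⟨Submodule.span_mono hS₁ hmem.1, hmem.2⟩
  have hY : dadeIsometry A₀ L R ((m : ℤ) • h.ti.muSum b - (k : ℤ) • ξ) =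
      (m : ℂ) • τ₁ (h.ti.muSum b) - (k : ℂ) • τ₁ ξ := by
    rw [← hagree _ hmem, li_comb hτ₁ hμ1 hξ1, Int.cast_natCast, Int.cast_natCast]
  have hcl : IsClassFunction L ((m : ℤ) • h.ti.muSum b - (k : ℤ) • ξ) :=
    (isGenChar_iff_coeff_int.mp (zspan_genChar (fun ψ hψ => isGenChar_of_char (h.isCharacter_of_mem (hS hψ))) hmemS.1)).1
  have hconst : ∀ a a' (s : Bool), classInner (τ₁ (h.ti.muSum b)) (χ (h.idx a (if s then b else b⁻¹))) =
      classInner (τ₁ (h.ti.muSum b)) (χ (h.idx a' (if s then b else b⁻¹))) := by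
    intro a a' s
    have key := h.table_additive hχ (isClassFunction_dade h.dade hcl) (fun w h1 h2 => by
      rw [h.dade_apply_V hcl w.2 h1 h2]
      have hnK : (⟨(w : G), h.le_sup w.2⟩ : L) ∉ K := fun hk => h2 <| Subgroup.mem_subgroupOf.mp <|
        h.ti.mem₂_of_mem_kernel (w := (⟨(w : G), h.le_sup w.2⟩ : L))
          (by rw [h.sup_eq_subgroupOf]; exact Subgroup.mem_subgroupOf.mpr w.2) hk
      rw [Pi.sub_apply, Pi.smul_apply, Pi.smul_apply, h.apply_notMem_kernel (hS (hS₁ hbS)) hnK,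
        h.apply_notMem_kernel (hS (hS₁ hξ)) hnK, smul_zero, smul_zero, sub_zero])
      a a' (if s then b else b⁻¹) 1
    simp only [hY, classInner_sub_left, classInner_smul_left, hξ_one, hξ_col, hTμ _ 1, hb.symm,
      (h.inv_ne_one₂ hb).symm, false_and, if_false, mul_zero, sub_zero, add_zero, zero_add] at key
    exact mul_left_cancel₀ hm0 key
  have hall : ∀ (s : Bool) a a', (a, s) ∈ P → (a', s) ∈ P := by
    intro s a a' hp
    have e := hconst a a' s
    rw [hTμ, hTμ] at e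
    have hne := h.ti.inv_ne_self₂ hb
    have hδ : h.sgn b ≠ 0 := h.ti.delta_ne_zero _
    by_contra hp'
    rcases s with _ | _ <;> simp [hp, hp', hne, hne.symm, hδ] at e
  have hw := h.ti.three_le₁
  have hcases : P = Finset.univ.filter (fun p => p.2 = true) ∨ P = Finset.univ.filter (fun p => p.2 = false) := by
    have hbool : ∀ s : Bool, ((Finset.univ : Finset ((W₁.subgroupOf L →* ℂˣ) × Bool)).filter fun p => p.2 = s).card =
        Nat.card (W₁.subgroupOf L) := fun s => by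
      rw [show (Finset.univ.filter fun p : (W₁.subgroupOf L →* ℂˣ) × Bool => p.2 = s) =
          Finset.univ ×ˢ ({s} : Finset Bool) by ext ⟨x, y⟩; simp [eq_comm], Finset.card_product, Finset.card_univ,
        Finset.card_singleton, mul_one, h.ti.card_hom₁]
    obtain ⟨⟨a₀, s₀⟩, hp₀⟩ : P.Nonempty := Finset.card_pos.mp (by omega)
    have hsub : (Finset.univ.filter fun p : (W₁.subgroupOf L →* ℂˣ) × Bool => p.2 = s₀) ⊆ P := by
      intro p hp
      obtain ⟨-, rfl⟩ := Finset.mem_filter.mp hp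
      exact hall _ a₀ p.1 hp₀
    have e := (Finset.eq_of_subset_of_card_le hsub (by rw [hPcard, hbool])).symm
    rcases s₀ with _ | _
    · exact Or.inr e
    · exact Or.inl e
  rw [hτμ]
  refine hcases.imp (fun e => ?_) fun e => ?_ <;>
    rw [e, Finset.sum_filter, Fintype.sum_prod_type, Finset.smul_sum]
  · exact Finset.sum_congr rfl fun a _ => by simp [colElt]
  · rw [← Finset.sum_neg_distrib]
    exact Finset.sum_congr rfl fun a _ => by simp [colElt]

end Family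

end IsPrimeDade

end CfsgLib.OddOrder.Found
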